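import Cfsg.Agent.Mrg.Omega.KL.TwoZ.Inp
import Cfsg.Agent.Mrg.Omega.NOThreeL.RWide.Typ
import Cfsg.Agent.Mrg.Omega.EK3.Rank
import Cfsg.Agent.Mrg.Omega.OM.KTwo.Cut

section


/-!
# THEOREM KL*(q) on the level of subgroups

`C` acts on the elementary abelian `M` by conjugation, `T` is a Sylow 2-subgroup of `C`, `Z`, `Y ≤ M` are normalised by
`N_C(T)`, `T` centralises `Z`, `C` centralises `C_Y(T)`; every `T`-minimal `P ≤ C` centralises `Z`, or its elements of
odd order centralise `Y`; `A ≤ O₂(C_C(Z)) ∩ O₂(C_C(Y) T)` is exact modulo `C_A(⟨Z^C⟩) = C_A(M)`.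

* `GQ C T A M Z Y` : this situation;  `GQ.preQ` : `TwoZ.PreQ`;  **`GQ.false_of`** : contradiction (with (ML) and EXT).
-/

set_option autoImplicit false
set_option linter.unusedSectionVars false

namespace Cfsg.Agent.Omega.NOThreeL.RWide

open Subgroup Cfsg Cfsg.Agent.Omega.MinPar
open Cfsg.Agent.ZN (o2 zc)
open Cfsg.Agent.ClassTwoFusion.Quad Cfsg.Agent.Omega.ML.MinFrame
open Cfsg.Agent.MinSimple.MinParabolic (IsMinPar)
open Cfsg.Agent.Omega.NoFF.Basic (comm_symm comm_mono)
open Cfsg.Agent.Omega.KL.TwoZ (PreQ actX)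
open Cfsg.Agent.Omega.KL (Plug.sub_o2 Plug.minPar_map)

universe u v

/-- the input on the level of subgroups of `G` -/
structure GQ {G : Type u} [Group G] (C T A M Z Y : Subgroup G) : Prop where
  CM : C ≤ normalizer (M : Set G)
  sqM : ∀ m ∈ M, m ^ 2 = 1
  TC : T ≤ C
  two : IsPGroup 2 T
  syl : ¬ 2 ∣ T.relIndex C
  ZM : Z ≤ M
  YM : Y ≤ M
  TZ : T ≤ centralizer (Z : Set G)
  NZ : C ⊓ normalizer (T : Set G) ≤ normalizer (Z : Set G)
  NY : C ⊓ normalizer (T : Set G) ≤ normalizer (Y : Set G)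
  cY : C ≤ centralizer ((Y ⊓ centralizer (T : Set G) : Subgroup G) : Set G)
  par : ∀ P : Subgroup G, IsMinPar T P → P ≤ C → P ≤ centralizer (Z : Set G) ∨
    ∀ g ∈ P, Odd (orderOf g) → g ∈ centralizer (Y : Set G)
  AT : A ≤ T
  sqA : ∀ a ∈ A, a ^ 2 = 1
  AZ : A ≤ o2 (C ⊓ centralizer (Z : Set G))
  AY : A ≤ o2 (C ⊓ centralizer (Y : Set G) ⊔ T)
  mv : ¬ A ≤ centralizer (M : Set G)
  ker : A ⊓ centralizer (XS Z C : Set G) ≤ centralizer (M : Set G)
  le : (centralizer (A : Set G)).relIndex M ≤ (centralizer (M : Set G)).relIndex A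
  no : ∀ B : Subgroup G, B ≤ A → (centralizer (M : Set G)).relIndex B ≤ (centralizer (B : Set G)).relIndex M
  K : IsKGroup C

namespace GQ

variable {G : Type u} [Group G] {C T A M Z Y : Subgroup G}

theorem preQ [Finite G] (h : GQ C T A M Z Y) :
    letI := actX h.CM
    PreQ (T.subgroupOf C) (A.subgroupOf C) (Z.subgroupOf M) (Y.subgroupOf M) := by
  let := actX h.CM
  change PreQ (T.subgroupOf C) (A.subgroupOf C) (Z.subgroupOf M) (Y.subgroupOf M)
  have hAC : A ≤ C := h.AT.trans h.TC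
  have hsm : ∀ (c : C) (m : M), ((c • m : M) : G) = c * m * (c : G)⁻¹ := fun _ _ => rfl
  have hfix : ∀ (c : C) (m : M), c • m = m ↔ (m : G) * c = c * m := by
    intro c m
    rw [Subtype.ext_iff, hsm, mul_inv_eq_iff_eq_mul, eq_comm]
  have hnrm : ∀ (Y : Subgroup G) (c : C), (c : G) ∈ normalizer (Y : Set G) → ∀ m ∈ Y.subgroupOf M,
      c • m ∈ Y.subgroupOf M := by
    intro Y c hc m hm
    refine mem_subgroupOf.2 ?_
    rw [hsm]
    exact (mem_normalizer_iff.1 hc _).1 (mem_subgroupOf.1 hm)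
  have hfxr : ∀ Y : Subgroup G, Y ≤ M → fxr C (Y.subgroupOf M) = (centralizer (Y : Set G)).subgroupOf C := by
    intro Y hY
    ext c
    rw [mem_subgroupOf, mem_centralizer_iff]
    constructor
    · intro h y hy
      exact (hfix c ⟨y, hY hy⟩).1 (h _ (mem_subgroupOf.2 hy))
    · intro h y hy
      exact (hfix c y).2 (h _ (mem_subgroupOf.1 hy))
  have hfxt : fxr C (⊤ : Subgroup M) = (centralizer (M : Set G)).subgroupOf C := by
    rw [← hfxr M le_rfl, subgroupOf_self]
  have hcv : ∀ B : Subgroup G, B ≤ C → cv M (B.subgroupOf C : Set C) = (centralizer (B : Set G)).subgroupOf M := by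
    intro B hB
    ext m
    rw [mem_subgroupOf, mem_centralizer_iff]
    constructor
    · intro h b hb
      exact ((hfix ⟨b, hB hb⟩ m).1 (h _ (mem_subgroupOf.2 hb))).symm
    · intro h b hb
      exact (hfix b m).2 (h b (mem_subgroupOf.1 hb)).symm
  have hnT : ∀ g : C, g ∈ normalizer ((T.subgroupOf C : Subgroup C) : Set C) → (g : G) ∈ C ⊓ normalizer (T : Set G) := by
    intro g hg
    refine mem_inf.2 ⟨g.2, ?_⟩
    rw [mem_normalizer_iff]
    intro t
    constructor
    · intro ht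
      exact (mem_normalizer_iff.1 hg ⟨t, h.TC ht⟩).1 ht
    · intro ht
      have h1 : (g : G)⁻¹ * ((g : G) * t * (g : G)⁻¹) * (g : G)⁻¹⁻¹ ∈ T :=
        (mem_normalizer_iff.1 (inv_mem hg) ⟨(g : G) * t * (g : G)⁻¹, h.TC ht⟩).1 ht
      have e : (g : G)⁻¹ * ((g : G) * t * (g : G)⁻¹) * (g : G)⁻¹⁻¹ = t := by group
      rwa [e] at h1
  refine ⟨?_, ?_, h.syl, ?_, ?_, ?_, ?_, ?_, ?_, ?_, ?_, ?_, ?_, ?_, ?_, h.K⟩
  · intro m
    apply Subtype.ext
    have h1 := h.sqM m m.2
    rw [pow_two] at h1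
    exact h1
  · exact h.two.comap_of_injective C.subtype C.subtype_injective
  · intro z hz t ht
    rw [hfix]
    exact mem_centralizer_iff.1 (h.TZ (mem_subgroupOf.1 ht)) z (mem_subgroupOf.1 hz)
  · exact fun g hg => hnrm _ g (h.NZ (hnT g hg))
  · exact fun g hg => hnrm _ g (h.NY (hnT g hg))
  · intro w hw hwT g
    rw [hfix]
    refine mem_centralizer_iff.1 (h.cY g.2) w ⟨mem_subgroupOf.1 hw, ?_⟩
    change (w : G) ∈ centralizer (T : Set G)
    rw [mem_centralizer_iff]
    intro t ht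
    exact ((hfix ⟨t, h.TC ht⟩ w).1 (hwT _ (mem_subgroupOf.2 ht))).symm
  · intro P hP
    rcases h.par _ (Plug.minPar_map h.TC hP) (map_subtype_le P) with h1 | h1
    · left
      intro z hz p hp
      rw [hfix]
      exact mem_centralizer_iff.1 (h1 (mem_map_of_mem C.subtype hp)) z (mem_subgroupOf.1 hz)
    · right
      intro g hg hog w hw
      rw [hfix]
      exact mem_centralizer_iff.1 (h1 g (mem_map_of_mem C.subtype hg) (by rwa [orderOf_coe])) w (mem_subgroupOf.1 hw)
  · intro a ha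
    apply Subtype.ext
    have h1 := h.sqA a (mem_subgroupOf.1 ha)
    rw [pow_two] at h1
    exact h1
  · refine Plug.sub_o2 (S := C ⊓ centralizer (Z : Set G)) (fun c => ?_) h.AZ
    rw [hfxr _ h.ZM, mem_subgroupOf]
    exact ⟨fun h1 => ⟨c.2, h1⟩, fun h1 => h1.2⟩
  · refine Plug.sub_o2 (S := C ⊓ centralizer (Y : Set G) ⊔ T) (fun c => ?_) h.AY
    have e : (C ⊓ centralizer (Y : Set G)).subgroupOf C = (centralizer (Y : Set G)).subgroupOf C := by
      rw [inf_subgroupOf_left]
    rw [hfxr Y h.YM, ← e, ← subgroupOf_sup inf_le_left h.TC, mem_subgroupOf]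
  · intro a ha hc m
    rw [hfix]
    have h1 : (a : G) ∈ centralizer (XS Z C : Set G) := by
      have h2 : XS Z C ≤ centralizer ({(a : G)} : Set G) := by
        refine XS_le fun c hc' z hz => ?_
        rw [mem_centralizer_iff]
        rintro _ rfl
        have h3 := (hfix a _).1 (hc ⟨c, hc'⟩ ⟨z, h.ZM hz⟩ (mem_subgroupOf.2 hz))
        exact h3.symm
      rw [mem_centralizer_iff]
      intro x hx
      exact (mem_centralizer_iff.1 (h2 hx) a rfl).symm
    exact mem_centralizer_iff.1 (h.ker ⟨mem_subgroupOf.1 ha, h1⟩) m m.2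
  · by_contra hcon
    push Not at hcon
    apply h.mv
    intro a ha
    rw [mem_centralizer_iff]
    intro m hm
    exact (hfix ⟨a, hAC ha⟩ ⟨m, hm⟩).1 (hcon _ (mem_subgroupOf.2 ha) ⟨m, hm⟩)
  · intro B hB
    set B' : Subgroup G := B.map C.subtype with hB'
    have hBB : B'.subgroupOf C = B := comap_map_eq_self_of_injective C.subtype_injective B
    have hB'A : B' ≤ A := by
      rintro _ ⟨b, hb, rfl⟩
      exact mem_subgroupOf.1 (hB hb)
    have h1 := h.no B' hB'A
    rw [hfxt, ← hBB, hcv B' (hB'A.trans hAC), relIndex_subgroupOf (hB'A.trans hAC)]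
    exact h1
  · rw [hfxt, hcv A hAC, relIndex_subgroupOf hAC]
    exact h.le

/-- **THEOREM KL*(q)** on the level of subgroups, with EXT -/
theorem false_of [Finite G] (hM : ML.Final.MLK.{u, u}) (hE : ML.Ex.Two.Ext.{u, u}) (h : GQ C T A M Z Y) : False := by
  let := actX h.CM
  obtain ⟨H, _, _, _, T', A', i⟩ := h.preQ.inp
  exact i.false_of hM hE

end GQ

end Cfsg.Agent.Omega.NOThreeL.RWide

end

section


/-!
# NO-3L, box R: at least three types are impossible (#24089, #23252, #23600)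

`D = C_G(Z)`, `O = O₂(D)`, `N_j = ⟨Z_j^(Y_j)⟩`, `X_ij = ⟨Z_j^(C_(Y_j)(V_i))⟩`, `E_ij = ⟨Z^⟨D, LL i, LL j⟩⟩`.

* `Typed.sit` : the frame `EXN.Sit`;  `Typed.big` : `EXN.Big` (with (ML) and EXT);
* **`Typed.false_of`** : `Typed S Z V` is impossible.
-/

set_option autoImplicit false
set_option linter.unusedSectionVars false

namespace Cfsg.Agent.Omega.NOThreeL.RWide

open Subgroup Cfsg Cfsg.Agent.ZN Cfsg.Agent.Omega.MinPar Cfsg.Agent.Omega.Frame Cfsg.Agent.Omega.FrameNOFF
open Cfsg.Agent.Omega.Node.NO3L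
open Cfsg.Agent.ZN.ChoiceBase (cj cj_mono cj_inf cj_centralizer cj_eq_of_mem_normalizer mem_cj mem_normalizer_iff_cj
  cj_cj_inv cj_inv_cj)
open Cfsg.Agent.Omega.NoFF.Basic (comm_symm comm_mono)
open Cfsg.Agent.Omega.NO3S.EThree Cfsg.Agent.Omega.NO3S.EThree.ExactA
open Cfsg.Agent.Omega.EK3.Rank (NoOn)
open Cfsg.Agent.Omega.ML.Final (MLK)
open Cfsg.Agent.MinSimple.MinParabolic (IsMinPar)
open Cfsg.Agent.Omega.EXN

universe u v

namespace TypB

variable {G : Type u} [Group G] [Finite G] {S : Sylow 2 G} {ι : Type v} {Z V : ι → Subgroup G}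

/-- `N_j` -/
abbrev NN (Z : ι → Subgroup G) (j : ι) : Subgroup G := XS (Z j) (YY Z j)

/-- `X_ij` -/
abbrev XX (Z V : ι → Subgroup G) (i j : ι) : Subgroup G := XS (Z j) (YY Z j ⊓ centralizer (V i : Set G))

/-- `⟨D, LL i, LL j⟩` -/
abbrev WW (S : Subgroup G) (Z : ι → Subgroup G) (i j : ι) : Subgroup G := CZ S ⊔ (LL S Z i ⊔ LL S Z j)

variable (T : TypB (S : Subgroup G) Z V)
include T

theorem locW (i j : ι) : IsLoc (S : Subgroup G) (WW (S : Subgroup G) Z i j) := by
  obtain ⟨l, h1, h2⟩ := T.three i j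
  refine T.isLoc_of (l := l) ((le_CZ S).trans le_sup_left) (sup_le (centralizer_le (T.le l)) (sup_le ?_ ?_))
  · exact (LL_le _ _ _).trans (YY_le_cent h1)
  · exact (LL_le _ _ _).trans (YY_le_cent h2)

theorem longW (i j : ι) : IsLong (S : Subgroup G) (WW (S : Subgroup G) Z i j) := ⟨T.locW i j, le_sup_left⟩

/-- `⟨Z_j^(Y_j)⟩ ≤ U` -/
theorem NN_le {j : ι} {U : Subgroup G} (hZ : Z j ≤ U) (hD : CZ (S : Subgroup G) ≤ normalizer (U : Set G))
    (hL : LL (S : Subgroup G) Z j ≤ normalizer (U : Set G)) : NN Z j ≤ U :=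
  XS_le_of hZ ((T.YY_le j).trans (sup_le hD hL))

/-- `LL i` normalises `C_{Y_j}(V_i)` -/
theorem LL_norm_H {i j : ι} (hij : i ≠ j) :
    LL (S : Subgroup G) Z i ≤ normalizer ((YY Z j ⊓ centralizer (V i : Set G) : Subgroup G) : Set G) := by
  have key : ∀ g ∈ LL (S : Subgroup G) Z i, ∀ r ∈ YY Z j ⊓ centralizer (V i : Set G),
      g * r * g⁻¹ ∈ YY Z j ⊓ centralizer (V i : Set G) := by
    intro g hg r hr
    have h1 : g * r * g⁻¹ ∈ centralizer (V i : Set G) := by
      have h2 := T.LL_norm_V i hg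
      rw [mem_normalizer_iff_cj] at h2
      have h3 : g * r * g⁻¹ ∈ cj g (centralizer (V i : Set G)) := by
        rw [mem_cj]
        have e : g⁻¹ * (g * r * g⁻¹) * g = r := by group
        rw [e]
        exact hr.2
      rwa [cj_centralizer, h2] at h3
    refine ⟨?_, h1⟩
    change g * r * g⁻¹ ∈ YY Z j
    rw [YY, mem_centralizer_iff]
    rintro x ⟨l, hl, hx⟩
    by_cases hli : l = i
    · subst hli
      exact mem_centralizer_iff.1 h1 x (T.ZV l hx)
    · have h2 : x * g = g * x := mem_centralizer_iff.1 (YY_le_cent hli (LL_le _ _ _ hg)) x hx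
      have h3 : x * r = r * x := mem_centralizer_iff.1 (YY_le_cent hl hr.1) x hx
      have h4 : x * g⁻¹ = g⁻¹ * x := by
        rw [eq_inv_mul_iff_mul_eq, ← mul_assoc, ← h2, mul_inv_cancel_right]
      calc x * (g * r * g⁻¹) = (x * g) * r * g⁻¹ := by group
        _ = g * (x * r) * g⁻¹ := by rw [h2]; group
        _ = g * r * (x * g⁻¹) := by rw [h3]; group
        _ = g * r * g⁻¹ * x := by rw [h4]; group
  intro g hg
  rw [mem_normalizer_iff]
  intro r
  refine ⟨key g hg r, fun h => ?_⟩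
  have h1 := key g⁻¹ (inv_mem hg) _ h
  have e : g⁻¹ * (g * r * g⁻¹) * g⁻¹⁻¹ = r := by group
  rwa [e] at h1

/-- `LL i` normalises `X_ij` -/
theorem LL_norm_X {i j : ι} (hij : i ≠ j) :
    LL (S : Subgroup G) Z i ≤ normalizer ((XX Z V i j : Subgroup G) : Set G) := fun _ hg =>
  mem_normalizer_XS (centralizer_le_normalizer _ (YY_le_cent hij.symm (LL_le _ _ _ hg))) (T.LL_norm_H hij hg)

theorem S_norm_H (i j : ι) :
    (S : Subgroup G) ≤ normalizer ((YY Z j ⊓ centralizer (V i : Set G) : Subgroup G) : Set G) := by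
  intro s hs
  rw [mem_normalizer_iff_cj, cj_inf, cj_centralizer, cj_eq_of_mem_normalizer (le_normalizer (T.S_le j hs)),
    cj_eq_of_mem_normalizer (T.SV i hs)]

/-- `C_O(N_i) = O₂(C_{Y_i}(N_i))` is normalised by `Y_i` -/
theorem YY_norm_Q (i : ι) : YY Z i ≤
    normalizer ((o2 (CZ (S : Subgroup G)) ⊓ centralizer (NN Z i : Set G) : Subgroup G) : Set G) := by
  set K := YY Z i ⊓ centralizer (NN Z i : Set G) with hK
  have hKC : K ≤ CZ (S : Subgroup G) := by
    refine T.le_CZ_of fun l => ?_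
    by_cases hl : l = i
    · subst hl
      exact inf_le_right.trans (centralizer_le (le_XS _ _))
    · exact inf_le_left.trans (YY_le_cent hl)
  have hYN : YY Z i ≤ normalizer (NN Z i : Set G) := le_normalizer_XS _ _
  have hYK : YY Z i ≤ normalizer (K : Set G) := by
    intro g hg
    rw [mem_normalizer_iff_cj, hK, cj_inf, cj_centralizer, cj_eq_of_mem_normalizer (le_normalizer hg),
      cj_eq_of_mem_normalizer (hYN hg)]
  have hOC : o2 (CZ (S : Subgroup G)) ≤ CZ (S : Subgroup G) := MinSimple.VModule.o2_le _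
  have e : o2 (CZ (S : Subgroup G)) ⊓ centralizer (NN Z i : Set G) = o2 K := by
    apply le_antisymm
    · refine MinSimple.VModule.le_o2 (inf_le_inf_right _ (hOC.trans (T.CZ_le i)))
        ((MinSimple.VModule.o2_isPGroup _).to_le inf_le_left) ?_
      intro g hg
      rw [mem_normalizer_iff_cj, cj_inf, cj_centralizer,
        cj_eq_of_mem_normalizer (MinSimple.VModule.le_normalizer_o2 _ (hKC hg)), cj_eq_of_mem_normalizer (hYN hg.1)]
    · refine le_inf (MinSimple.VModule.le_o2 ((MinSimple.VModule.o2_le _).trans hKC) (MinSimple.VModule.o2_isPGroup _) ?_)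
        ((MinSimple.VModule.o2_le _).trans inf_le_right)
      intro g hg
      exact Cfsg.Agent.Omega.normalizer_le_normalizer_o2' _ (hYK (T.CZ_le i hg))
  rw [e]
  intro g hg
  exact Cfsg.Agent.Omega.normalizer_le_normalizer_o2' _ (hYK hg)

variable (hc : IsCharacteristicTwoType G) (ml : MLK.{u, u})
  (kg : ∀ R : Subgroup G, IsLoc (S : Subgroup G) R → IsKGroup R) (hS : (S : Subgroup G) ≠ ⊥)
include hc

theorem NN_le_zl (j : ι) : NN Z j ≤ zl (S : Subgroup G) (YY Z j) := T.XS_le_zl le_rfl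

theorem NN_le_O (j : ι) : NN Z j ≤ o2 (CZ (S : Subgroup G)) :=
  (T.NN_le_zl hc j).trans (((T.longY j).zl_le_o2 hc S).trans ((T.longY j).o2_le S))

include ml kg hS

/-- **The frame.** -/
theorem sit : Sit (CZ (S : Subgroup G)) (o2 (CZ (S : Subgroup G))) Z (LL (S : Subgroup G) Z) (NN Z) (XX Z V) where
  OD := MinSimple.VModule.o2_le _
  nO := MinSimple.VModule.le_normalizer_o2 _
  Oz i := (MinSimple.VModule.o2_le _).trans (centralizer_le (T.le i))
  eN i := eab_mono (FFThm.elem_zl hc S (T.locY i)) (T.NN_le_zl hc i)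
  NO i := T.NN_le_O hc i
  nN i := (T.CZ_le i).trans (le_normalizer_XS _ _)
  minN _ _ h1 h2 h3 := T.NN_le h1 h2 h3
  nQ i := (LL_le _ _ _).trans (T.YY_norm_Q i)
  no i := T.noOn hc ml kg hS le_rfl ((T.S_le i).trans le_normalizer)
  XN _ _ _ := XS_mono inf_le_left
  nX _ _ h := T.LL_norm_X h
  noX i j _ := T.noOn hc ml kg hS inf_le_left (T.S_norm_H i j)

end TypB

namespace Typed

open TypB

variable {G : Type u} [Group G] [Finite G] {S : Sylow 2 G} {ι : Type v} {Z V : ι → Subgroup G}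
  (T : Typed (S : Subgroup G) Z V) (hc : IsCharacteristicTwoType G) (ml : MLK.{u, u})
  (kg : ∀ R : Subgroup G, IsLoc (S : Subgroup G) R → IsKGroup R) (hS : (S : Subgroup G) ≠ ⊥)
include T hc ml kg hS

/-- (NO) on `N ≤ E` gives the input of KL*(q) -/
theorem kl (hE : ML.Ex.Two.Ext.{u, u}) {i j : ι} (hij : i ≠ j) {F : Subgroup G} (hF : IsElementaryAbelian 2 F)
    (hFO : F ≤ o2 (CZ (S : Subgroup G))) (hm : MinOff (zl (S : Subgroup G) (WW (S : Subgroup G) Z i j)) F)
    (hX : F ≤ centralizer (XX Z V i j : Set G)) : F ≤ centralizer (NN Z j : Set G) := by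
  by_contra hN
  have Tb := T.typB
  set E := zl (S : Subgroup G) (WW (S : Subgroup G) Z i j) with hEd
  have hYW : YY Z j ≤ WW (S : Subgroup G) Z i j := (Tb.YY_le j).trans (sup_le_sup_left le_sup_right _)
  have hYWi : YY Z i ≤ WW (S : Subgroup G) Z i j := (Tb.YY_le i).trans (sup_le_sup_left le_sup_left _)
  have hNE : NN Z j ≤ E := Tb.XS_le_zl hYW
  have hNEi : NN Z i ≤ E := Tb.XS_le_zl hYWi
  have hWE : WW (S : Subgroup G) Z i j ≤ normalizer (E : Set G) := MinSimple.VModule.le_normalizer_zl _ _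
  have hEe : IsElementaryAbelian 2 E := FFThm.elem_zl hc S (Tb.locW i j)
  have hsit := Tb.sit hc ml kg hS
  obtain ⟨h1, h2, h3, h4, h5⟩ := exact_of hF hFO hm hNE (hsit.no j) hN
  have hFS : F ≤ (S : Subgroup G) := hFO.trans ((isLoc_centralizer_zc S hS).o2_le S)
  refine GQ.false_of (C := YY Z j) (T := (S : Subgroup G)) (A := F) (M := E) (Z := Z j) (Y := V i) ml hE
    { CM := hYW.trans hWE
      sqM := hEe.2
      TC := Tb.S_le j
      two := S.isPGroup'
      syl := MinSimple.Basic.not_dvd_relIndex S (Tb.S_le j)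
      ZM := (le_XS _ _).trans hNE
      YM := (T.VX i).trans hNEi
      TZ := Tb.ZC j
      NZ := fun n hn => (T.nrm j n hn.2 hn.1).1
      NY := fun n hn => (T.nrm j n hn.2 hn.1).2 i
      cY := ?_
      par := ?_
      AT := hFS
      sqA := hF.2
      AZ := ?_
      AY := ?_
      mv := hm.mov
      ker := h1
      le := hm.le
      no := ?_
      K := kg _ (Tb.locY j) }
  · -- the `S`-fixed points of `V_i`
    refine (YY_le_cent hij).trans (centralizer_le ?_)
    intro x hx
    refine T.cV i ⟨hx.1, MinSimple.VModule.mem_zc.2 ⟨?_, ?_, ?_⟩⟩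
    · exact ((T.VX i).trans ((Tb.NN_le_O hc i).trans ((isLoc_centralizer_zc S hS).o2_le S))) hx.1
    · intro s hs
      exact mem_centralizer_iff.1 hx.2 s hs
    · exact hEe.2 x (hNEi (T.VX i hx.1))
  · intro P hP hPY
    have hPp := (Tb.locY j).isPar S hP hPY
    by_cases h : IsParS (S : Subgroup G) P
    · exact Or.inr ((T.par j P h hPY).2 i hij)
    · exact Or.inl ((par_le_CZ S hPp h).trans (centralizer_le (T.le j)))
  · -- `C_{Y_j}(Z_j) = D`
    have e : YY Z j ⊓ centralizer (Z j : Set G) = CZ (S : Subgroup G) := by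
      apply le_antisymm
      · refine Tb.le_CZ_of fun l => ?_
        by_cases hl : l = j
        · subst hl
          exact inf_le_right
        · exact inf_le_left.trans (YY_le_cent hl)
      · exact le_inf (Tb.CZ_le j) (centralizer_le (T.le j))
    rw [e]
    exact hFO
  · -- `C_{Y_j}(V_i) S`
    refine le_o2_of_comm hFO (hFS.trans le_sup_right) ?_
    refine comm_symm ((Tb.zl_le_sup inf_le_left (Tb.S_norm_H i j)).trans (sup_le (comm_symm hX) ?_))
    exact comm_symm (hFO.trans (MinSimple.VModule.o2_le _))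
  · intro B hB
    have hBO := hFO.trans' hB
    have h6 := hsit.no j B (eab_mono hF hB) hBO
    have h7 : (centralizer (E : Set G)).relIndex B ≤ (centralizer (NN Z j : Set G)).relIndex B := by
      rw [← inf_relIndex_left B (centralizer (NN Z j : Set G))]
      exact Sigma.relIndex_le_left ((inf_le_inf_right _ hB).trans h1)
    exact h7.trans (h6.trans (Sigma.relIndex_le_right hNE))

/-- **`EXN.Big`** -/
theorem big (hE : ML.Ex.Two.Ext.{u, u}) : Big (CZ (S : Subgroup G)) (o2 (CZ (S : Subgroup G))) Z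
    (LL (S : Subgroup G) Z) (NN Z) (XX Z V) (fun i j => zl (S : Subgroup G) (WW (S : Subgroup G) Z i j)) where
  toSit := T.typB.sit hc ml kg hS
  eE i j _ := FFThm.elem_zl hc S (T.typB.locW i j)
  EO i j _ := ((T.typB.longW i j).zl_le_o2 hc S).trans ((T.typB.longW i j).o2_le S)
  NE i j _ := T.typB.XS_le_zl ((T.typB.YY_le j).trans (sup_le_sup_left le_sup_right _))
  symm i j := by rw [WW, WW, sup_comm (LL (S : Subgroup G) Z i)]
  DE i j _ := (le_sup_left : _ ≤ WW (S : Subgroup G) Z i j).trans (MinSimple.VModule.le_normalizer_zl _ _)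
  LE i j _ := ((le_sup_left : _ ≤ LL (S : Subgroup G) Z i ⊔ LL (S : Subgroup G) Z j).trans
    (le_sup_right : _ ≤ WW (S : Subgroup G) Z i j)).trans (MinSimple.VModule.le_normalizer_zl _ _)
  minE i j _ U h1 h2 h3 h4 := MinSimple.VModule.zl_le (T.sup.trans (iSup_le h1)) (sup_le h2 (sup_le h3 h4))
  kl i j hij F hF hFO hm hX := T.kl hc ml kg hS hE hij hF hFO hm hX

/-- **At least three types are impossible.** -/
theorem false_of [Finite ι] (hE : ML.Ex.Two.Ext.{u, u}) : False := by
  have hz := MinSimple.Basic.zc_ne_bot S.isPGroup' hS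
  obtain ⟨⟨x, hx⟩, hx1⟩ := (Subgroup.ne_bot_iff_exists_ne_one).1 hz
  have hx1' : x ≠ 1 := fun h => hx1 (Subtype.ext h)
  have hzO : zc (S : Subgroup G) ≤ o2 (CZ (S : Subgroup G)) := by
    have hL : IsLong (S : Subgroup G) (CZ (S : Subgroup G)) := ⟨isLoc_centralizer_zc S hS, le_rfl⟩
    exact zc_le_zl.trans (hL.zl_le_o2 hc S)
  obtain ⟨U, hU1, hUO, hUD, hUL⟩ := (T.big hc ml kg hS hE).exn ⟨x, hzO hx, hx1', MinSimple.VModule.zc_sq _ x hx⟩
  exact hU1 (T.non U ((MinSimple.VModule.o2_isPGroup _).to_le hUO) fun j => (T.typB.YY_le j).trans (sup_le hUD (hUL j)))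

end Typed

end Cfsg.Agent.Omega.NOThreeL.RWide

end

section


/-!
# NO-3L, box R: `Typed` from the types of the parabolics

`TT` : an `N_G(S)`-invariant set of `P ∈ P*(S)`, `⟨C_G(Z), TT⟩` nonlocal, `Z = ∏ Z_i`.

* `Ty S Z V i P` : `P` is of type `i`: it centralises the `Z_l`, `l ≠ i`, `C_{Z_i}(P) = 1`, `V_i = ⟨Z_i^P⟩`, and its elements
  of odd order centralise the `V_l`, `l ≠ i`;
* `Types S TT Z V` : every `P ∈ TT` has a type; the other `P ∈ P*(S)` with `P ≤ Y_j` normalise `V_j`, and their elements of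
  odd order centralise the `V_l`, `l ≠ j`;
* **`Types.typed`** : `Types S TT Z V → Typed S Z V`;  **`Types.false_of`** : contradiction (with (ML) and EXT).
-/

set_option autoImplicit false
set_option linter.unusedSectionVars false

namespace Cfsg.Agent.Omega.NOThreeL.RWide

open Subgroup Cfsg Cfsg.Agent.ZN Cfsg.Agent.Omega.MinPar Cfsg.Agent.Omega.Frame Cfsg.Agent.Omega.FrameNOFF
open Cfsg.Agent.Omega.Node.NO3L
open Cfsg.Agent.ZN.ChoiceBase (cj cj_mono cj_inf cj_centralizer cj_eq_of_mem_normalizer mem_cj mem_normalizer_iff_cj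
  cj_cj_inv cj_inv_cj)
open Cfsg.Agent.Omega.NoFF.Basic (comm_symm comm_mono)
open Cfsg.Agent.Omega.OM.KTwo (exists_mul_of_mem_sup)
open Cfsg.Agent.Omega.ML.Final (MLK)

universe u v

section defs

variable {G : Type u} [Group G] {ι : Type v}

/-- `P` is of type `i` -/
structure Ty (S : Subgroup G) (Z V : ι → Subgroup G) (i : ι) (P : Subgroup G) : Prop where
  par : IsParS S P
  cent : ∀ l, l ≠ i → P ≤ centralizer (Z l : Set G)
  free : Z i ⊓ centralizer (P : Set G) = ⊥
  gen : XS (Z i) P = V i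
  odd : ∀ l, l ≠ i → ∀ g ∈ P, Odd (orderOf g) → g ∈ centralizer (V l : Set G)

/-- at least three types -/
structure Types (S : Subgroup G) (TT : Set (Subgroup G)) (Z V : ι → Subgroup G) : Prop where
  three : ∀ i j : ι, ∃ l, l ≠ i ∧ l ≠ j
  ne : ∀ i, Z i ≠ ⊥
  le : ∀ i, Z i ≤ zc S
  sup : zc S ≤ ⨆ i, Z i
  cV : ∀ i, V i ⊓ zc S ≤ Z i
  inv : ∀ n ∈ normalizer (S : Set G), ∀ P ∈ TT, cj n P ∈ TT
  uni : ∀ P ∈ TT, ∃ i, Ty S Z V i P
  two : ∀ P, IsParS S P → P ∉ TT → ∀ j, P ≤ YY Z j →
    P ≤ normalizer (V j : Set G) ∧ ∀ i, i ≠ j → ∀ g ∈ P, Odd (orderOf g) → g ∈ centralizer (V i : Set G)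
  non : ∀ U : Subgroup G, IsPGroup 2 U → CZ S ≤ normalizer (U : Set G) → (∀ P ∈ TT, P ≤ normalizer (U : Set G)) →
    U = ⊥

theorem Ty.le_YY {S : Subgroup G} {Z V : ι → Subgroup G} {i : ι} {P : Subgroup G} (h : Ty S Z V i P) : P ≤ YY Z i :=
  RWide.le_YY h.cent

/-- a parabolic of type `i` moves `Z i` -/
theorem Ty.not_le {S : Subgroup G} {Z V : ι → Subgroup G} {i : ι} {P : Subgroup G} (h : Ty S Z V i P) (hi : Z i ≠ ⊥) :
    ¬ P ≤ centralizer (Z i : Set G) := by
  intro h1
  apply hi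
  rw [← h.free, eq_comm, inf_eq_left]
  exact comm_symm h1

/-- the type is determined by a `Z_j` which is moved -/
theorem Ty.eq {S : Subgroup G} {Z V : ι → Subgroup G} {i j : ι} {P : Subgroup G} (h : Ty S Z V i P)
    (hj : ¬ P ≤ centralizer (Z j : Set G)) : j = i := by
  by_contra hne
  exact hj (h.cent j hne)

end defs

namespace Types

variable {G : Type u} [Group G] [Finite G] {S : Sylow 2 G} {ι : Type v} {TT : Set (Subgroup G)} {Z V : ι → Subgroup G}
  (T : Types (S : Subgroup G) TT Z V)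
include T

theorem exists_ty (i : ι) : ∃ P ∈ TT, Ty (S : Subgroup G) Z V i P := by
  by_contra hcon
  push Not at hcon
  refine T.ne i (T.non (Z i) (S.isPGroup'.to_le ((T.le i).trans (MinSimple.VModule.zc_le _))) ?_ fun P hP => ?_)
  · exact (centralizer_le (T.le i)).trans (centralizer_le_normalizer _)
  · obtain ⟨l, hl⟩ := T.uni P hP
    refine (hl.cent i ?_).trans (centralizer_le_normalizer _)
    rintro rfl
    exact hcon P hP hl

/-- the type of a conjugate -/
theorem ty_cj {j : ι} {n : G} (hn : n ∈ normalizer ((S : Subgroup G) : Set G)) (hnY : n ∈ YY Z j) {i : ι}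
    {P : Subgroup G} (hPT : P ∈ TT) (hP : Ty (S : Subgroup G) Z V i P) : Ty (S : Subgroup G) Z V i (cj n P) := by
  obtain ⟨i', h'⟩ := T.uni _ (T.inv n hn P hPT)
  have hZn : ∀ l, l ≠ j → cj n (Z l) = Z l := fun l hl =>
    cj_eq_of_mem_normalizer (centralizer_le_normalizer _ (YY_le_cent hl hnY))
  have key : ∀ l, l ≠ j → ∀ Q : Subgroup G, cj n Q ≤ centralizer (Z l : Set G) ↔ Q ≤ centralizer (Z l : Set G) := by
    intro l hl Q
    have e : centralizer (Z l : Set G) = cj n (centralizer (Z l : Set G)) := by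
      rw [cj_centralizer, hZn l hl]
    constructor
    · intro h1
      rw [e] at h1
      have := cj_mono n⁻¹ h1
      rwa [cj_inv_cj, cj_inv_cj] at this
    · intro h1
      rw [e]
      exact cj_mono n h1
  have e : i' = i := by
    by_cases hij : i = j
    · subst hij
      by_contra hne
      refine h'.not_le (T.ne i') ((key i' hne P).2 (hP.cent i' hne))
    · exact (h'.eq fun h1 => hP.not_le (T.ne i) ((key i hij P).1 h1)).symm
  rwa [e] at h'

/-- the fixed points in `Z` of the parabolics of types `≠ j` -/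
theorem mem_of_cent [Finite ι] {j : ι} {z : G} (hz : z ∈ zc (S : Subgroup G))
    (h : ∀ l, l ≠ j → ∃ P, Ty (S : Subgroup G) Z V l P ∧ z ∈ centralizer (P : Set G)) : z ∈ Z j := by
  classical
  have := Fintype.ofFinite ι
  have hcomm : ∀ {K : Subgroup G}, K ≤ zc (S : Subgroup G) → ∀ {K' : Subgroup G}, K' ≤ zc (S : Subgroup G) →
      K ≤ normalizer (K' : Set G) := by
    intro K hK K' hK'
    refine le_trans ?_ (centralizer_le_normalizer _)
    intro x hx
    rw [mem_centralizer_iff]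
    intro y hy
    exact MinSimple.VModule.zc_comm _ y (hK' hy) x (hK hx)
  have key : ∀ s : Finset ι, ∀ z : G, z ∈ (⨆ l ∈ s, Z l : Subgroup G) →
      (∀ l, l ≠ j → ∃ P, Ty (S : Subgroup G) Z V l P ∧ z ∈ centralizer (P : Set G)) → z ∈ Z j := by
    intro s
    induction s using Finset.induction_on with
    | empty =>
      intro z hz _
      simp only [Finset.notMem_empty, iSup_false, iSup_bot, mem_bot] at hz
      rw [hz]
      exact one_mem _
    | insert a s ha ih =>
      intro z hz hc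
      rw [Finset.iSup_insert] at hz
      have hs : (⨆ l ∈ s, Z l : Subgroup G) ≤ zc (S : Subgroup G) := iSup₂_le fun l _ => T.le l
      obtain ⟨x, hx, y, hy, rfl⟩ := exists_mul_of_mem_sup (hcomm hs (T.le a)) hz
      by_cases haj : a = j
      · subst haj
        refine mul_mem hx (ih y hy fun l hl => ?_)
        obtain ⟨P, hP, hzP⟩ := hc l hl
        refine ⟨P, hP, ?_⟩
        have h1 : x ∈ centralizer (P : Set G) := comm_symm (hP.cent a hl.symm) hx
        have h2 := mul_mem (inv_mem h1) hzP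
        rwa [inv_mul_cancel_left] at h2
      · obtain ⟨P, hP, hzP⟩ := hc a haj
        have h1 : (⨆ l ∈ s, Z l : Subgroup G) ≤ centralizer (P : Set G) := by
          refine iSup₂_le fun l hl => comm_symm (hP.cent l ?_)
          rintro rfl
          exact ha hl
        have h2 : x ∈ Z a ⊓ centralizer (P : Set G) := by
          refine ⟨hx, ?_⟩
          have h3 := mul_mem hzP (inv_mem (h1 hy))
          rwa [mul_inv_cancel_right] at h3
        rw [hP.free, mem_bot] at h2
        subst h2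
        rw [one_mul] at hc ⊢
        exact ih y hy hc
  refine key Finset.univ z ?_ h
  have h1 := T.sup hz
  simpa using h1

/-- **`Typed` from the types.** -/
theorem typed [Finite ι] (hS : (S : Subgroup G) ≠ ⊥) : Typed (S : Subgroup G) Z V := by
  have hgen : ∀ i, ∃ P ∈ TT, Ty (S : Subgroup G) Z V i P := T.exists_ty
  have hZn : ∀ j, ∀ n ∈ normalizer ((S : Subgroup G) : Set G), n ∈ YY Z j → cj n (Z j) ≤ Z j := by
    intro j n hn hnY
    intro z hz
    rw [mem_cj] at hz
    have hzc : z ∈ zc (S : Subgroup G) := by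
      have h1 := MinSimple.VModule.normalizer_le_normalizer_zc _ hn
      rw [mem_normalizer_iff_cj] at h1
      rw [← h1, mem_cj]
      exact T.le j hz
    refine T.mem_of_cent hzc fun l hl => ?_
    obtain ⟨P, hPT, hP⟩ := hgen l
    refine ⟨cj n P, T.ty_cj hn hnY hPT hP, ?_⟩
    rw [← cj_centralizer, mem_cj]
    exact comm_symm (hP.cent j hl.symm) hz
  have hZN : ∀ j, ∀ n ∈ normalizer ((S : Subgroup G) : Set G), n ∈ YY Z j → n ∈ normalizer (Z j : Set G) := by
    intro j n hn hnY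
    rw [mem_normalizer_iff_cj]
    refine le_antisymm (hZn j n hn hnY) ?_
    have h1 := cj_mono n (hZn j n⁻¹ (inv_mem hn) (inv_mem hnY))
    rwa [cj_cj_inv] at h1
  refine ⟨T.three, T.ne, T.le, T.sup, ?_, ?_, T.cV, ?_, ?_, ?_⟩
  · intro i
    obtain ⟨P, -, hP⟩ := hgen i
    rw [← hP.gen]
    exact le_XS _ _
  · intro i
    obtain ⟨P, -, hP⟩ := hgen i
    rw [← hP.gen]
    exact XS_mono hP.le_YY
  · intro j n hn hnY
    refine ⟨hZN j n hn hnY, fun i => ?_⟩
    obtain ⟨P, hPT, hP⟩ := hgen i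
    have hP' := T.ty_cj hn hnY hPT hP
    have h1 : n ∈ normalizer (Z i : Set G) := by
      by_cases hij : i = j
      · subst hij
        exact hZN i n hn hnY
      · exact centralizer_le_normalizer _ (YY_le_cent hij hnY)
    rw [mem_normalizer_iff_cj] at h1 ⊢
    conv_rhs => rw [← hP'.gen]
    rw [← hP.gen]
    have key : ∀ (g : G) (A R : Subgroup G), cj g (XS A R) ≤ XS (cj g A) (cj g R) := by
      intro g A R
      rw [cj, map_le_iff_le_comap]
      refine XS_le fun r hr a ha => ?_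
      have h2 : g * r * g⁻¹ ∈ cj g R := by
        rw [mem_cj]
        have e : g⁻¹ * (g * r * g⁻¹) * g = r := by group
        rwa [e]
      have h3 : g * a * g⁻¹ ∈ cj g A := by
        rw [mem_cj]
        have e : g⁻¹ * (g * a * g⁻¹) * g = a := by group
        rwa [e]
      have h4 := conj_mem_XS h2 h3
      have e : g * r * g⁻¹ * (g * a * g⁻¹) * (g * r * g⁻¹)⁻¹ = g * (r * a * r⁻¹) * g⁻¹ := by group
      rw [e] at h4
      exact h4
    refine le_antisymm ?_ ?_
    · have h2 := key n (Z i) P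
      rwa [h1] at h2
    · have h2 := cj_mono n (key n⁻¹ (Z i) (cj n P))
      have h3 : cj n⁻¹ (Z i) = Z i := by
        conv_lhs => rw [← h1]
        rw [cj_inv_cj]
      rwa [h3, cj_inv_cj, cj_cj_inv] at h2
  · intro j P hP hPY
    by_cases hPT : P ∈ TT
    · obtain ⟨i, hi⟩ := T.uni P hPT
      have e : j = i := by
        by_contra hne
        exact hi.not_le (T.ne i) (hPY.trans (YY_le_cent (Ne.symm hne)))
      subst e
      refine ⟨?_, fun i hij => hi.odd i hij⟩
      rw [← hi.gen]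
      exact le_normalizer_XS _ _
    · exact T.two P hP hPT j hPY
  · intro U hU h
    refine T.non U hU ?_ fun P hP => ?_
    · have hz := MinSimple.Basic.zc_ne_bot S.isPGroup' hS
      have hne : Nonempty ι := by
        by_contra hcon
        rw [not_nonempty_iff] at hcon
        have h1 := T.sup
        rw [iSup_of_empty, le_bot_iff] at h1
        exact hz h1
      obtain ⟨j⟩ := hne
      exact (le_YY fun l _ => centralizer_le (T.le l)).trans (h j)
    · obtain ⟨i, hi⟩ := T.uni P hP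
      exact hi.le_YY.trans (h i)

/-- **At least three types are impossible.** -/
theorem false_of [Finite ι] (hc : IsCharacteristicTwoType G) (ml : MLK.{u, u})
    (kg : ∀ R : Subgroup G, IsLoc (S : Subgroup G) R → IsKGroup R) (hS : (S : Subgroup G) ≠ ⊥)
    (hE : ML.Ex.Two.Ext.{u, u}) : False :=
  (T.typed hS).false_of hc ml kg hS hE

end Types

end Cfsg.Agent.Omega.NOThreeL.RWide

end
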