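import Cfsg.Agent.Mrg.Omega.NOThreeL.RWide.PermBIn
import Cfsg.Agent.Mrg.Omega.NOThreeL.RRed.NS.Spl
import Cfsg.Agent.Mrg.Omega.NO3S.EMany.Low
import Cfsg.Agent.Mrg.Omega.NOThreeL.RRed.NS.Gd

section


/-!
# THEOREM PERM+ for one `P` in the block data (helper540, head of the socket: helper278)

`RB S`, `P ∈ P*(S)` natural without radical, `P` centralises `1 ≠ X ≤ Z`; the pairs `(blk M i, YY h i)` are some of the
pairs `(N b, l b)`, `N` independent, `N_G(S)` permutes the pairs `(N b, l b)`, `AA(O₂(C_G(Z)))` moves `⨆ blk M`.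

* **`line_perm`** : `C_G(Z)` permutes the lines `YY h i`.
* `cent_of_odd` : `P` centralises `U ≤ Z` if its elements of odd order do.
* `inf_zc_ne` : `1 ≠ W ≤ S`, `W` elementary abelian and `S`-invariant ⟹ `W ∩ Z ≠ 1`.
-/

set_option autoImplicit false
set_option linter.unusedSectionVars false

namespace Cfsg.Agent.Omega.NOThreeL.RWide.PInst

open Subgroup Cfsg Cfsg.Agent.ZN Cfsg.Agent.ZN.ChoiceBase
open Cfsg.Agent.Omega.FFThm Cfsg.Agent.Lib.SL2Mat
open Cfsg.Agent.Omega.MinPar Cfsg.Agent.Omega.Frame Cfsg.Agent.Omega.FrameNOFF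
open Cfsg.Agent.Omega.FrameFF (cv)
open Cfsg.Agent.Omega.NO3S.ThmB hiding WP
open Cfsg.Agent.Omega.NO3S.KeyRad
open Cfsg.Agent.Omega.NOThreeL.RRed.NS
open Cfsg.Agent.Omega.NOThreeL.RTree (RB)

universe u

variable {G : Type u} [Group G] [Finite G] {S : Sylow 2 G}

theorem inf_zc_ne {W : Subgroup G} (hWS : W ≤ (S : Subgroup G)) (hW : (S : Subgroup G) ≤ normalizer (W : Set G))
    (hsq : ∀ w ∈ W, w ^ 2 = 1) (hne : W ≠ ⊥) : W ⊓ zc (S : Subgroup G) ≠ ⊥ := by
  have hf : Fact (Nat.Prime 2) := ⟨Nat.prime_two⟩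
  have h1 := PLocal.OffenderStep.inf_centralizer_ne_bot W (S : Subgroup G) (S.isPGroup'.to_le hWS) S.isPGroup' hW hne
  intro h0
  apply h1
  rw [eq_bot_iff, ← h0]
  exact fun x hx => ⟨hx.1, ChoiceBase.mem_zc.2 ⟨hWS hx.1, hsq x hx.1, fun s hs => mem_centralizer_iff.1 hx.2 s hs⟩⟩

/-- a minimal parabolic is generated by `S` and its elements of odd order -/
theorem cent_of_odd {P U : Subgroup G} (hSP : (S : Subgroup G) ≤ P) (hU : U ≤ zc (S : Subgroup G))
    (h : ∀ g ∈ P, Odd (orderOf g) → g ∈ centralizer (U : Set G)) : P ≤ centralizer (U : Set G) := by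
  have hU' : (S : Subgroup G) ≤ centralizer (U : Set G) := (le_CZ S).trans (centralizer_le hU)
  rw [← KL.Star.Core.oddGen_sup hSP (MinSimple.Basic.not_dvd_relIndex S hSP)]
  refine sup_le ?_ hU'
  rw [MinSimple.VModule.oddGen_def, closure_le]
  exact fun g hg => h g hg.1 hg.2

variable {P X : Subgroup G} {F : Type} [Field F] [CharP F 2] {k : ℕ}
  {M : NatKM F (S : Subgroup G) P (zl (S : Subgroup G) P) (cv (S : Subgroup G) P) k}

theorem line_perm {β : Type*} {N l : β → Subgroup G} (h : Nb M) (spl : ∀ j, DD M j = ⊥) (hB : RB S)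
    (hP : IsParS (S : Subgroup G) P) (hX : X ≤ zc (S : Subgroup G)) (hX1 : X ≠ ⊥)
    (hPX : P ≤ centralizer (X : Set G))
    (mov : ∃ A, KL.TwoS.Mx (o2 (centralizer (zc (S : Subgroup G) : Set G))) A ∧
      ¬ A ≤ centralizer ((⨆ j, blk M j : Subgroup G) : Set G))
    (ind : iSupIndep N) (hN : ∀ b, N b ≠ ⊥) (hV : ∀ i, ∃ b, N b = blk M i ∧ l b = YY h i)
    (permN : ∀ s ∈ normalizer ((S : Subgroup G) : Set G), ∀ b, ∃ c, cj s (N b) = N c ∧ cj s (l b) = l c) :
    ∀ x ∈ centralizer (zc (S : Subgroup G) : Set G), ∀ i, ∃ j, cj x (YY h i) = YY h j := by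
  intro x hx i
  have hk : 0 < k := lt_of_le_of_lt (Nat.zero_le _) i.2
  have hS1 : (S : Subgroup G) ≠ ⊥ := hB.ctx.sylow_ne_bot S
  have hVS : zl (S : Subgroup G) P ≤ S :=
    ((Basic.zl_le_WP hP).trans (Basic.WP_le_Q hB.data)).trans ((isLoc_centralizer_zc S hS1).o2_le S)
  obtain ⟨z, hz1, hz2, hz3⟩ := exists_vec h spl hVS hk
  have hz2' : z ∈ ⨆ j, blk M j := (iSup_mono (YY_le h) : (⨆ j, YY h j) ≤ _) hz2
  obtain ⟨A, hA, hA'⟩ := mov
  refine (pin_of h spl hB hP hk hX hX1 hPX ⟨A, mem_AA_of_Mx hA, hA'⟩ fun s hs => ?_).permD x hx i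
  exact perm_orbit (fun i j x hx y hy => h.cm (blk_le h i hx) (blk_le h j hy)) ind hN hV (PNat.ind h spl)
    (permN s hs.1) hz2' hz3 (mem_centralizer_iff.1 hs.2 z hz1).symm

end Cfsg.Agent.Omega.NOThreeL.RWide.PInst

end

section


/-!
# `S` permutes the pairs (block, line) (helper540)

* `PNat.cj_YY` : `s ∈ S`, `cj s (blk M i) = blk M j` ⟹ `cj s (YY h i) = YY h j`.
* `PNat.transZ` : `S` is transitive on the pairs `(blk M i, YY h i)`.
-/

set_option autoImplicit false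
set_option linter.unusedSectionVars false

namespace Cfsg.Agent.Omega.NOThreeL.RWide.PNat

open Subgroup Cfsg Cfsg.Agent.ZN Cfsg.Agent.ZN.ChoiceBase
open Cfsg.Agent.Omega.FFThm Cfsg.Agent.Lib.SL2Mat
open Cfsg.Agent.Omega.NatPair hiding cj mem_cj
open Cfsg.Agent.Omega.NO3S.ThmB Cfsg.Agent.Omega.NO3S.KeyRad
open Cfsg.Agent.Omega.NOThreeL.RRed.NS

universe u

variable {G : Type u} [Group G] {F : Type} [Field F] [CharP F 2] {S P V D : Subgroup G} {k : ℕ}
  {M : NatKM F S P V D k} (h : Nb M) (spl : ∀ j, DD M j = ⊥)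
include h spl

theorem conj_mem_YY {t : G} (ht : t ∈ S) {i j : Fin k} (he : cj t (blk M i) = blk M j) {y : G} (hy : y ∈ YY h i) :
    t * y * t⁻¹ ∈ YY h j := by
  have hmem : ∀ w ∈ blk M i, t * w * t⁻¹ ∈ blk M j := fun w hw => by
    rw [← he, mem_cj]
    have e : t⁻¹ * (t * w * t⁻¹) * t = w := by group
    rwa [e]
  obtain ⟨σ, hσ⟩ := M.line t ht
  obtain ⟨w, hw, hwe⟩ := exists_blk_e h i ![0, 1]
  have h1 : σ i = j := by
    by_contra hne
    have h2 := e_blk h hne (hmem w hw)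
    have h3 : M.e (t * w * t⁻¹) (σ i) 1 = 0 := by rw [h2]; rfl
    have h4 := (hσ w (blk_le h i hw) i).1 h3
    rw [hwe] at h4
    exact one_ne_zero h4
  have h5 := (hσ y (blk_le h i hy.1) i).2 hy.2
  rw [h1] at h5
  exact ⟨hmem y hy.1, h5⟩

theorem cj_YY {t : G} (ht : t ∈ S) {i j : Fin k} (he : cj t (blk M i) = blk M j) : cj t (YY h i) = YY h j := by
  have he' : cj t⁻¹ (blk M j) = blk M i := by
    rw [← he]
    ext x
    rw [mem_cj, mem_cj]
    have e : t⁻¹ * (t⁻¹⁻¹ * x * t⁻¹) * t = x := by group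
    rw [e]
  ext x
  rw [mem_cj]
  constructor
  · intro hx
    have h1 := conj_mem_YY h spl ht he hx
    have e : t * (t⁻¹ * x * t) * t⁻¹ = x := by group
    rwa [e] at h1
  · intro hx
    have h1 := conj_mem_YY h spl (inv_mem ht) he' hx
    rwa [inv_inv] at h1

theorem transZ (i j : Fin k) : ∃ s ∈ S, cj s (blk M i) = blk M j ∧ cj s (YY h i) = YY h j := by
  obtain ⟨s, hs, he⟩ := trans h spl i j
  exact ⟨s, hs, he, cj_YY h spl hs he⟩

end Cfsg.Agent.Omega.NOThreeL.RWide.PNat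

end

section


/-!
# THEOREM PERM+ in the block data of box R, several classes (helper540; text: helper278, #24948, #25094)

* `not_cent_blk` : the elements of odd order of `P` do not centralise a block of `P`.
* **`left_core`** : `C_G(Z)` permutes the lines `l b` of each class.
-/

set_option autoImplicit false
set_option linter.unusedSectionVars false

namespace Cfsg.Agent.Omega.NOThreeL.RWide.PInst

open Subgroup Cfsg Cfsg.Agent.ZN Cfsg.Agent.ZN.ChoiceBase
open Cfsg.Agent.Omega.FFThm Cfsg.Agent.Lib.SL2Mat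
open Cfsg.Agent.Omega.MinPar Cfsg.Agent.Omega.Frame Cfsg.Agent.Omega.FrameNOFF
open Cfsg.Agent.Omega.FrameFF (cv)
open Cfsg.Agent.Omega.NO3S.ThmB hiding WP
open Cfsg.Agent.Omega.NO3S.KeyRad
open Cfsg.Agent.Omega.NOThreeL.RRed.NS
open Cfsg.Agent.Omega.NOThreeL.RTree (RB)
open scoped Pointwise

universe u

variable {G : Type u} [Group G] [Finite G] {S : Sylow 2 G}

theorem not_cent_blk {P : Subgroup G} {F : Type} [Field F] [CharP F 2] {k : ℕ}
    {M : NatKM F (S : Subgroup G) P (zl (S : Subgroup G) P) (cv (S : Subgroup G) P) k} (h : Nb M) (j : Fin k)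
    (hc : ∀ g ∈ P, Odd (orderOf g) → g ∈ centralizer (blk M j : Set G)) : False := by
  obtain ⟨w, hw, hwe⟩ := exists_blk_e h j ![1, 0]
  have h1 : MinSimple.VModule.oddGen P ≤ centralizer (blk M j : Set G) := by
    rw [MinSimple.VModule.oddGen_def, closure_le]
    exact fun g hg => hc g hg.1 hg.2
  have h2 : w ∈ cv (S : Subgroup G) P :=
    ⟨blk_le h j hw, mem_centralizer_iff.2 fun g hg => (mem_centralizer_iff.1 (h1 hg) w hw).symm⟩
  have h3 := (M.ker w (blk_le h j hw)).2 h2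
  rw [h3] at hwe
  exact one_ne_zero (congrFun hwe 0).symm

/-- the data of the left case: blocks with lines in classes, each block from an active `P` -/
structure LData (S : Sylow 2 G) {β κ : Type*} (N l : β → Subgroup G) (W : κ → Subgroup G) (side : β → κ) : Prop where
  ind : iSupIndep N
  ne : ∀ b, N b ≠ ⊥
  NW : ∀ b, N b ≤ W (side b)
  dis : ∀ i j, i ≠ j → W i ⊓ W j = ⊥
  nS : ∀ i, (S : Subgroup G) ≤ normalizer (W i : Set G)
  WS : ∀ i, W i ≤ (S : Subgroup G)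
  sq : ∀ i, ∀ w ∈ W i, w ^ 2 = 1
  Wne : ∀ i, W i ≠ ⊥
  two : ∀ i : κ, ∃ j, j ≠ i
  permN : ∀ s ∈ normalizer ((S : Subgroup G) : Set G), ∀ b, ∃ c,
    MulAut.conj s • N b = N c ∧ MulAut.conj s • l b = l c
  src : ∀ b, ∃ P, IsParS (S : Subgroup G) P ∧
    (∃ i, ∀ j, j ≠ i → ∀ g ∈ P, Odd (orderOf g) → g ∈ centralizer (W j : Set G)) ∧
    ∃ (F : Type) (_ : Field F) (_ : CharP F 2) (k : ℕ)
      (M : NatKM F (S : Subgroup G) P (zl (S : Subgroup G) P) (cv (S : Subgroup G) P) k) (h : Nb M) (j : Fin k),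
      (∀ i, DD M i = ⊥) ∧ N b = blk M j ∧ l b = YY h j
  all : ∀ b, ∃ A, KL.TwoS.Mx (o2 (centralizer (zc (S : Subgroup G) : Set G))) A ∧ ¬ A ≤ centralizer (N b : Set G)

/-- **PERM+** -/
theorem left_core {β κ : Type*} {N l : β → Subgroup G} {W : κ → Subgroup G} {side : β → κ}
    (d : LData S N l W side) (hB : RB S) : ∀ c ∈ centralizer (zc (S : Subgroup G) : Set G), ∀ b, ∃ b',
      side b' = side b ∧ MulAut.conj c • l b = l b' := by
  intro c hc b
  obtain ⟨P, hP, ⟨i, hi⟩, F, _, _, k, M, h, j, spl, hNb, hlb⟩ := d.src b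
  -- the class of `b` is `i`
  have hbi : side b = i := by
    by_contra hne
    refine not_cent_blk h j fun g hg ho => ?_
    rw [← hNb]
    exact centralizer_le (d.NW b) (hi _ hne g hg ho)
  obtain ⟨i', hi'⟩ := d.two i
  have hX1 : W i' ⊓ zc (S : Subgroup G) ≠ ⊥ := inf_zc_ne (d.WS i') (d.nS i') (d.sq i') (d.Wne i')
  have hPX : P ≤ centralizer (W i' ⊓ zc (S : Subgroup G) : Set G) := by
    have := cent_of_odd (S := S) (P := P) (U := W i' ⊓ zc (S : Subgroup G)) hP.le inf_le_right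
      fun g hg ho => centralizer_le inf_le_left (hi i' hi' g hg ho)
    exact this
  have hV : ∀ a, ∃ b', N b' = blk M a ∧ l b' = YY h a ∧ side b' = side b := by
    intro a
    obtain ⟨s, hs, h1, h2⟩ := PNat.transZ h spl j a
    obtain ⟨b', h3, h4⟩ := d.permN s (le_normalizer hs) b
    have h5 : N b' = blk M a := by
      rw [← h1, ← hNb, ← h3]; rfl
    refine ⟨b', h5, by rw [← h2, ← hlb, ← h4]; rfl, ?_⟩
    by_contra hne
    apply d.ne b'
    rw [eq_bot_iff, ← d.dis _ _ hne]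
    refine le_inf (d.NW b') ?_
    rw [← h3]
    rintro _ ⟨y, hy, rfl⟩
    exact (mem_normalizer_iff.1 (d.nS _ hs) y).1 (d.NW b hy)
  obtain ⟨A, hA, hA'⟩ := d.all b
  obtain ⟨a, ha⟩ := line_perm h spl hB hP inf_le_right hX1 hPX
    ⟨A, hA, fun h0 => hA' (h0.trans (centralizer_le (hNb ▸ (le_iSup (blk M) j : blk M j ≤ _))))⟩ d.ind d.ne
    (fun i => by
      obtain ⟨b', h1, h2, -⟩ := hV i
      exact ⟨b', h1, h2⟩) d.permN c hc j
  obtain ⟨b', -, h2, h3⟩ := hV a
  refine ⟨b', h3, ?_⟩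
  rw [h2, ← ha, hlb]
  rfl

end Cfsg.Agent.Omega.NOThreeL.RWide.PInst

end

section


/-!
# Box R: one natural block (858's ledger W7)

`U = V*` is one natural `SL₂(F)`-module for some `P ∈ P*(S)` moved by a smallest best offender, `|F| > 2`.  Then
`C_Z(P') = 1` for every `P' ∈ P*(S)` normalising `U`.
-/

set_option autoImplicit false
set_option linter.unusedSectionVars false

namespace Cfsg.Agent.Omega.NOThreeL.RWide.OneBlkNat

open Subgroup Cfsg Cfsg.Agent.ZN Cfsg.Agent.ZN.ChoiceBase Cfsg.Agent.Omega.MinPar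
open Cfsg.Agent.Omega.FFThm (NatKM SymKM OffM ElemM NoOverM StmtM ConclM syl_of_sylow ActsSL)
open Cfsg.Agent.Omega.FrameFF (cv)
open Cfsg.Agent.Lib.SL2Mat
open Cfsg.Agent.Omega.NatPair (ap)
open Cfsg.Agent.Omega.NO3S.ThmB Cfsg.Agent.Omega.NO3S.KeyRad
open Cfsg.Agent.Omega.NOThreeL.RRed.NS

universe u

variable {G : Type u} [Group G] [Finite G] {S : Sylow 2 G} {P P' U A : Subgroup G}

/-- multiplicative endomorphisms of `Fˣ` commute -/
theorem comm_units {F : Type} [Field F] [Finite F] (σ τ : Fˣ →* Fˣ) (x : Fˣ) : σ (τ x) = τ (σ x) := by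
  obtain ⟨m, hm⟩ := MonoidHom.map_cyclic σ
  obtain ⟨n, hn⟩ := MonoidHom.map_cyclic τ
  rw [hm, hn, hn, hm, ← zpow_mul, ← zpow_mul, mul_comm]

/-- `P' = ⟨S^P'⟩` -/
theorem le_of_conj (hP : IsParS (S : Subgroup G) P') {K : Subgroup G}
    (h : ∀ g ∈ P', ∀ s ∈ (S : Subgroup G), g * s * g⁻¹ ∈ K) : P' ≤ K := by
  have hN : P' ≤ normalizer (NC P' (S : Subgroup G) : Set G) := fun g hg => mem_normalizer_iff.2 fun x =>
    ⟨fun hx => conj_NC hg hx, fun hx => by
      have h1 := conj_NC (inv_mem hg) hx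
      have e : g⁻¹ * (g * x * g⁻¹) * g⁻¹⁻¹ = x := by group
      rwa [e] at h1⟩
  have hK : NC P' (S : Subgroup G) ≤ K := by
    rw [NC, closure_le]
    rintro _ ⟨g, hg, s, hs, rfl⟩
    exact h g hg s hs
  rcases IsPar.sup_eq_or_inf_le S hP.toIsPar (NC_le hP.le) hN with h1 | h1
  · rw [sup_eq_left.2 (le_NC (P := P') (A := (S : Subgroup G)))] at h1
    rw [← h1]
    exact hK
  · exfalso
    have h2 : (S : Subgroup G) ≤ o2 P' := (le_inf le_rfl le_NC).trans h1
    have h3 : (S : Subgroup G) = o2 P' := le_antisymm h2 (hP.isLoc.o2_le S)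
    exact hP.not_zc (by
      rw [h3]
      exact MinSimple.VModule.normalizer_le_normalizer_zc _ |>.trans' (MinSimple.VModule.le_normalizer_o2 _))

section

variable (hG : IsCharacteristicTwoType G) (hP : IsParS (S : Subgroup G) P) (hP' : IsParS (S : Subgroup G) P')
  {F : Type} [Field F] [Finite F] [CharP F 2] (hF : 2 < Nat.card F)
  (M : NatKM F (S : Subgroup G) P (zl (S : Subgroup G) P) (cv (S : Subgroup G) P) 1)
  (hD : cv (S : Subgroup G) P = ⊥) (hU : zl (S : Subgroup G) P = U)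
  (hPU : P' ≤ normalizer (U : Set G))

include hG hP hU in
/-- the root group -/
theorem one_zero {B : Subgroup G} (hBS : B ≤ S) (t : Tt U B) : One M U B 0 := by
  obtain ⟨i, hi⟩ := Tt.one (Inst.nb hG hP M) t (hU ▸ Inst.zl_el hG hP) hU.le hBS (by rw [hU]; exact t.ne)
  rwa [Subsingleton.elim i 0] at hi

include hG hP hD in
/-- `V` is the block -/
theorem mem_blk' {v : G} (hv : v ∈ zl (S : Subgroup G) P) : v ∈ blk M 0 := by
  have h := Inst.nb hG hP M
  obtain ⟨w, hw, he⟩ := exists_blk_e (M := M) h 0 (M.e v 0)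
  have h1 : v * w⁻¹ ∈ cv (S : Subgroup G) P := (h.mem_D hv (blk_le h 0 hw)).2 (by
    funext i
    rw [Subsingleton.elim i 0, he])
  rw [hD, mem_bot] at h1
  rw [mul_inv_eq_one.1 h1]
  exact hw

variable {l g : F → G} (C : Cd M 0 l g)

include hD C in
theorem g_one (x : F) : g x = 1 := by
  have h1 := C.gD x
  rw [hD] at h1
  exact mem_bot.1 h1

include hG hP hD C in
theorem eq_l {v : G} (hv : v ∈ zl (S : Subgroup G) P) (h0 : M.e v 0 1 = 0) : v = l (M.e v 0 0) := by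
  have h := Inst.nb hG hP M
  obtain ⟨s, x, e⟩ := C.exists_eq h ((mem_YY h).2 ⟨mem_blk' hG hP M hD hv, h0⟩)
  rw [g_one M hD C, mul_one] at e
  have h1 := C.le s
  rw [← e] at h1
  rw [e]
  congr 1
  rw [← e, h1]
  rfl

include hG hP hU in
theorem e_zc {z : G} (hAS : A ≤ S) (t : Tt U A) (hz : z ∈ zc (S : Subgroup G)) : M.e z 0 1 = 0 :=
  ((one_zero hG hP M hU hAS t).cen z (ZN.zc_le_zl hz)).1 fun a ha => ((ChoiceBase.mem_zc.1 hz).2.2 a (hAS ha))

include hG hP hP' hD hU hPU C in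
/-- the action of `g ∈ P'` on the line -/
theorem exists_phi (hAS : A ≤ S) (t : Tt U A)
    (hb : ∀ B : Subgroup G, B ≤ S → Tt U B → B ≤ centralizer (zl (S : Subgroup G) P' : Set G)) {x : G} (hx : x ∈ P') :
    ∃ φ : F → F, (∀ s, x * l s * x⁻¹ = l (φ s)) ∧ ∀ β t, φ (β * t) * φ 1 = φ β * φ t := by
  have h := Inst.nb hG hP M
  have O := one_zero hG hP M hU hAS t
  have hBS : cj x A ≤ S := NO3S.Level.conj_le_of_cent hG hP' hAS (hb A hAS t) hx
  have OB := one_zero hG hP M hU hBS (t.cj (hPU hx))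
  choose a haA ha using O.all
  choose v hv hvj hvl using fun t : F => Nb.exists_single M 0 ![0, t]
  have hxa : ∀ β, x * a β * x⁻¹ ∈ cj x A := fun β => ⟨a β, haA β, rfl⟩
  choose θ hθ using fun β => OB.act _ (hxa β)
  have hxV : ∀ w ∈ zl (S : Subgroup G) P, x * w * x⁻¹ ∈ zl (S : Subgroup G) P := by
    intro w hw
    rw [hU] at hw ⊢
    exact (mem_normalizer_iff.1 (hPU hx) w).1 hw
  let ψ : F → F := fun t => M.e (x * v t * x⁻¹) 0 1
  have key : ∀ β t, x * l (β * t) * x⁻¹ = l (θ β * ψ t) := by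
    intro β t
    have h1 := C.cm (a β) (hP.le (hAS (haA β))) β (ha β) (v t) (hv t)
    have h2 := C.cm _ (hP.le (hBS (hxa β))) (θ β) (hθ β) (x * v t * x⁻¹) (hxV _ (hv t))
    rw [hvj, g_one M hD C, mul_one] at h1
    rw [g_one M hD C, mul_one] at h2
    have e : x * a β * x⁻¹ * (x * v t * x⁻¹) * (x * a β * x⁻¹)⁻¹ * (x * v t * x⁻¹)⁻¹ =
        x * (a β * v t * (a β)⁻¹ * (v t)⁻¹) * x⁻¹ := by group
    rw [e, h1] at h2
    exact h2
  have key2 : ∀ β t, θ (β * t) * ψ 1 = θ β * ψ t := fun β t => by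
    refine C.l_inj ?_
    rw [← key, ← key, mul_one]
  refine ⟨fun s => θ s * ψ 1, fun s => by rw [← key, mul_one], fun β t => ?_⟩
  have h1 := key2 β t
  have h2 := key2 1 t
  rw [one_mul] at h2
  simp only
  rw [h1, h2]
  ring

include hG hP hP' hD hU hPU C in
/-- the action in the coordinate `s₀ x` -/
theorem exists_mu (hAS : A ≤ S) (t : Tt U A)
    (hb : ∀ B : Subgroup G, B ≤ S → Tt U B → B ≤ centralizer (zl (S : Subgroup G) P' : Set G)) {s₀ : F} (hs : s₀ ≠ 0)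
    (hfix : ∀ x ∈ P', x * l s₀ * x⁻¹ = l s₀) {x : G} (hx : x ∈ P') :
    ∃ μ : Fˣ →* Fˣ, ∀ y : Fˣ, x * l (s₀ * y) * x⁻¹ = l (s₀ * μ y) := by
  obtain ⟨φ, h1, h2⟩ := exists_phi hG hP hP' M hD hU hPU C hAS t hb hx
  have hne : ∀ s, s ≠ 0 → φ s ≠ 0 := by
    intro s hs' h0
    have h3 := h1 s
    rw [h0, C.l_zero] at h3
    have h4 : l s = l 0 := by rw [C.l_zero]; exact conj_eq_one_iff.1 h3
    exact hs' (C.l_inj h4)
  have h0 : φ s₀ = s₀ := C.l_inj (by rw [← h1, hfix x hx])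
  have h3 : ∀ y : Fˣ, φ (s₀ * y) / s₀ ≠ 0 := fun y => div_ne_zero (hne _ (mul_ne_zero hs y.ne_zero)) hs
  refine ⟨⟨⟨fun y => Units.mk0 (φ (s₀ * y) / s₀) (h3 y), ?_⟩, fun y z => ?_⟩, fun y => ?_⟩
  · ext
    simp only [Units.val_mk0, Units.val_one, mul_one, h0]
    exact div_self hs
  · ext
    simp only [Units.val_mk0, Units.val_mul]
    have e1 := h2 (s₀ * y) z
    have e2 := h2 s₀ z
    rw [h0] at e2
    have h5 := hne 1 one_ne_zero
    have e3 : φ (s₀ * y * z) * s₀ = φ (s₀ * y) * φ (s₀ * z) := by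
      refine mul_right_cancel₀ h5 ?_
      linear_combination s₀ * e1 - φ (s₀ * y) * e2
    rw [← mul_assoc, div_mul_div_comm, div_eq_div_iff hs (mul_ne_zero hs hs)]
    linear_combination s₀ * e3
  · rw [h1]
    congr 1
    change _ = s₀ * (φ (s₀ * y) / s₀)
    field_simp

include hG hP hP' hF M hD hU hPU in
/-- **One block**: `C_Z(P') = 1` for all `P' ∈ P*(S)` normalising `U = V*`. -/
theorem cent_eq_bot (hFF : StmtM.{u}) (hAS : A ≤ S) (t : Tt U A) :
    zc (S : Subgroup G) ⊓ centralizer (P' : Set G) = ⊥ := by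
  have h := Inst.nb hG hP M
  have hU2 : IsElementaryAbelian 2 U := hU ▸ Inst.zl_el hG hP
  have hZU : zc (S : Subgroup G) ≤ U := hU ▸ ZN.zc_le_zl
  have hVU' : zl (S : Subgroup G) P' ≤ U := ZN.zl_le hZU hPU
  obtain ⟨l, g, C⟩ := exists_cd h hF 0
  rw [eq_bot_iff]
  rintro v ⟨hvZ, hvC⟩
  rw [mem_bot]
  by_contra hv1
  have hvP : ∀ x ∈ P', x * v = v * x := fun x hx => mem_centralizer_iff.1 hvC x hx
  have hvV : v ∈ zl (S : Subgroup G) P := ZN.zc_le_zl hvZ
  have hv0 : M.e v 0 1 = 0 := e_zc hG hP M hU hAS t hvZ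
  by_cases hact : ∀ B : Subgroup G, B ≤ S → Tt U B → B ≤ centralizer (zl (S : Subgroup G) P' : Set G)
  · -- `P'` is not active
    have hvl := eq_l hG hP M hD C hvV hv0
    set s₀ := M.e v 0 0 with hs₀
    have hs0 : s₀ ≠ 0 := by
      intro h0
      rw [h0, C.l_zero] at hvl
      exact hv1 hvl
    have hfix : ∀ x ∈ P', x * l s₀ * x⁻¹ = l s₀ := fun x hx => by
      rw [← hvl, hvP x hx, mul_inv_cancel_right]
    have hcen : P' ≤ centralizer (zc (S : Subgroup G) : Set G) := by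
      refine le_of_conj hP' fun x hx s hs => mem_centralizer_iff.2 fun z hz => ?_
      have hzl := eq_l hG hP M hD C (ZN.zc_le_zl hz) (e_zc hG hP M hU hAS t hz)
      set r := M.e z 0 0 with hr
      by_cases hr0 : r = 0
      · rw [hzl, hr0, C.l_zero, one_mul, mul_one]
      · set y : Fˣ := Units.mk0 (r / s₀) (div_ne_zero hr0 hs0) with hy
        have hry : r = s₀ * y := by
          rw [hy, Units.val_mk0]; field_simp
        obtain ⟨μ, hμ⟩ := exists_mu hG hP hP' M hD hU hPU C hAS t hact hs0 hfix (inv_mem hx)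
        obtain ⟨ν, hν⟩ := exists_mu hG hP hP' M hD hU hPU C hAS t hact hs0 hfix (hP'.le hs)
        have h1 : s * z * s⁻¹ = z := by
          rw [(ChoiceBase.mem_zc.1 hz).2.2 s hs, mul_inv_cancel_right]
        have h2 : ν y = y := by
          rw [hzl, hry, hν] at h1
          exact Units.ext (mul_left_cancel₀ hs0 (C.l_inj h1))
        have h3 : s * (x⁻¹ * z * x) * s⁻¹ = x⁻¹ * z * x := by
          have e1 : x⁻¹ * z * x = l (s₀ * μ y) := by
            have := hμ y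
            rw [← hry, ← hzl, inv_inv] at this
            exact this
          rw [e1, hν, comm_units ν μ, h2]
        calc z * (x * s * x⁻¹) = x * (x⁻¹ * z * x * s) * x⁻¹ := by group
          _ = x * (s * (x⁻¹ * z * x)) * x⁻¹ := by
            rw [mul_inv_eq_iff_eq_mul.1 h3]
          _ = x * s * x⁻¹ * z := by group
    exact hP'.not_zc (hcen.trans (centralizer_le_normalizer _))
  · -- `P'` is active
    push Not at hact
    obtain ⟨B, hBS, tB, hB⟩ := hact
    have O := one_zero hG hP M hU hBS tB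
    obtain ⟨F', i1, i2, i3, k', ⟨M'⟩⟩ := nat_of hG hFF hP' hU2 hPU hZU hBS tB hB hU.le O hF
    have h' := Inst.nb hG hP' M'
    obtain ⟨j', O'⟩ := Tt.one h' tB hU2 hVU' hBS hB
    have hBP : B ≤ P := hBS.trans hP.le
    have hBP' : B ≤ P' := hBS.trans hP'.le
    have hF' : 2 < Nat.card F' := lt_of_lt_of_le hF (card_le_of_one h' O O' hBP' hU.le)
    obtain ⟨l', g', C'⟩ := exists_cd h' hF' j'
    obtain ⟨-, hY, hcD, -⟩ := compare h h' C C' O O' hBP hBP' hU.le hVU' hF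
    have hD0 : DD M 0 = ⊥ := le_bot_iff.1 (inf_le_right.trans hD.le)
    rw [hD0, Subgroup.card_bot] at hcD
    have hD' : DD M' j' = ⊥ := Subgroup.card_eq_one.1 hcD.symm
    have hvY : v ∈ YY h 0 := ⟨mem_blk' hG hP M hD hvV, hv0⟩
    rw [hY] at hvY
    have hvD : v ∈ DD M' j' := ⟨hvY.1, mem_D_of_fix h' (ZN.zc_le_zl hvZ) hvP⟩
    rw [hD'] at hvD
    exact hv1 (mem_bot.1 hvD)

end

end Cfsg.Agent.Omega.NOThreeL.RWide.OneBlkNat

end
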