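import Cfsg.Agent.Mrg.Omega.NOThreeL.RWide.LinePerm
import Cfsg.Agent.Mrg.Omega.NOThreeL.RRed.WideTree
import Cfsg.Agent.Mrg.Omega.NOThreeL.RRed.LeftData
import Cfsg.Agent.Mrg.Omega.NOThreeL.RRed.WLeftBase
import Cfsg.Agent.Mrg.Omega.NO3S.OneLine.Abs

section


/-!
# The subgroup of `P` acting as `SL₂(F)` on one block (helper540, for `one_orb`, 475 #27342 (C))

* `DP h j` : the elements of `P` which act as `SL₂(F)` on the `j`-th summand and trivially on the others;
* `cj_DP` : `P` permutes the `DP h j`;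
* **`natBlk`** : `NatBlk S (DP h j) (blk M j) (YY h j) F (fun g => M.e g j)`.
-/

set_option autoImplicit false
set_option linter.unusedSectionVars false

namespace Cfsg.Agent.Omega.NOThreeL.RWide.PNat

open Subgroup Cfsg Cfsg.Agent.ZN Cfsg.Agent.ZN.ChoiceBase
open Cfsg.Agent.Omega.FFThm Cfsg.Agent.Lib.SL2Mat
open Cfsg.Agent.Omega.NatPair hiding cj mem_cj
open Cfsg.Agent.Omega.NO3S.ThmB Cfsg.Agent.Omega.NO3S.KeyRad
open Cfsg.Agent.Omega.NOThreeL.RRed.NS
open Cfsg.Agent.Omega.NOThreeL.RRed.WideTree (NatBlk)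

universe u

variable {G : Type u} [Group G] {F : Type} [Field F] [CharP F 2] {S P V D : Subgroup G} {k : ℕ}
  {M : NatKM F S P V D k} (h : Nb M)

/-- the elements of `P` acting on the `j`-th summand only -/
def DP (h : Nb M) (j : Fin k) : Subgroup G where
  carrier := {g | g ∈ P ∧ ∃ A, ActsSL M.e V D g (sg j A)}
  one_mem' := ⟨one_mem _, 1, by rw [sg_one]; exact Nb.acts_one (M := M)⟩
  mul_mem' := by
    rintro a b ⟨ha, A, hA⟩ ⟨hb, B, hB⟩
    exact ⟨mul_mem ha hb, A * B, by rw [sg_mul]; exact h.acts_mul hb hA hB⟩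
  inv_mem' := by
    rintro a ⟨ha, A, hA⟩
    have h1 := h.acts_inv ha hA
    have h2 : (sg j A)⁻¹ = sg j A⁻¹ := by
      rw [inv_eq_iff_mul_eq_one, ← sg_mul, mul_inv_cancel, sg_one]
    exact ⟨inv_mem ha, A⁻¹, by rw [← h2]; exact h1⟩

include h

theorem DP_le (j : Fin k) : DP h j ≤ P := fun _ hg => hg.1

variable (spl : ∀ j, DD M j = ⊥)
include spl

/-- `DP h j` centralises the other blocks -/
theorem DP_cent {i j : Fin k} (hij : i ≠ j) {g : G} (hg : g ∈ DP h j) {v : G} (hv : v ∈ blk M i) : g * v = v * g := by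
  obtain ⟨hgP, A, hA⟩ := hg
  have h1 : g * v * g⁻¹ = v := by
    refine ext h spl (conj_iSup_blk h hgP ((le_iSup (blk M) i : blk M i ≤ _) hv))
      ((le_iSup (blk M) i : blk M i ≤ _) hv) ?_
    funext l
    rw [hA.1 v (blk_le h i hv) l]
    by_cases hl : l = j
    · rw [hl, e_blk h (Ne.symm hij) hv, ap_zr]
    · rw [sg_ne hl, ap_one]
  calc g * v = g * v * g⁻¹ * g := by group
    _ = v * g := by rw [h1]

theorem conj_mem_DP {s : G} (hs : s ∈ P) {i j : Fin k} (he : cj s (blk M i) = blk M j) {g : G} (hg : g ∈ DP h i) :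
    s * g * s⁻¹ ∈ DP h j := by
  obtain ⟨hgP, A, hA⟩ := hg
  obtain ⟨B, hB⟩ := M.norm s hs g hgP _ hA.1
  have h1 : ∀ l, l ≠ j → B l = 1 := by
    intro l hl
    refine ap_inj fun x => ?_
    obtain ⟨v, hv, hvx⟩ := exists_blk_e h l x
    -- `s⁻¹ v s` is in another block
    obtain ⟨σ, hσ⟩ := M.perm s hs
    have h2 : cj s (blk M (σ.symm l)) = blk M l := by rw [cj_blk h spl hs hσ, σ.apply_symm_apply]
    have h3 : σ.symm l ≠ i := by
      intro e
      apply hl
      rw [e, he] at h2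
      by_contra hne
      obtain ⟨w, hw, hwe⟩ := exists_blk_e h j ![1, 0]
      have h4 := e_blk h (Ne.symm hl) (h2 ▸ hw)
      rw [hwe] at h4
      exact one_ne_zero (congrFun h4 0)
    have h4 : s⁻¹ * v * s ∈ blk M (σ.symm l) := by
      rw [← h2, mem_cj] at hv; exact hv
    have h5 := DP_cent h spl h3 (⟨hgP, A, hA⟩ : g ∈ DP h i) h4
    have h6 : s * g * s⁻¹ * v * (s * g * s⁻¹)⁻¹ = v := by
      calc s * g * s⁻¹ * v * (s * g * s⁻¹)⁻¹ = s * (g * (s⁻¹ * v * s)) * g⁻¹ * s⁻¹ := by group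
        _ = v := by rw [h5]; group
    have h7 := hB v (blk_le h l hv) l
    rw [h6, hvx] at h7
    rw [ap_one]
    exact h7.symm
  refine ⟨mul_mem (mul_mem hs hgP) (inv_mem hs), B j, fun v hv l => ?_, fun d hd => ?_⟩
  · rw [hB v hv l]
    by_cases hl : l = j
    · rw [hl, sg_self]
    · rw [sg_ne hl, h1 l hl]
  · have hd' : s⁻¹ * d * s ∈ D := by
      have := (mem_normalizer_iff.1 (h.DP' (inv_mem hs)) d).1 hd
      rwa [inv_inv] at this
    have h2 := hA.2 _ hd'
    calc s * g * s⁻¹ * d = s * (g * (s⁻¹ * d * s)) * s⁻¹ := by group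
      _ = s * (s⁻¹ * d * s * g) * s⁻¹ := by rw [h2]
      _ = d * (s * g * s⁻¹) := by group

theorem cj_DP {s : G} (hs : s ∈ P) {i j : Fin k} (he : cj s (blk M i) = blk M j) : cj s (DP h i) = DP h j := by
  have he' : cj s⁻¹ (blk M j) = blk M i := by
    rw [← he]
    ext x
    rw [mem_cj, mem_cj]
    have e : s⁻¹ * (s⁻¹⁻¹ * x * s⁻¹) * s = x := by group
    rw [e]
  ext x
  rw [mem_cj]
  constructor
  · intro hx
    have h1 := conj_mem_DP h spl hs he hx
    have e : s * (s⁻¹ * x * s) * s⁻¹ = x := by group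
    rwa [e] at h1
  · intro hx
    have h1 := conj_mem_DP h spl (inv_mem hs) he' hx
    rwa [inv_inv] at h1

omit spl in
theorem ap_eq_mulVec (A : Matrix.SpecialLinearGroup (Fin 2) F) (x : Fin 2 → F) : ap A x = A.1.mulVec x := by
  refine ext2 ?_ ?_ <;> simp [ap, ent, Matrix.mulVec, dotProduct, Fin.sum_univ_two]


omit h spl in
theorem eq_one_of_pow {a : F} {n : ℕ} (ha : a ^ 2 ^ n = 1) : a = 1 := by
  induction n with
  | zero => simpa using ha
  | succ n ih =>
    rw [pow_succ, pow_mul] at ha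
    rw [pow_two] at ha
    rcases mul_self_eq_one_iff.1 ha with h1 | h1
    · exact ih h1
    · rw [CharTwo.neg_eq] at h1
      exact ih h1

theorem cj_of_DP {s : G} {j : Fin k} (hs : s ∈ DP h j) : cj s (blk M j) = blk M j := by
  have key : ∀ t ∈ DP h j, ∀ w ∈ blk M j, t * w * t⁻¹ ∈ blk M j := fun t ht w hw => by
    obtain ⟨hP, A, hA⟩ := ht
    exact conj_blk h hP hA hw
  ext x
  rw [mem_cj]
  constructor
  · intro hx
    have h1 := key s hs _ hx
    have e : s * (s⁻¹ * x * s) * s⁻¹ = x := by group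
    rwa [e] at h1
  · intro hx
    have h1 := key s⁻¹ (inv_mem hs) x hx
    rwa [inv_inv] at h1

/-- a 2-element of `S ∩ DP h j` acts as a root element -/
theorem root_DP {s : G} {j : Fin k} (hs : s ∈ DP h j) (hS : s ∈ S) {n : ℕ} (hn : s ^ 2 ^ n = 1) :
    ∃ c : F, ∀ v ∈ blk M j, M.e (s * v * s⁻¹) j = ![M.e v j 0 + c * M.e v j 1, M.e v j 1] := by
  have he := cj_of_DP h spl hs
  obtain ⟨hsP, A, hA⟩ := hs
  have hact : ∀ v ∈ blk M j, M.e (s * v * s⁻¹) j = ap A (M.e v j) := fun v hv => e_conj_blk h hA hv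
  obtain ⟨w, hw, hwe⟩ := exists_blk_e h j ![1, 0]
  have hwY : w ∈ YY h j := ⟨hw, by rw [hwe]; rfl⟩
  have h1 := (conj_mem_YY h spl hS he hwY).2
  rw [hact w hw, hwe, ap_one'] at h1
  simp only [Matrix.cons_val_zero, Matrix.cons_val_one, mul_one, mul_zero, add_zero] at h1
  have h2 : ∀ m : ℕ, s ^ m * w * (s ^ m)⁻¹ ∈ blk M j ∧ M.e (s ^ m * w * (s ^ m)⁻¹) j = ![ent A 0 0 ^ m, 0] := by
    intro m
    induction m with
    | zero =>
      have e : s ^ 0 * w * (s ^ 0)⁻¹ = w := by group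
      rw [e, hwe, pow_zero]; exact ⟨hw, rfl⟩
    | succ m ih =>
      have e : s ^ (m + 1) * w * (s ^ (m + 1))⁻¹ = s * (s ^ m * w * (s ^ m)⁻¹) * s⁻¹ := by
        rw [pow_succ']; group
      rw [e]
      refine ⟨conj_blk h hsP hA ih.1, ?_⟩
      rw [hact _ ih.1, ih.2]
      refine vec_eq ?_ ?_
      · rw [ap_zero']
        simp only [Matrix.cons_val_zero, Matrix.cons_val_one, mul_zero, add_zero]
        rw [pow_succ']
      · rw [ap_one', h1]
        simp
  have h3 : ent A 0 0 = 1 := by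
    have h4 := (h2 (2 ^ n)).2
    rw [hn, one_mul, inv_one, mul_one, hwe] at h4
    exact eq_one_of_pow (congrFun h4 0).symm
  have h4 : ent A 1 1 = 1 := by
    have h5 := A.2
    rw [Matrix.det_fin_two] at h5
    have h6 : ent A 0 0 * ent A 1 1 - ent A 0 1 * ent A 1 0 = 1 := h5
    rwa [h3, h1, one_mul, mul_zero, sub_zero] at h6
  refine ⟨ent A 0 1, fun v hv => ?_⟩
  rw [hact v hv]
  refine vec_eq ?_ ?_
  · rw [ap_zero', h3, one_mul]; rfl
  · rw [ap_one', h1, h4, one_mul, zero_mul, zero_add]; rfl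

/-- **natural blocks in the sense of WideTree** -/
theorem natBlk (hS2 : IsPGroup 2 S) (j : Fin k) :
    NatBlk S (DP h j) (blk M j) (YY h j) F (fun g => M.e g j) where
  mul v hv w hw := by rw [M.mul _ (blk_le h j hv) _ (blk_le h j hw), Pi.add_apply]
  inj v hv h0 := blk_ext h spl hv (one_mem _) (by rw [h0, Nb.e_one (M := M)]; rfl)
  sur x := exists_blk_e h j x
  act g hg := by
    obtain ⟨hP, A, hA⟩ := hg
    exact ⟨A, fun v hv => by rw [e_conj_blk h hA hv, ap_eq_mulVec h]⟩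
  full A := by
    obtain ⟨g, hg, hA⟩ := M.lift (sg j A)
    exact ⟨g, ⟨hg, A, hA⟩, fun v hv => by rw [e_conj_blk h hA hv, ap_eq_mulVec h]⟩
  line v := Iff.rfl
  root s hs := by
    obtain ⟨n, hn⟩ := hS2 ⟨s, hs.1⟩
    exact root_DP h spl hs.2 hs.1 (n := n) (by simpa using congrArg Subtype.val hn)
  sylow c := by
    classical
    obtain ⟨t, ht, hA⟩ := M.unip (Function.update 0 j c)
    have e : (fun i => up (Function.update (0 : Fin k → F) j c i)) = sg j (up c) := by
      have h1 := eq_sg (i := j) (A := fun i => up (Function.update (0 : Fin k → F) j c i)) fun l hl => by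
        rw [Function.update_of_ne hl, Pi.zero_apply, up_zero]
      rw [h1, Function.update_self]
    rw [e] at hA
    refine ⟨t, ⟨ht, h.SP' ht, up c, hA⟩, fun v hv => ?_⟩
    rw [e_conj_blk h hA hv]
    exact vec_eq (ap_up_0 _ _) (ap_up_1 _ _)

end Cfsg.Agent.Omega.NOThreeL.RWide.PNat

end

section


/-!
# One `S`-orbit of natural blocks (helper540; text: 475 #27002 (1), #27342 (C), 483 #26191 (I))

`S` transitive on the blocks: an active `P` has all blocks `N b`, `V_P = V*`.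

* **`one_data`** : `P`, and `D' b ≤ P` such that `NBs S N E D' l q`;
* **`one_orb`** : no 2-group `≠ 1` is normalised by `C_G(Z)` and all `D' b` (`nl`, for every choice of `D'`) ⟹ `False`.
-/

set_option autoImplicit false
set_option linter.unusedSectionVars false

namespace Cfsg.Agent.Omega.NOThreeL.RRed.OneOrb

open Subgroup Cfsg Cfsg.Agent.ZN
open Cfsg.Agent.ZN.ChoiceBase (cj mem_cj)
open Cfsg.Agent.Omega.MinPar Cfsg.Agent.Omega.FrameNOFF
open Cfsg.Agent.Omega.FFThm (NatKM)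
open Cfsg.Agent.Omega.FrameFF (cv)
open Cfsg.Agent.Omega.NO3S.ThmB (Nb)
open Cfsg.Agent.Omega.NO3S.KeyRad (blk)
open Cfsg.Agent.Omega.NOThreeL.Merge (MZ)
open Cfsg.Agent.Omega.NOThreeL.RTree (RB)
open Cfsg.Agent.Omega.NOThreeL.RRed.GlueSig
open Cfsg.Agent.Omega.NOThreeL.RRed.WideTree
open Cfsg.Agent.Omega.NOThreeL.RWide
open scoped Pointwise

universe u

variable {G : Type u} [Group G] [Finite G] {S : Sylow 2 G} {ι : Type u} {N E D l : ι → Subgroup G} {q : ι → ℕ}

theorem N_inj (h : NBs (S : Subgroup G) N E D l q) : Function.Injective N :=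
  (LeftData.dec_indep h.dec).injective h.dec.ne

theorem sup_eq (h : NBs (S : Subgroup G) N E D l q) : (⨆ b, N b) = Wd (S : Subgroup G) := by
  rw [← h.dec.sup, sup_bot_eq]

/-- the data of an active `P` if `S` is transitive on the blocks -/
theorem exists_P [Nonempty ι] (h : NBs (S : Subgroup G) N E D l q) (hs : Src (S : Subgroup G) N l q)
    (tr : ∀ a b, ∃ s ∈ (S : Subgroup G), MulAut.conj s • N a = N b) :
    ∃ P, Act (S : Subgroup G) P ∧ ∃ (F : Type) (_ : Field F) (_ : Finite F) (_ : CharP F 2) (k : ℕ) (_ : 0 < k)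
      (M : NatKM F (S : Subgroup G) P (zl (S : Subgroup G) P) (cv (S : Subgroup G) P) k) (h : Nb M),
      (∀ i, NS.DD M i = ⊥) ∧ (∀ j, ∃ b, N b = blk M j ∧ l b = NS.YY h j ∧ q b = Nat.card F) ∧
        ∀ b, ∃ j, N b = blk M j ∧ l b = NS.YY h j ∧ q b = Nat.card F := by
  obtain ⟨b₀⟩ := ‹Nonempty ι›
  obtain ⟨P, hP, F, i1, i2, i3, k, hk, M, h', spl, ⟨j, h1, h2, h3⟩, h4⟩ := hs.mov b₀
  refine ⟨P, hP, F, i1, i2, i3, k, hk, M, h', spl, h4, fun b => ?_⟩
  obtain ⟨s, hs, hsb⟩ := tr b₀ b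
  obtain ⟨σ, hσ⟩ := M.perm s (h'.SP' hs)
  have h5 := PNat.cj_blk h' spl (h'.SP' hs) hσ j
  obtain ⟨c, h6, h7, h8⟩ := h4 (σ j)
  have h9 : N c = N b := by
    rw [h6, ← h5, ← h1, ← hsb]; rfl
  have h10 : c = b := N_inj h h9
  subst h10
  exact ⟨σ j, h6, h7, h8⟩

theorem one_data [Nonempty ι] (h : NBs (S : Subgroup G) N E D l q) (hs : Src (S : Subgroup G) N l q)
    (tr : ∀ a b, ∃ s ∈ (S : Subgroup G), MulAut.conj s • N a = N b) :
    ∃ P, Act (S : Subgroup G) P ∧ zl (S : Subgroup G) P = Wd (S : Subgroup G) ∧ cv (S : Subgroup G) P = ⊥ ∧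
      ∃ D' : ι → Subgroup G, NBs (S : Subgroup G) N E D' l q ∧ ∀ b, D' b ≤ P := by
  obtain ⟨P, hP, F, _, _, _, k, hk, M, h', spl, h1, h2⟩ := exists_P h hs tr
  choose J hJN hJl hJq using h2
  have hPM : P ≤ MZ (S : Subgroup G) := le_sSup hP.1
  have hle : Wd (S : Subgroup G) ≤ ⨆ j, blk M j := by
    rw [← sup_eq h]
    exact iSup_le fun b => by
      rw [hJN b]; exact le_iSup (blk M) (J b)
  have hV : zl (S : Subgroup G) P = Wd (S : Subgroup G) :=
    le_antisymm (MinSimple.VModule.zl_le (MinSimple.VModule.zc_le_zl _ _)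
      (hPM.trans (MinSimple.VModule.le_normalizer_zl _ _))) (hle.trans (PNat.sup_le_V h'))
  have hcv : cv (S : Subgroup G) P = ⊥ := by
    rw [eq_bot_iff]
    intro x hx
    exact mem_bot.2 (PNat.eq_one h' spl (hle (hV ▸ hx.1)) hx)
  have hJ : ∀ b c, b ≠ c → J b ≠ J c := fun b c hbc hJbc => hbc (N_inj h (by rw [hJN b, hJN c, hJbc]))
  refine ⟨P, hP, hV, hcv, fun b => PNat.DP h' (J b), ⟨h.dec, h.memE, fun b g hg => ?_, fun b => ?_, h.perm, h.ln,
    fun s hs b => ?_, h.permN, h.lnY⟩, fun b => PNat.DP_le h' (J b)⟩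
  · refine (h.memE b g).2 ⟨hPM hg.1, fun c hc => mem_centralizer_iff.2 fun v hv => ?_⟩
    rw [hJN c] at hv
    exact (PNat.DP_cent h' spl (hJ c b hc) hg hv).symm
  · refine ⟨F, inferInstance, inferInstance, inferInstance, fun g => M.e g (J b), (hJq b).symm, ?_⟩
    rw [hJN b, hJl b]
    exact PNat.natBlk h' spl S.isPGroup' (J b)
  · obtain ⟨c, h3, -, h4⟩ := h.sD s hs b
    refine ⟨c, h3, ?_, h4⟩
    have h5 : cj s (blk M (J b)) = blk M (J c) := by
      rw [← hJN b, ← hJN c, ← h3]; rfl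
    exact PNat.cj_DP h' spl (h'.SP' hs) h5

/-- **one `S`-orbit of blocks** -/
theorem one_orb (B : RB S) (h : NBs (S : Subgroup G) N E D l q) (hs : Src (S : Subgroup G) N l q)
    (tr : ∀ a b, ∃ s ∈ (S : Subgroup G), MulAut.conj s • N a = N b)
    (nl : ∀ D' : ι → Subgroup G, NBs (S : Subgroup G) N E D' l q → ∀ U : Subgroup G, IsPGroup 2 U →
      CZ (S : Subgroup G) ≤ normalizer (U : Set G) → (∀ b, D' b ≤ normalizer (U : Set G)) → U = ⊥) : False := by
  have hne : Nonempty ι := by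
    by_contra hemp
    rw [not_nonempty_iff] at hemp
    have h1 := sup_eq h
    rw [iSup_of_empty] at h1
    have h2 : zc (S : Subgroup G) ≤ ⊥ := by
      rw [h1]
      exact MinSimple.VModule.zc_le_zl _ _
    obtain ⟨P, hP⟩ := B.ctx.exists_isParS B.full
    refine hP.not_zc fun g _ => mem_normalizer_iff.2 fun x => ?_
    rw [le_bot_iff.1 h2, mem_bot, mem_bot, conj_eq_one_iff]
  obtain ⟨P, hP, -, -, D', hD', hDP⟩ := one_data h hs tr
  have h1 := B.data.loc P hP.1
  refine h1.loc.o2_ne (nl D' hD' _ (MinSimple.VModule.o2_isPGroup _) ?_ fun b => ?_)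
  · exact le_sup_right.trans (MinSimple.VModule.le_normalizer_o2 _)
  · exact (hDP b).trans (le_sup_left.trans (MinSimple.VModule.le_normalizer_o2 _))

end Cfsg.Agent.Omega.NOThreeL.RRed.OneOrb

end

section


/-!
# The socket `WOneTwo` (one class, two natural blocks) from the two level statements

One class, one `S`-orbit of at least two natural blocks, `q ≥ 8`:

* `StdD B` : `J(S)` or some `lev S (n+1)` moves `V*`, `lev S n` does not: `False` (standard levels);
* `TopD B` : `J(S)` and all `lev S n` centralise `V*`: `False` (level `(C_S(V*), V*)`);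
* `NlTop B` : the same with the conclusion: no 2-group `≠ 1` is normalised by `C_G(Z)` and all `D b`; **`topD_of_nl`**;
* `NlD B` : the nonlocality form without level hypothesis;
* `OrbD B` : one `S`-orbit of at least two natural blocks, `q ≥ 8`, is impossible;  **`orbD_of`** (from `StdD`, `TopD`),
  `orbD_of_nl` (from `NlD`), `orbD_of_two` (`J(S)` moves `V*` or not), `orb_false`;
* **`wOneTwo_of`** : `StdD B → TopD B → WOneTwo K B` (`q = 4` : `OneTwoFour.wOneTwo_four`).
-/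

set_option autoImplicit false
set_option linter.unusedSectionVars false
set_option linter.unusedVariables false

namespace Cfsg.Agent.Omega.NOThreeL.RRed.OneTwoOf

open Subgroup Cfsg Cfsg.Agent.ZN
open Cfsg.Agent.Omega.MinPar Cfsg.Agent.Omega.Frame Cfsg.Agent.Omega.FrameNOFF
open Cfsg.Agent.Omega.NO3S.Level (lev)
open Cfsg.Agent.Omega.NOThreeL.Merge (MZ)
open Cfsg.Agent.Omega.NOThreeL.RTree (RB)
open Cfsg.Agent.Omega.NOThreeL.RRed.GlueSig
open Cfsg.Agent.Omega.NOThreeL.RRed.WideTree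
open scoped Pointwise

universe u

variable {G : Type u} [Group G]

/-- one `S`-orbit of at least two natural blocks `N b`, `q ≥ 8`, one class -/
structure OD (S : Subgroup G) {ι : Type u} (N E D l : ι → Subgroup G) (q : ℕ) : Prop where
  cm : CM S (fun _ : PUnit.{u + 1} => Wd S)
  q8 : 8 ≤ q
  nb : NBs S N E D l (fun _ => q)
  src : Src S N l (fun _ => q)
  tr : ∀ a b, ∃ s ∈ S, MulAut.conj s • N a = N b
  two : 2 ≤ Nat.card ι

/-- **standard levels** : `J(S)` moves `V*`, or `lev S n` does not and `lev S (n+1)` does -/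
def StdD (B : Fr.{u}) : Prop :=
  ∀ (G : Type u) [Group G] [Finite G] (S : Sylow 2 G), B G S → Wide S → MvAct (S : Subgroup G) →
    ∀ (ι : Type u) [Finite ι] (N E D l : ι → Subgroup G) (q : ℕ), OD (S : Subgroup G) N E D l q →
      (¬ jj (S : Subgroup G) ≤ centralizer (Wd (S : Subgroup G) : Set G) ∨
        ∃ n, lev (S : Subgroup G) n ≤ centralizer (Wd (S : Subgroup G) : Set G) ∧
          ¬ lev (S : Subgroup G) (n + 1) ≤ centralizer (Wd (S : Subgroup G) : Set G)) → False

/-- **the top level** : `J(S)` and all `lev S n` centralise `V*` -/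
def TopD (B : Fr.{u}) : Prop :=
  ∀ (G : Type u) [Group G] [Finite G] (S : Sylow 2 G), B G S → Wide S → MvAct (S : Subgroup G) →
    ∀ (ι : Type u) [Finite ι] (N E D l : ι → Subgroup G) (q : ℕ), OD (S : Subgroup G) N E D l q →
      jj (S : Subgroup G) ≤ centralizer (Wd (S : Subgroup G) : Set G) →
      (∀ n, lev (S : Subgroup G) n ≤ centralizer (Wd (S : Subgroup G) : Set G)) → False

/-- the top level, nonlocality form: no 2-group `≠ 1` is normalised by `C_G(Z)` and all `D b` -/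
def NlTop (B : Fr.{u}) : Prop :=
  ∀ (G : Type u) [Group G] [Finite G] (S : Sylow 2 G), B G S → Wide S → MvAct (S : Subgroup G) →
    ∀ (ι : Type u) [Finite ι] (N E D l : ι → Subgroup G) (q : ℕ), OD (S : Subgroup G) N E D l q →
      jj (S : Subgroup G) ≤ centralizer (Wd (S : Subgroup G) : Set G) →
      (∀ n, lev (S : Subgroup G) n ≤ centralizer (Wd (S : Subgroup G) : Set G)) →
        ∀ U : Subgroup G, IsPGroup 2 U → CZ (S : Subgroup G) ≤ normalizer (U : Set G) →
          (∀ b, D b ≤ normalizer (U : Set G)) → U = ⊥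

/-- no level hypothesis: no 2-group `≠ 1` is normalised by `C_G(Z)` and all `D b` -/
def NlD (B : Fr.{u}) : Prop :=
  ∀ (G : Type u) [Group G] [Finite G] (S : Sylow 2 G), B G S → Wide S → MvAct (S : Subgroup G) →
    ∀ (ι : Type u) [Finite ι] (N E D l : ι → Subgroup G) (q : ℕ), OD (S : Subgroup G) N E D l q →
      ∀ U : Subgroup G, IsPGroup 2 U → CZ (S : Subgroup G) ≤ normalizer (U : Set G) →
        (∀ b, D b ≤ normalizer (U : Set G)) → U = ⊥

/-- no level hypothesis: impossible -/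
def OrbD (B : Fr.{u}) : Prop :=
  ∀ (G : Type u) [Group G] [Finite G] (S : Sylow 2 G), B G S → Wide S → MvAct (S : Subgroup G) →
    ∀ (ι : Type u) [Finite ι] (N E D l : ι → Subgroup G) (q : ℕ), OD (S : Subgroup G) N E D l q → False

section grp

variable [Finite G] {S : Sylow 2 G} {ι : Type u} {N E D l : ι → Subgroup G} {q : ℕ}

/-- `q` is a power of 2 -/
theorem eq_four_or (h : NBs (S : Subgroup G) N E D l (fun _ => q)) (hq : 4 ≤ q) (i : ι) : q = 4 ∨ 8 ≤ q := by
  obtain ⟨F, i1, i2, i3, e, hF, -⟩ := h.nat i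
  have hF' : Nat.card F = q := hF
  have := Fintype.ofFinite F
  obtain ⟨n, -, hn⟩ := FiniteField.card F 2
  rw [Nat.card_eq_fintype_card, hn] at hF'
  by_cases h2 : (n : ℕ) ≤ 2
  · left
    have h3 : q ≤ 2 ^ 2 := by rw [← hF']; exact Nat.pow_le_pow_right (by norm_num) h2
    omega
  · right
    push Not at h2
    rw [← hF']
    calc 8 = 2 ^ 3 := by norm_num
      _ ≤ 2 ^ (n : ℕ) := Nat.pow_le_pow_right (by norm_num) h2

/-- a level dichotomy -/
theorem std_or (S V : Subgroup G) : (¬ jj S ≤ centralizer (V : Set G) ∨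
    ∃ n, lev S n ≤ centralizer (V : Set G) ∧ ¬ lev S (n + 1) ≤ centralizer (V : Set G)) ∨
    (jj S ≤ centralizer (V : Set G) ∧ ∀ n, lev S n ≤ centralizer (V : Set G)) := by
  by_cases h : ¬ jj S ≤ centralizer (V : Set G) ∨
    ∃ n, lev S n ≤ centralizer (V : Set G) ∧ ¬ lev S (n + 1) ≤ centralizer (V : Set G)
  · exact Or.inl h
  right
  push Not at h
  refine ⟨h.1, fun n => ?_⟩
  induction n with
  | zero => exact h.1
  | succ n ih => exact h.2 n ih

/-- the top level from the nonlocality form -/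
theorem topD_of_nl {B : Fr.{u}} (nl : NlTop B) : TopD B := fun G _ _ S hB W mv ι _ N E D l q h hj hl =>
  OneOrb.one_orb W.toRB h.nb h.src h.tr fun D' h' =>
    nl G S hB W mv ι N E D' l q ⟨h.cm, h.q8, h', h.src, h.tr, h.two⟩ hj hl

/-- from the nonlocality form without level hypothesis -/
theorem orbD_of_nl {B : Fr.{u}} (nl : NlD B) : OrbD B := fun G _ _ S hB W mv ι _ N E D l q h =>
  OneOrb.one_orb W.toRB h.nb h.src h.tr fun D' h' =>
    nl G S hB W mv ι N E D' l q ⟨h.cm, h.q8, h', h.src, h.tr, h.two⟩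

/-- **one `S`-orbit of at least two natural blocks, `q ≥ 8`, one class, is impossible** -/
theorem orbD_of {B : Fr.{u}} (std : StdD B) (top : TopD B) : OrbD B := by
  intro G _ _ S hB W mv ι _ N E D l q h
  rcases std_or (S : Subgroup G) (Wd (S : Subgroup G)) with h1 | ⟨h1, h2⟩
  · exact std G S hB W mv ι N E D l q h h1
  · exact top G S hB W mv ι N E D l q h h1 h2

/-- two cases only: `J(S)` moves `V*` or not -/
theorem orbD_of_two {B : Fr.{u}}
    (h1 : ∀ (G : Type u) [Group G] [Finite G] (S : Sylow 2 G), B G S → Wide S → MvAct (S : Subgroup G) →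
      ∀ (ι : Type u) [Finite ι] (N E D l : ι → Subgroup G) (q : ℕ), OD (S : Subgroup G) N E D l q →
        ¬ jj (S : Subgroup G) ≤ centralizer (Wd (S : Subgroup G) : Set G) → False)
    (h2 : ∀ (G : Type u) [Group G] [Finite G] (S : Sylow 2 G), B G S → Wide S → MvAct (S : Subgroup G) →
      ∀ (ι : Type u) [Finite ι] (N E D l : ι → Subgroup G) (q : ℕ), OD (S : Subgroup G) N E D l q →
        jj (S : Subgroup G) ≤ centralizer (Wd (S : Subgroup G) : Set G) → False) : OrbD B := by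
  intro G _ _ S hB W mv ι _ N E D l q h
  by_cases hj : jj (S : Subgroup G) ≤ centralizer (Wd (S : Subgroup G) : Set G)
  · exact h2 G S hB W mv ι N E D l q h hj
  · exact h1 G S hB W mv ι N E D l q h hj

theorem orb_false {B : Fr.{u}} (std : StdD B) (top : TopD B) (hB : B G S) (W : Wide S)
    (mv : MvAct (S : Subgroup G)) [Finite ι] (h : OD (S : Subgroup G) N E D l q) : False :=
  orbD_of std top G S hB W mv ι N E D l q h

/-- `S` is transitive on two blocks of one class -/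
theorem tr_two (W : Wide S) (hCM : CM (S : Subgroup G) (fun _ : PUnit.{u + 1} => Wd (S : Subgroup G)))
    (h : NBs (S : Subgroup G) N E D l (fun _ => q)) (hι : Nat.card ι = 2) :
    ∀ a b, ∃ s ∈ (S : Subgroup G), MulAut.conj s • N a = N b := by
  obtain ⟨b, c, hbc, hall⟩ := Nat.card_eq_two_iff.1 hι
  have hall' : ∀ d, d = b ∨ d = c := fun d => by
    have h1 : d ∈ ({b, c} : Set ι) := by rw [hall]; exact Set.mem_univ d
    simpa using h1
  obtain ⟨s, hs, h1, h2⟩ := OneTwoFour.exists_swap h hbc hall' W.toRB (hCM.irr PUnit.unit)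
  intro d e
  rcases hall' d with rfl | rfl <;> rcases hall' e with rfl | rfl
  · exact ⟨1, one_mem _, by rw [map_one, one_smul]⟩
  · exact ⟨s, hs, h1⟩
  · exact ⟨s, hs, h2⟩
  · exact ⟨1, one_mem _, by rw [map_one, one_smul]⟩

end grp

/-- **`WOneTwo` from `OrbD`.** -/
theorem wOneTwo_of_orbD {K : Cls.{u}} {B : Fr.{u}} (orb : OrbD B) : WOneTwo K B := by
  intro G _ _ _ S hB W mv hCM ι _ N E D l q hq h hs hι
  exfalso
  have hne : Nonempty ι := (Nat.card_pos_iff.1 (by omega : 0 < Nat.card ι)).1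
  obtain ⟨i⟩ := hne
  rcases eq_four_or h hq i with rfl | h8
  · exact OneTwoFour.wOneTwo_four W hCM h hι
  · exact orb G S hB W mv ι N E D l q ⟨hCM, h8, h, hs, tr_two W hCM h hι, hι.ge⟩

/-- **`WOneTwo` from its levels.** -/
theorem wOneTwo_of {K : Cls.{u}} {B : Fr.{u}} (std : StdD B) (top : TopD B) : WOneTwo K B :=
  wOneTwo_of_orbD (orbD_of std top)

/-- **`WOneTwo` from `NlD`.** -/
theorem wOneTwo_of_nl {K : Cls.{u}} {B : Fr.{u}} (nl : NlD B) : WOneTwo K B := wOneTwo_of_orbD (orbD_of_nl nl)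

end Cfsg.Agent.Omega.NOThreeL.RRed.OneTwoOf

end
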