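import Cfsg.Agent.Mrg.Omega.NOThreeL.RWide.PermB


/-!
# Best offenders fix the four-group blocks (helper449's field `ffp` for `q = 2`)

`F` permutes the four-groups `N b` (`⨆ N` direct, abelian) and acts on `N b` inside its stabiliser as a group of
transvections with centre `z b`; `F` is a best offender on `⨆ N`.

* `Co.perm` : coordinates under an element which permutes the factors;
* **`fix_blocks`** : `F` normalises every `N b`.
-/

set_option autoImplicit false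
set_option linter.unusedSectionVars false

namespace Cfsg.Agent.Omega.NOThreeL.RWide

open Subgroup Cfsg Cfsg.Agent.ZN Cfsg.Agent.ZN.ChoiceBase
open Cfsg.Agent.Omega.OmThm.SideBase (card_sup_comm)
open scoped commutatorElement

universe u

variable {G : Type u} [Group G] {ι : Type*}

/-- coordinates under an element which permutes the factors -/
theorem Co.perm {V : ι → Subgroup G} {e : G → ι → G} (h : Co V e) {g : G} {σ : ι → ι} (hσ : Function.Injective σ)
    (hg : ∀ i, cj g (V i) = V (σ i)) {v : G} (hv : v ∈ ⨆ i, V i) :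
    g * v * g⁻¹ ∈ ⨆ i, V i ∧ ∀ c, e (g * v * g⁻¹) (σ c) = g * e v c * g⁻¹ := by
  induction hv using Subgroup.iSup_induction' with
  | hp i x hx =>
    have h1 : g * x * g⁻¹ ∈ V (σ i) := by rw [← hg]; exact conj_mem_cj hx
    refine ⟨(le_iSup V _) h1, fun c => ?_⟩
    by_cases hc : c = i
    · subst hc
      rw [h.self _ _ h1, h.self _ _ hx]
    · rw [h.off _ _ h1 _ (fun e => hc (hσ e)), h.off _ _ hx _ hc, mul_one, mul_inv_cancel]
  | h1 => exact ⟨by rw [mul_one, mul_inv_cancel]; exact one_mem _, fun c => by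
      rw [mul_one, mul_inv_cancel, h.one, h.one, mul_one, mul_inv_cancel]⟩
  | hmul x y hx hy ihx ihy =>
    have e1 : g * (x * y) * g⁻¹ = (g * x * g⁻¹) * (g * y * g⁻¹) := by group
    rw [e1]
    refine ⟨mul_mem ihx.1 ihy.1, fun c => ?_⟩
    rw [h.mul _ ihx.1 _ ihy.1, ihx.2, ihy.2, h.mul _ hx _ hy]
    group

/-- Four-groups `N b` with points `z b`, permuted by `F`. -/
structure FB (F : Subgroup G) (N : ι → Subgroup G) (z : ι → G) : Prop where
  ab : ∀ u ∈ ⨆ b, N b, ∀ v ∈ ⨆ b, N b, u * v = v * u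
  ind : iSupIndep N
  zN : ∀ b, z b ∈ N b
  z1 : ∀ b, z b ≠ 1
  sq : ∀ b, ∀ n ∈ N b, n * n = 1
  four : ∀ b, ∃ n ∈ N b, n ≠ 1 ∧ n ≠ z b ∧ ∀ x ∈ N b, x = 1 ∨ x = z b ∨ x = n ∨ x = n * z b
  perm : ∀ f ∈ F, ∀ b, ∃ c, cj f (N b) = N c
  fix : ∀ f ∈ F, ∀ b, cj f (N b) = N b → f * z b * f⁻¹ = z b ∧ ∀ n ∈ N b, f * n * f⁻¹ = n ∨ f * n * f⁻¹ = n * z b
  best : IsBestOffenderOn 2 (⨆ b, N b) F

namespace FB

variable [Finite G] {F : Subgroup G} {N : ι → Subgroup G} {z : ι → G} (h : FB F N z)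
include h

theorem ne (b : ι) : N b ≠ ⊥ := fun h0 => h.z1 b (by
  have := h.zN b
  rw [h0] at this
  exact mem_bot.1 this)

theorem inj : Function.Injective N := by
  intro b c hbc
  by_contra hne
  have h1 : Disjoint (N b) (N c) := h.ind.pairwiseDisjoint hne
  rw [hbc, disjoint_self] at h1
  exact h.ne c h1

theorem eq_of_mem {b c : ι} {x : G} (hb : x ∈ N b) (hc : x ∈ N c) (hx : x ≠ 1) : b = c := by
  by_contra hne
  have h1 : Disjoint (N b) (N c) := h.ind.pairwiseDisjoint hne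
  rw [disjoint_iff] at h1
  have h2 : x ∈ N b ⊓ N c := ⟨hb, hc⟩
  rw [h1] at h2
  exact hx (mem_bot.1 h2)

/-- `F` normalises every `N b`. -/
theorem fix_blocks [Finite ι] (b₀ : ι) : F ≤ normalizer (N b₀ : Set G) := by
  classical
  by_contra hcon
  obtain ⟨f₁, hf₁, hf₁n⟩ := SetLike.not_le_iff_exists.1 hcon
  set Fb : Subgroup G := F ⊓ normalizer (N b₀ : Set G) with hFb
  set F₁ : Subgroup G := F ⊓ centralizer (N b₀ : Set G) with hF₁
  have hF₁b : F₁ ≤ Fb := inf_le_inf_left _ (centralizer_le_normalizer _)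
  obtain ⟨e, he⟩ := exists_co (V := N)
    (fun i j v hv w hw => h.ab v ((le_iSup N i) hv) w ((le_iSup N j) hw)) h.ind
  -- the permutation of `f`
  have hσ : ∀ f ∈ F, ∃ σ : ι → ι, Function.Injective σ ∧ ∀ i, cj f (N i) = N (σ i) := by
    intro f hf
    choose σ hσ using h.perm f hf
    refine ⟨σ, fun i j hij => h.inj ?_, hσ⟩
    have h1 : cj f (N i) = cj f (N j) := by rw [hσ, hσ, hij]
    have h2 := congrArg (cj f⁻¹) h1
    rwa [cj_inv_cj, cj_inv_cj] at h2
  -- the orbit of `b₀`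
  set Θ : Set ι := {c | ∃ f ∈ F, cj f (N b₀) = N c} with hΘ
  set Y : Subgroup G := ⨆ (c) (_ : c ∈ Θ ∧ c ≠ b₀), N c with hY
  have hYV : Y ≤ ⨆ b, N b := iSup₂_le fun c _ => le_iSup N c
  -- `F₁` centralises the blocks of the orbit
  have hF₁c : ∀ c ∈ Θ, F₁ ≤ centralizer (N c : Set G) := by
    rintro c ⟨f, hf, hc⟩ a ha
    rw [mem_centralizer_iff]
    intro n hn
    replace hn : f⁻¹ * n * f ∈ N b₀ := by
      have : n ∈ cj f (N b₀) := by rw [hc]; exact hn
      exact mem_cj'.1 this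
    set n₀ : G := f⁻¹ * n * f with hn₀
    have hk : ⁅a⁻¹, f⁻¹⁆ ∈ centralizer ((⨆ b, N b : Subgroup G) : Set G) :=
      h.best.2.1 (commutator_mem_commutator (inv_mem ha.1) (inv_mem hf))
    have hk2 : ⁅a⁻¹, f⁻¹⁆ * n₀ = n₀ * ⁅a⁻¹, f⁻¹⁆ :=
      (mem_centralizer_iff.1 hk n₀ ((le_iSup N b₀) hn)).symm
    have ha2 : a * n₀ = n₀ * a := (mem_centralizer_iff.1 ha.2 n₀ hn).symm
    -- `f⁻¹ a f = a ⁅a⁻¹, f⁻¹⁆`
    have e1 : f⁻¹ * a * f = a * ⁅a⁻¹, f⁻¹⁆ := by
      rw [commutatorElement_def]; group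
    have e2 : (f⁻¹ * a * f) * n₀ = n₀ * (f⁻¹ * a * f) := by
      rw [e1, mul_assoc, hk2, ← mul_assoc, ha2, mul_assoc]
    have e3 : n = f * n₀ * f⁻¹ := by rw [hn₀]; group
    rw [e3]
    calc f * n₀ * f⁻¹ * a = f * (n₀ * (f⁻¹ * a * f)) * f⁻¹ := by group
      _ = f * ((f⁻¹ * a * f) * n₀) * f⁻¹ := by rw [e2]
      _ = a * (f * n₀ * f⁻¹) := by group
  -- elements of `⨆ N` fixed by `F`: the coordinates
  have hcoord : ∀ v ∈ ⨆ b, N b, v ∈ centralizer (F : Set G) → e v b₀ = 1 → ∀ c ∈ Θ, e v c = 1 := by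
    rintro v hv hvF hv0 c ⟨f, hf, hc⟩
    obtain ⟨σ, hσi, hσ⟩ := hσ f hf
    have h1 := (he.perm hσi hσ hv).2 b₀
    have h2 : σ b₀ = c := h.inj (by rw [← hσ, hc])
    have h3 : f * v * f⁻¹ = v := by
      rw [mem_centralizer_iff.1 hvF f hf]; group
    rw [h3, h2, hv0, mul_one, mul_inv_cancel] at h1
    exact h1
  have hYc : ∀ y ∈ Y, ∀ c, (c = b₀ ∨ c ∉ Θ) → e y c = 1 := by
    intro y hy c hc
    have hpos : Y ≤ (⨆ (d) (_ : d ≠ c), N d) := by
      refine iSup₂_le fun d hd => le_iSup₂ (f := fun d (_ : d ≠ c) => N d) d ?_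
      rintro rfl
      rcases hc with hc | hc
      · exact hd.2 hc
      · exact hc hd.1
    have h1 : ∀ y ∈ ⨆ (d) (_ : d ≠ c), N d, y ∈ ⨆ b, N b ∧ e y c = 1 := by
      intro y hy
      have hle : (⨆ (d) (_ : d ≠ c), N d) ≤ ⨆ b, N b := iSup₂_le fun d _ => le_iSup N d
      refine ⟨hle hy, ?_⟩
      have h2 : ∀ y ∈ ⨆ d : {d // d ≠ c}, N d, y ∈ ⨆ b, N b ∧ e y c = 1 := by
        intro y hy
        induction hy using Subgroup.iSup_induction' with
        | hp d x hx => exact ⟨(le_iSup N d) hx, he.off _ x hx c (Ne.symm d.2)⟩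
        | h1 => exact ⟨one_mem _, he.one c⟩
        | hmul x y hx hy ihx ihy =>
          exact ⟨mul_mem ihx.1 ihy.1, by rw [he.mul _ ihx.1 _ ihy.1, ihx.2, ihy.2, mul_one]⟩
      have h3 : (⨆ (d) (_ : d ≠ c), N d) = ⨆ d : {d // d ≠ c}, N d := (iSup_subtype' (p := fun d => d ≠ c) (f := fun d _ => N d))
      rw [h3] at hy
      exact (h2 y hy).2
    exact (h1 y (hpos hy)).2
  have hY1 : ∀ y ∈ Y, y ∈ centralizer (F : Set G) → y = 1 := by
    intro y hy hyF
    refine he.ext y (hYV hy) fun c => ?_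
    by_cases hc : c = b₀ ∨ c ∉ Θ
    · exact hYc y hy c hc
    · push Not at hc
      exact hcoord y (hYV hy) hyF (hYc y hy b₀ (Or.inl rfl)) c hc.2
  -- the small group `W₀`
  obtain ⟨n₀, hn₀, hn₀1, hn₀z, hn₀a⟩ := h.four b₀
  obtain ⟨W₀, hW₀N, hW₀F, hW₀c⟩ : ∃ W₀ ≤ N b₀, (∀ w ∈ W₀, w ∈ centralizer (Fb : Set G) → w = 1) ∧
      Nat.card Fb ≤ Nat.card W₀ * Nat.card F₁ := by
    by_cases hB : Fb ≤ F₁
    · refine ⟨⊥, bot_le, fun w hw _ => mem_bot.1 hw, ?_⟩
      rw [card_bot, one_mul]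
      exact card_le_of_le hB
    · obtain ⟨f₂, hf₂, hf₂n⟩ := SetLike.not_le_iff_exists.1 hB
      have hfx : ∀ f ∈ Fb, f * z b₀ * f⁻¹ = z b₀ ∧ ∀ n ∈ N b₀, f * n * f⁻¹ = n ∨ f * n * f⁻¹ = n * z b₀ :=
        fun f hf => h.fix f hf.1 b₀ (cj_eq_of_mem_normalizer hf.2)
      -- an element of `Fb` which centralises `n₀` is in `F₁`
      have hin : ∀ f ∈ Fb, f * n₀ * f⁻¹ = n₀ → f ∈ F₁ := by
        intro f hf hfn
        refine ⟨hf.1, mem_centralizer_iff.2 fun x hx => ?_⟩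
        have hz := (hfx f hf).1
        have c1 : f * z b₀ = z b₀ * f := mul_inv_eq_iff_eq_mul.1 hz
        have c2 : f * n₀ = n₀ * f := mul_inv_eq_iff_eq_mul.1 hfn
        rcases hn₀a x hx with rfl | rfl | rfl | rfl
        · rw [one_mul, mul_one]
        · exact c1.symm
        · exact c2.symm
        · rw [mul_assoc, ← c1, ← mul_assoc, ← c2, mul_assoc]
      have hf₂' : f₂ * n₀ * f₂⁻¹ = n₀ * z b₀ :=
        ((hfx f₂ hf₂).2 n₀ hn₀).resolve_left fun e => hf₂n (hin f₂ hf₂ e)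
      have hnn := h.sq b₀ n₀ hn₀
      have hW : ∀ w ∈ zpowers n₀, w = 1 ∨ w = n₀ := by
        intro w hw
        obtain ⟨k, rfl⟩ := mem_zpowers_iff.1 hw
        rcases Int.even_or_odd' k with ⟨m, rfl | rfl⟩
        · left
          rw [zpow_mul, zpow_two, hnn, one_zpow]
        · right
          rw [zpow_add, zpow_mul, zpow_two, hnn, one_zpow, one_mul, zpow_one]
      refine ⟨zpowers n₀, zpowers_le.2 hn₀, ?_, ?_⟩
      · intro w hw hwc
        rcases hW w hw with rfl | rfl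
        · rfl
        · exfalso
          have h1 := mem_centralizer_iff.1 hwc f₂ hf₂
          rw [mul_inv_eq_iff_eq_mul.2 h1] at hf₂'
          exact h.z1 b₀ (mul_eq_left.1 hf₂'.symm)
      · -- `|Fb| ≤ 2 |F₁|`
        have hc2 : 2 ≤ Nat.card (zpowers n₀) := by
          rw [Nat.card_zpowers]
          by_contra hlt
          have : orderOf n₀ = 1 := by
            have := orderOf_pos n₀
            omega
          exact hn₀1 (orderOf_eq_one_iff.1 this)
        have h4 : (Fb : Set G) ⊆ (F₁ : Set G) ∪ (fun b => f₂ * b) '' (F₁ : Set G) := by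
          intro a ha
          rcases (hfx a ha).2 n₀ hn₀ with h5 | h5
          · exact Or.inl (hin a ha h5)
          · right
            refine ⟨f₂⁻¹ * a, hin _ (mul_mem (inv_mem hf₂) ha) ?_, by group⟩
            calc f₂⁻¹ * a * n₀ * (f₂⁻¹ * a)⁻¹ = f₂⁻¹ * (a * n₀ * a⁻¹) * f₂ := by group
              _ = f₂⁻¹ * (f₂ * n₀ * f₂⁻¹) * f₂ := by rw [h5, hf₂']
              _ = n₀ := by group
        have h5 := Set.ncard_le_ncard h4 (Set.toFinite _)
        have h6 := Set.ncard_union_le (F₁ : Set G) ((fun b => f₂ * b) '' (F₁ : Set G))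
        have h7 : ((fun b => f₂ * b) '' (F₁ : Set G)).ncard ≤ (F₁ : Set G).ncard := Set.ncard_image_le (Set.toFinite _)
        have e1 : Nat.card Fb = (Fb : Set G).ncard := rfl
        have e2 : Nat.card F₁ = (F₁ : Set G).ncard := rfl
        have h8 : Nat.card Fb ≤ 2 * Nat.card F₁ := by
          rw [e1, e2]; omega
        exact h8.trans (Nat.mul_le_mul_right _ hc2)
  -- `|F : Fb| < |Y|`
  obtain ⟨c₁, hc₁⟩ := h.perm f₁ hf₁ b₀
  have hc₁b : c₁ ≠ b₀ := by
    rintro rfl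
    exact hf₁n (mem_normalizer_iff_cj.2 hc₁)
  have hin : ∀ f ∈ F, f ∉ Fb → ∀ n ∈ N b₀, f * n * f⁻¹ ∈ Y := by
    intro f hf hfb n hn
    obtain ⟨c, hc⟩ := h.perm f hf b₀
    have hcb : c ≠ b₀ := by
      rintro rfl
      exact hfb ⟨hf, mem_normalizer_iff_cj.2 hc⟩
    refine (le_iSup₂ (f := fun c (_ : c ∈ Θ ∧ c ≠ b₀) => N c) c ⟨⟨f, hf, hc⟩, hcb⟩) ?_
    rw [← hc]
    exact conj_mem_cj hn
  -- two conjugates of `N b₀` which meet nontrivially
  have hmeet : ∀ f ∈ F, ∀ f' ∈ F, ∀ n ∈ N b₀, ∀ n' ∈ N b₀, n ≠ 1 → f * n * f⁻¹ = f' * n' * f'⁻¹ → f⁻¹ * f' ∈ Fb := by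
    intro f hf f' hf' n hn n' hn' hn1 e
    refine mem_inf.2 ⟨mul_mem (inv_mem hf) hf', ?_⟩
    obtain ⟨c, hc⟩ := h.perm _ (mul_mem (inv_mem hf) hf') b₀
    have h1 : n ∈ N c := by
      rw [← hc, mem_cj']
      have : (f⁻¹ * f')⁻¹ * n * (f⁻¹ * f') = n' := by
        calc (f⁻¹ * f')⁻¹ * n * (f⁻¹ * f') = f'⁻¹ * (f * n * f⁻¹) * f' := by group
          _ = n' := by rw [e]; group
      rw [this]; exact hn'
    have h2 : b₀ = c := h.eq_of_mem hn h1 hn1
    rw [← h2] at hc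
    exact mem_normalizer_iff_cj.2 hc
  have hlt : Fb.relIndex F < Nat.card Y := by
    let Q := F ⧸ (Fb.subgroupOf F)
    have hQ : Fb.relIndex F = Nat.card Q := rfl
    let g : Q → Y := fun q => if hq : (q.out : G) ∈ Fb then 1 else
      ⟨(q.out : G) * z b₀ * (q.out : G)⁻¹, hin _ (q.out).2 hq _ (h.zN b₀)⟩
    have hout : ∀ q q' : Q, (q.out : G)⁻¹ * (q'.out : G) ∈ Fb → q = q' := by
      intro q q' hq
      rw [← QuotientGroup.out_eq' q, ← QuotientGroup.out_eq' q', QuotientGroup.eq, mem_subgroupOf]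
      exact hq
    have hginj : Function.Injective g := by
      intro q q' hqq
      by_cases h1 : (q.out : G) ∈ Fb <;> by_cases h2 : (q'.out : G) ∈ Fb
      · exact hout q q' (mul_mem (inv_mem h1) h2)
      · exfalso
        have h3 : (1 : G) = (q'.out : G) * z b₀ * (q'.out : G)⁻¹ := by
          have := congrArg Subtype.val hqq
          simpa [g, h1, h2] using this
        exact h.z1 b₀ (conj_eq_one_iff.1 h3.symm)
      · exfalso
        have h3 : (q.out : G) * z b₀ * (q.out : G)⁻¹ = (1 : G) := by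
          have := congrArg Subtype.val hqq
          simpa [g, h1, h2] using this
        exact h.z1 b₀ (conj_eq_one_iff.1 h3)
      · have h3 : (q.out : G) * z b₀ * (q.out : G)⁻¹ = (q'.out : G) * z b₀ * (q'.out : G)⁻¹ := by
          have := congrArg Subtype.val hqq
          simpa [g, h1, h2] using this
        exact hout q q' (hmeet _ (q.out).2 _ (q'.out).2 _ (h.zN b₀) _ (h.zN b₀) (h.z1 b₀) h3)
    have hns : ¬ Function.Surjective g := by
      intro hs
      obtain ⟨q, hq⟩ := hs ⟨f₁ * n₀ * f₁⁻¹, hin f₁ hf₁ (fun h0 => hf₁n h0.2) n₀ hn₀⟩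
      by_cases h1 : (q.out : G) ∈ Fb
      · have h3 : (1 : G) = f₁ * n₀ * f₁⁻¹ := by
          have := congrArg Subtype.val hq
          simpa [g, h1] using this
        exact hn₀1 (conj_eq_one_iff.1 h3.symm)
      · have h3 : (q.out : G) * z b₀ * (q.out : G)⁻¹ = f₁ * n₀ * f₁⁻¹ := by
          have := congrArg Subtype.val hq
          simpa [g, h1] using this
        have h4 := hmeet _ hf₁ _ (q.out).2 _ hn₀ _ (h.zN b₀) hn₀1 h3.symm
        have h5 := (h.fix _ h4.1 b₀ (cj_eq_of_mem_normalizer h4.2)).1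
        apply hn₀z
        calc n₀ = f₁⁻¹ * (f₁ * n₀ * f₁⁻¹) * f₁ := by group
          _ = f₁⁻¹ * ((q.out : G) * z b₀ * (q.out : G)⁻¹) * f₁ := by rw [h3]
          _ = (f₁⁻¹ * (q.out : G)) * z b₀ * (f₁⁻¹ * (q.out : G))⁻¹ := by group
          _ = z b₀ := h5
    rw [hQ]
    have : Fintype Q := Fintype.ofFinite Q
    have : Fintype Y := Fintype.ofFinite Y
    rw [Nat.card_eq_fintype_card, Nat.card_eq_fintype_card]
    exact Fintype.card_lt_of_injective_not_surjective g hginj hns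
  -- counting
  have hYW : ∀ y ∈ Y, ∀ w ∈ W₀, y * w = w * y := fun y hy w hw =>
    h.ab y (hYV hy) w ((le_iSup N b₀) (hW₀N hw))
  have hcap : Y ⊓ W₀ = ⊥ := by
    rw [eq_bot_iff]
    rintro x ⟨hx1, hx2⟩
    have h1 := hYc x hx1 b₀ (Or.inl rfl)
    rw [he.self b₀ x (hW₀N hx2)] at h1
    exact mem_bot.2 h1
  have hcard : Nat.card ↥(Y ⊔ W₀) = Nat.card Y * Nat.card W₀ := by
    have := card_sup_comm hYW
    rwa [hcap, card_bot, mul_one] at this
  set V : Subgroup G := ⨆ b, N b with hV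
  have hsupV : Y ⊔ W₀ ≤ V := sup_le hYV (hW₀N.trans (le_iSup N b₀))
  have hsup1 : Y ⊔ W₀ ≤ V ⊓ centralizer (F₁ : Set G) := by
    refine le_inf hsupV (sup_le (iSup₂_le fun c hc => ?_) ?_)
    · exact le_centralizer_iff.1 (hF₁c c hc.1)
    · rw [le_centralizer_iff]
      exact inf_le_right.trans (centralizer_le hW₀N)
  have hsup2 : (Y ⊔ W₀) ⊓ (V ⊓ centralizer (F : Set G)) = ⊥ := by
    rw [eq_bot_iff]
    rintro x ⟨hx1, hx2⟩
    obtain ⟨y, hy, w, hw, rfl⟩ := PermB.mem_sup_comm hYW hx1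
    have hwN := hW₀N hw
    have hwV : w ∈ V := (le_iSup N b₀) hwN
    have hw1 : w = 1 := by
      refine hW₀F w hw (mem_centralizer_iff.2 fun f hf => ?_)
      -- the `b₀`-component of `y w` is `w`
      obtain ⟨σ, hσi, hσ'⟩ := hσ f hf.1
      have h1 := (he.perm hσi hσ' (mul_mem (hYV hy) hwV)).2 b₀
      have h2 : σ b₀ = b₀ := h.inj (by rw [← hσ', cj_eq_of_mem_normalizer hf.2])
      have h3 : f * (y * w) * f⁻¹ = y * w := by
        rw [mem_centralizer_iff.1 hx2.2 f hf.1]; group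
      rw [h3, h2, he.mul _ (hYV hy) _ hwV, hYc y hy b₀ (Or.inl rfl), he.self b₀ w hwN, one_mul] at h1
      exact (mul_inv_eq_iff_eq_mul.1 h1.symm)
    rw [hw1, mul_one] at hx2 ⊢
    exact mem_bot.2 (hY1 y hy hx2.2)
  have hk := PermB.card_mul_le (W := Y ⊔ W₀) (K := V ⊓ centralizer (F : Set G)) (J := V ⊓ centralizer (F₁ : Set G))
    hsup1 (inf_le_inf_left _ (centralizer_le inf_le_left))
  rw [hsup2, card_bot, one_mul, hcard] at hk
  have hbo := h.best.1 F₁ inf_le_left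
  have hFF : Nat.card F = Fb.relIndex F * Nat.card Fb := (rmc (inf_le_left : Fb ≤ F)).symm
  have hpos : 0 < Nat.card ↥(V ⊓ centralizer (F : Set G)) := Nat.card_pos
  have hpos1 : 0 < Nat.card F₁ := Nat.card_pos
  have hposW : 0 < Nat.card W₀ := Nat.card_pos
  have h1 : Nat.card F₁ * (Nat.card Y * Nat.card W₀) ≤ Nat.card F := by
    refine Nat.le_of_mul_le_mul_right ?_ hpos
    calc Nat.card F₁ * (Nat.card Y * Nat.card W₀) * Nat.card ↥(V ⊓ centralizer (F : Set G))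
        = Nat.card F₁ * (Nat.card Y * Nat.card W₀ * Nat.card ↥(V ⊓ centralizer (F : Set G))) := by ring
      _ ≤ Nat.card F₁ * Nat.card ↥(V ⊓ centralizer (F₁ : Set G)) := Nat.mul_le_mul_left _ hk
      _ ≤ _ := hbo
  have h2 : Nat.card F ≤ Fb.relIndex F * (Nat.card W₀ * Nat.card F₁) := by
    rw [hFF]; exact Nat.mul_le_mul_left _ hW₀c
  have h3 : Nat.card Y * (Nat.card W₀ * Nat.card F₁) ≤ Fb.relIndex F * (Nat.card W₀ * Nat.card F₁) := by
    refine le_trans (le_of_eq ?_) (h1.trans h2)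
    ring
  have h4 := Nat.le_of_mul_le_mul_right h3 (Nat.mul_pos hposW hpos1)
  omega

theorem mem_zp {b : ι} {w : G} (hw : w ∈ zpowers (z b)) : w = 1 ∨ w = z b := by
  have hzz := h.sq b _ (h.zN b)
  obtain ⟨k, rfl⟩ := mem_zpowers_iff.1 hw
  rcases Int.even_or_odd' k with ⟨m, rfl | rfl⟩
  · left
    rw [zpow_mul, zpow_two, hzz, one_zpow]
  · right
    rw [zpow_add, zpow_mul, zpow_two, hzz, one_zpow, one_mul, zpow_one]

/-- `F` acts on every block trivially or as the full root group. -/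
theorem rootOn [Finite ι] (b : ι) : RootOn F (N b) (zpowers (z b)) := by
  have hn := h.fix_blocks b
  have hfx : ∀ f ∈ F, f * z b * f⁻¹ = z b ∧ ∀ n ∈ N b, f * n * f⁻¹ = n ∨ f * n * f⁻¹ = n * z b :=
    fun f hf => h.fix f hf b (cj_eq_of_mem_normalizer (hn hf))
  have hc1 : ∀ f ∈ F, f * z b = z b * f := fun f hf => mul_inv_eq_iff_eq_mul.1 (hfx f hf).1
  have hab : ∀ u ∈ N b, ∀ v ∈ N b, u * v = v * u := fun u hu v hv =>
    h.ab u ((le_iSup N b) hu) v ((le_iSup N b) hv)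
  obtain ⟨n₀, hn₀, hn₀1, hn₀z, hn₀a⟩ := h.four b
  have hin : ∀ f ∈ F, ∀ v ∈ N b, v ∉ zpowers (z b) → f * v = v * f → f ∈ centralizer (N b : Set G) := by
    intro f hf v hv hvz hfv
    have hz := hc1 f hf
    have hn0 : f * n₀ = n₀ * f := by
      rcases hn₀a v hv with rfl | rfl | rfl | rfl
      · exact absurd (one_mem _) hvz
      · exact absurd (mem_zpowers _) hvz
      · exact hfv
      · have e : n₀ = (n₀ * z b) * (z b)⁻¹ := by group
        have hz' : f * (z b)⁻¹ = (z b)⁻¹ * f := by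
          calc f * (z b)⁻¹ = (z b)⁻¹ * (z b * f) * (z b)⁻¹ := by group
            _ = (z b)⁻¹ * (f * z b) * (z b)⁻¹ := by rw [hz]
            _ = _ := by group
        calc f * n₀ = (f * (n₀ * z b)) * (z b)⁻¹ := by group
          _ = (n₀ * z b) * (f * (z b)⁻¹) := by rw [hfv]; group
          _ = n₀ * f := by rw [hz']; group
    refine mem_centralizer_iff.2 fun x hx => ?_
    rcases hn₀a x hx with rfl | rfl | rfl | rfl
    · rw [one_mul, mul_one]
    · exact hz.symm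
    · exact hn0.symm
    · rw [mul_assoc, ← hz, ← mul_assoc, ← hn0, mul_assoc]
  refine ⟨hn, fun f hf w hw => ?_, fun f hf v hv => ?_, ?_⟩
  · rcases h.mem_zp hw with rfl | rfl
    · rw [one_mul, mul_one]
    · exact hc1 f hf
  · rcases (hfx f hf).2 v hv with e | e
    · rw [e, mul_inv_cancel]; exact one_mem _
    · rw [e, hab v hv _ (h.zN b), mul_inv_cancel_right]; exact mem_zpowers _
  · by_cases hF : F ≤ centralizer (N b : Set G)
    · exact Or.inl hF
    · right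
      intro v hv hvz
      refine ⟨fun w hw => ?_, fun f hf hfv => hin f hf v hv hvz hfv⟩
      rcases h.mem_zp hw with rfl | rfl
      · exact ⟨1, one_mem _, by group⟩
      · obtain ⟨f, hf, hfn⟩ := SetLike.not_le_iff_exists.1 hF
        refine ⟨f, hf, ?_⟩
        rcases (hfx f hf).2 v hv with e | e
        · exact absurd (hin f hf v hv hvz (mul_inv_eq_iff_eq_mul.1 e)) hfn
        · rw [e, hab v hv _ (h.zN b), mul_inv_cancel_right]

end FB

end Cfsg.Agent.Omega.NOThreeL.RWide
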