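import Cfsg.Agent.Mrg.Omega.NO3S.SN2.BAOff
import Cfsg.Agent.Mrg.Omega.FrameI
import Cfsg.Agent.Mrg.Omega.Assembly

section


/-!
# THEOREM PERM+, (A1): the pure members of `AA(O)` (helper278, #24948, #25094)

* `bo_restrict` : a best offender on `W` is one on every subgroup of `W`; `best_iff_bo`, `bo_of_best` : `Best W F` and
  `IsBestOffenderOn 2 W F` are the same;
* `bo_of_AA` : a member of `AA T` is a best offender on every elementary abelian `U ≤ T`;
* `wr R V` : the group generated by the conjugates of the blocks under `R`;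
* `PIn.permA` : case A of PERM+ over the frame `PIn`.
-/

set_option autoImplicit false
set_option linter.unusedSectionVars false

namespace Cfsg.Agent.Omega.NOThreeL.RWide

open Subgroup Cfsg Cfsg.Agent.ZN Cfsg.Agent.ZN.ChoiceBase Cfsg.Agent.MinSimple.MinParabolic
open Cfsg.Agent.PLocal.Timmesfeld (card_mul_card_le)
open Cfsg.Agent.MinSimple.VModule (le_o2 le_normalizer_o2 o2_isPGroup o2_le_of_sylow)
open scoped commutatorElement

universe u

variable {G : Type u} [Group G]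

/-! ### Best offenders -/

theorem bo_restrict [Finite G] {W F U : Subgroup G} (h : IsBestOffenderOn 2 W F) (hU : U ≤ W) :
    IsBestOffenderOn 2 U F := by
  refine ⟨fun B hB => ?_, h.2.1.trans (centralizer_le (SetLike.coe_subset_coe.2 hU)),
    fun a ha => centralizer_le (SetLike.coe_subset_coe.2 hU) (h.2.2 a ha)⟩
  have h1 := h.1 B hB
  have h2 : U ⊓ centralizer (B : Set G) ≤ W ⊓ centralizer (B : Set G) := inf_le_inf_right _ hU
  have h3 : W ⊓ centralizer (F : Set G) ≤ W ⊓ centralizer (B : Set G) :=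
    inf_le_inf_left _ (centralizer_le (SetLike.coe_subset_coe.2 hB))
  have h4 := card_mul_card_le h2 h3
  have h5 : (U ⊓ centralizer (B : Set G)) ⊓ (W ⊓ centralizer (F : Set G)) = U ⊓ centralizer (F : Set G) := by
    apply le_antisymm
    · exact le_inf (inf_le_left.trans inf_le_left) (inf_le_right.trans inf_le_right)
    · exact le_inf (le_inf inf_le_left (inf_le_right.trans (centralizer_le (SetLike.coe_subset_coe.2 hB))))
        (inf_le_inf_right _ hU)
  rw [h5] at h4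
  have h6 : 0 < Nat.card ↥(W ⊓ centralizer (F : Set G)) := Nat.card_pos
  refine Nat.le_of_mul_le_mul_right ?_ h6
  calc Nat.card B * Nat.card ↥(U ⊓ centralizer (B : Set G)) * Nat.card ↥(W ⊓ centralizer (F : Set G))
      = Nat.card B * (Nat.card ↥(U ⊓ centralizer (B : Set G)) * Nat.card ↥(W ⊓ centralizer (F : Set G))) := by ring
    _ ≤ Nat.card B * (Nat.card ↥(U ⊓ centralizer (F : Set G)) * Nat.card ↥(W ⊓ centralizer (B : Set G))) :=
        Nat.mul_le_mul_left _ h4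
    _ = Nat.card ↥(U ⊓ centralizer (F : Set G)) * (Nat.card B * Nat.card ↥(W ⊓ centralizer (B : Set G))) := by ring
    _ ≤ Nat.card ↥(U ⊓ centralizer (F : Set G)) * (Nat.card F * Nat.card ↥(W ⊓ centralizer (F : Set G))) :=
        Nat.mul_le_mul_left _ h1
    _ = _ := by ring

theorem best_of_bo {W F : Subgroup G} (h : IsBestOffenderOn 2 W F) : NO1.BestOff.Best W F where
  sq := fun a ha => h.2.2 a ha
  comm := fun a ha b hb => h.2.1 (by
    have := commutator_mem_commutator ha hb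
    rwa [commutatorElement_def] at this)
  max := fun Y hY _ => h.1 Y hY

theorem bo_of_best [Finite G] {W F : Subgroup G} (h : NO1.BestOff.Best W F) : IsBestOffenderOn 2 W F := by
  refine ⟨fun B hB => ?_, ?_, fun a ha => h.sq a ha⟩
  · have h1 := h.max (B ⊔ (F ⊓ centralizer (W : Set G))) (sup_le hB inf_le_left) le_sup_right
    refine le_trans (Nat.mul_le_mul ?_ ?_) h1
    · exact Nat.card_mono (Set.toFinite _) (SetLike.coe_subset_coe.2 (le_sup_left : B ≤ B ⊔ (F ⊓ centralizer (W : Set G))))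
    · refine Nat.card_mono (Set.toFinite _) ?_
      rintro x ⟨hx, hx'⟩
      refine ⟨hx, ?_⟩
      have h2 : B ⊔ (F ⊓ centralizer (W : Set G)) ≤ centralizer ({x} : Set G) := by
        refine sup_le (fun b hb => ?_) (fun b hb => ?_)
        · rw [mem_centralizer_singleton_iff]
          exact mem_centralizer_iff.1 hx' b hb
        · rw [mem_centralizer_singleton_iff]
          exact (mem_centralizer_iff.1 hb.2 x hx).symm
      exact mem_centralizer_iff.2 fun b hb => mem_centralizer_singleton_iff.1 (h2 hb)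
  · rw [commutator_le]
    intro a ha b hb
    rw [commutatorElement_def]
    exact h.comm a ha b hb

theorem ea_comm {A : Subgroup G} (hA : IsElementaryAbelian 2 A) {a b : G} (ha : a ∈ A) (hb : b ∈ A) : a * b = b * a :=
  congrArg Subtype.val (hA.1.1.1 (⟨a, ha⟩ : A) (⟨b, hb⟩ : A))

theorem ea_sq {A : Subgroup G} (hA : IsElementaryAbelian 2 A) {a : G} (ha : a ∈ A) : a * a = 1 := by
  have := hA.2 a ha
  rwa [pow_two] at this

theorem ea_mk {A : Subgroup G} (hc : ∀ a ∈ A, ∀ b ∈ A, a * b = b * a) (hs : ∀ a ∈ A, a * a = 1) :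
    IsElementaryAbelian 2 A :=
  ⟨⟨⟨fun a b => Subtype.ext (hc a a.2 b b.2)⟩⟩, fun a ha => by rw [pow_two]; exact hs a ha⟩

/-- the product of two commuting elementary abelian groups -/
theorem ea_sup {A B : Subgroup G} (hA : IsElementaryAbelian 2 A) (hB : IsElementaryAbelian 2 B)
    (hAB : ∀ a ∈ A, ∀ b ∈ B, a * b = b * a) : IsElementaryAbelian 2 (A ⊔ B : Subgroup G) := by
  have hdec : ∀ x ∈ A ⊔ B, ∃ a ∈ A, ∃ b ∈ B, a * b = x := fun x hx => NO3S.SN2.BA.mem_sup_of_comm hAB hx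
  refine ea_mk ?_ ?_
  · intro x hx y hy
    obtain ⟨a, ha, b, hb, rfl⟩ := hdec x hx
    obtain ⟨c, hc, d, hd, rfl⟩ := hdec y hy
    calc a * b * (c * d) = a * (b * c) * d := by group
      _ = a * (c * b) * d := by rw [hAB c hc b hb]
      _ = (a * c) * (b * d) := by group
      _ = (c * a) * (d * b) := by rw [ea_comm hA ha hc, ea_comm hB hb hd]
      _ = c * (a * d) * b := by group
      _ = c * (d * a) * b := by rw [hAB a ha d hd]
      _ = _ := by group
  · intro x hx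
    obtain ⟨a, ha, b, hb, rfl⟩ := hdec x hx
    calc a * b * (a * b) = a * (b * a) * b := by group
      _ = a * (a * b) * b := by rw [hAB a ha b hb]
      _ = (a * a) * (b * b) := by group
      _ = 1 := by rw [ea_sq hA ha, ea_sq hB hb, mul_one]

/-- `C_U(A) ≤ A` for `A ∈ AA T`, `U ≤ T` elementary abelian -/
theorem AA_cen [Finite G] {T A : Subgroup G} (hA : A ∈ AA T) {x : G} (hx : x ∈ T) (hx2 : x * x = 1)
    (hc : ∀ a ∈ A, a * x = x * a) : x ∈ A := by
  have h1 : IsElementaryAbelian 2 (zpowers x) := by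
    refine ea_mk ?_ ?_
    · rintro _ ⟨m, rfl⟩ _ ⟨n, rfl⟩
      show x ^ m * x ^ n = x ^ n * x ^ m
      rw [← zpow_add, ← zpow_add, add_comm]
    · rintro _ ⟨m, rfl⟩
      show x ^ m * x ^ m = 1
      rw [← mul_zpow_of_sq hx2]
  have h2 : IsElementaryAbelian 2 (A ⊔ zpowers x : Subgroup G) := by
    refine ea_sup hA.1 h1 ?_
    rintro a ha _ ⟨m, rfl⟩
    exact ((show Commute a x from hc a ha).zpow_right m).eq
  have h3 := hA.2.2 _ h2 (sup_le hA.2.1 (zpowers_le.2 hx))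
  have h4 : A = A ⊔ zpowers x := eq_of_le_of_card_ge le_sup_left h3
  rw [h4]
  exact mem_sup_right (mem_zpowers x)
where
  mul_zpow_of_sq {x : G} (hx : x * x = 1) {m : ℤ} : (1 : G) = x ^ m * x ^ m := by
    have : x ^ m * x ^ m = (x * x) ^ m := by
      rw [(Commute.refl x).mul_zpow]
    rw [this, hx, one_zpow]

/-- **Thompson**: a member of `AA T` is a best offender on every elementary abelian `U ≤ T`. -/
theorem bo_of_AA [Finite G] {T A U : Subgroup G} (hA : A ∈ AA T) (hU : IsElementaryAbelian 2 U) (hUT : U ≤ T) :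
    IsBestOffenderOn 2 U A := by
  refine ⟨fun B hB => ?_, ?_, fun a ha => ?_⟩
  · have hBe : IsElementaryAbelian 2 B :=
      ea_mk (fun a ha b hb => ea_comm hA.1 (hB ha) (hB hb)) fun a ha => ea_sq hA.1 (hB ha)
    have hCe : IsElementaryAbelian 2 (U ⊓ centralizer (B : Set G) : Subgroup G) :=
      ea_mk (fun a ha b hb => ea_comm hU ha.1 hb.1) fun a ha => ea_sq hU ha.1
    have h1 : IsElementaryAbelian 2 (B ⊔ (U ⊓ centralizer (B : Set G)) : Subgroup G) :=
      ea_sup hBe hCe fun b hb u hu => mem_centralizer_iff.1 hu.2 b hb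
    have h2 := hA.2.2 _ h1 (sup_le (hB.trans hA.2.1) (inf_le_left.trans hUT))
    have h3 := card_mul_card_le (B₁ := B) (B₂ := U ⊓ centralizer (B : Set G))
      (B₃ := B ⊔ (U ⊓ centralizer (B : Set G))) le_sup_left le_sup_right
    have h4 : Nat.card ↥(B ⊓ (U ⊓ centralizer (B : Set G)) : Subgroup G) ≤ Nat.card ↥(U ⊓ centralizer (A : Set G)) := by
      refine Nat.card_mono (Set.toFinite _) ?_
      rintro x ⟨hx, hx1, -⟩
      exact ⟨hx1, mem_centralizer_iff.2 fun a ha => ea_comm hA.1 ha (hB hx)⟩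
    calc Nat.card B * Nat.card ↥(U ⊓ centralizer (B : Set G))
        ≤ Nat.card ↥(B ⊓ (U ⊓ centralizer (B : Set G)) : Subgroup G) *
          Nat.card ↥(B ⊔ (U ⊓ centralizer (B : Set G)) : Subgroup G) := h3
      _ ≤ Nat.card ↥(U ⊓ centralizer (A : Set G)) * Nat.card A := Nat.mul_le_mul h4 h2
      _ = _ := mul_comm _ _
  · rw [commutator_le]
    intro a ha b hb
    have : ⁅a, b⁆ = 1 := by
      rw [commutatorElement_def, ea_comm hA.1 ha hb, mul_inv_cancel_right, mul_inv_cancel]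
    rw [this]
    exact one_mem _
  · rw [hA.1.2 a ha]
    exact one_mem _

/-! ### The group `wr R V` -/

variable {ι : Type*}

/-- the group generated by the `R`-conjugates of the blocks -/
def wr (R : Subgroup G) (V : ι → Subgroup G) : Subgroup G := sSup {X | ∃ r ∈ R, ∃ i, X = cj r (V i)}

theorem cj_le_wr {R : Subgroup G} {V : ι → Subgroup G} {r : G} (hr : r ∈ R) (i : ι) : cj r (V i) ≤ wr R V :=
  le_sSup ⟨r, hr, i, rfl⟩

theorem le_wr (R : Subgroup G) (V : ι → Subgroup G) (i : ι) : V i ≤ wr R V := by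
  have := cj_le_wr (V := V) (one_mem R) i
  rwa [cj_one] at this

theorem wr_le {R : Subgroup G} {V : ι → Subgroup G} {X : Subgroup G} (h : ∀ r ∈ R, ∀ i, cj r (V i) ≤ X) :
    wr R V ≤ X := by
  refine sSup_le ?_
  rintro _ ⟨r, hr, i, rfl⟩
  exact h r hr i

theorem iSup_le_wr (R : Subgroup G) (V : ι → Subgroup G) : ⨆ i, V i ≤ wr R V := iSup_le (le_wr R V)

theorem cj_wr_le {R : Subgroup G} {V : ι → Subgroup G} {r : G} (hr : r ∈ R) : cj r (wr R V) ≤ wr R V := by
  rw [cj_le_iff]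
  refine wr_le fun s hs i => ?_
  rw [← cj_le_iff, cj_cj]
  exact cj_le_wr (mul_mem hr hs) i

theorem cj_wr {R : Subgroup G} {V : ι → Subgroup G} {r : G} (hr : r ∈ R) : cj r (wr R V) = wr R V := by
  refine le_antisymm (cj_wr_le hr) ?_
  have h1 := cj_mono r (cj_wr_le (V := V) (inv_mem hr))
  rwa [cj_cj_inv] at h1

theorem le_normalizer_wr (R : Subgroup G) (V : ι → Subgroup G) : R ≤ normalizer (wr R V : Set G) := fun _ hr =>
  mem_normalizer_iff_cj.2 (cj_wr hr)

/-! ### Over `PIn` -/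

namespace PIn

variable {S : Sylow 2 G} {D P N R : Subgroup G} {V Z : ι → Subgroup G} (h : PIn S D P N V Z)
include h

theorem o2_le [Finite G] : o2 D ≤ (S : Subgroup G) :=
  o2_le_of_sylow S.isPGroup' (MinSimple.Basic.not_dvd_relIndex S h.SD)

theorem cj_o2 {r : G} (hr : r ∈ D) : cj r (o2 D) = o2 D := cj_eq_of_mem_normalizer (le_normalizer_o2 D hr)

theorem wr_le_o2 (hRD : R ≤ D) : wr R V ≤ o2 D := wr_le fun r hr i => by
  rw [← h.cj_o2 (hRD hr)]
  exact cj_mono r (h.VO i)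

theorem comm_cj {r s : G} (hr : r ∈ D) (hs : s ∈ D) {i j : ι} {v w : G} (hv : v ∈ cj r (V i)) (hw : w ∈ cj s (V j)) :
    v * w = w * v := by
  have h1 := h.noff (r⁻¹ * s) (mul_mem (inv_mem hr) hs) i j (r⁻¹ * v * r) (mem_cj.1 hv) (r⁻¹ * w * r) (by
    rw [← cj_cj, mem_cj]
    have e : r⁻¹⁻¹ * (r⁻¹ * w * r) * r⁻¹ = w := by group
    rwa [e])
  calc v * w = r * (r⁻¹ * v * r * (r⁻¹ * w * r)) * r⁻¹ := by group
    _ = r * (r⁻¹ * w * r * (r⁻¹ * v * r)) * r⁻¹ := by rw [h1]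
    _ = w * v := by group

theorem wr_el (hRD : R ≤ D) : IsElementaryAbelian 2 (wr R V) := by
  have hc : wr R V ≤ centralizer (wr R V : Set G) := by
    refine wr_le fun r hr i => ?_
    rw [le_centralizer_iff]
    refine wr_le fun s hs j => ?_
    intro w hw
    exact mem_centralizer_iff.2 fun v hv => h.comm_cj (hRD hr) (hRD hs) hv hw
  have hc' : ∀ a ∈ wr R V, ∀ b ∈ wr R V, a * b = b * a := fun a ha b hb => (mem_centralizer_iff.1 (hc ha) b hb).symm
  refine ea_mk hc' ?_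
  let Y : Subgroup G :=
    { carrier := {x | x ∈ wr R V ∧ x * x = 1}
      one_mem' := ⟨one_mem _, one_mul 1⟩
      mul_mem' := by
        rintro a b ⟨ha, ha'⟩ ⟨hb, hb'⟩
        refine ⟨mul_mem ha hb, ?_⟩
        calc a * b * (a * b) = a * (b * a) * b := by group
          _ = a * (a * b) * b := by rw [hc' b hb a ha]
          _ = (a * a) * (b * b) := by group
          _ = 1 := by rw [ha', hb', mul_one]
      inv_mem' := by
        rintro a ⟨ha, ha'⟩
        refine ⟨inv_mem ha, ?_⟩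
        rw [← mul_inv_rev, ha', inv_one] }
  have h1 : wr R V ≤ Y := wr_le fun r hr i x hx => by
    refine ⟨cj_le_wr hr i hx, ?_⟩
    have h2 := h.sq i _ (mem_cj.1 hx)
    calc x * x = r * (r⁻¹ * x * r * (r⁻¹ * x * r)) * r⁻¹ := by group
      _ = 1 := by rw [h2]; group
  exact fun a ha => (h1 ha).2

theorem iSup_el : IsElementaryAbelian 2 (⨆ i, V i : Subgroup G) := by
  have h1 := h.wr_el (R := ⊥) bot_le
  have h2 := iSup_le_wr (⊥ : Subgroup G) V
  exact ea_mk (fun a ha b hb => ea_comm h1 (h2 ha) (h2 hb)) fun a ha => ea_sq h1 (h2 ha)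

/-- members of `AA(O)` act on all conjugates of the blocks as full root groups -/
theorem rootAA [Finite G] {A : Subgroup G} (hA : A ∈ AA (o2 D)) {r : G} (hr : r ∈ D) (i : ι) :
    RootOn A (cj r (V i)) (cj r (Z i)) := by
  have h1 : cj r⁻¹ A ∈ AA (o2 D) := by
    have := cj_mem_AA r⁻¹ hA
    rwa [h.cj_o2 (inv_mem hr)] at this
  have h2 : IsBestOffenderOn 2 (⨆ i, V i) (cj r⁻¹ A) := bo_of_AA h1 h.iSup_el (iSup_le h.VO)
  have h3 := (h.ffp _ (h1.2.1.trans h.o2_le) h2 i).cj' r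
  rwa [cj_cj_inv] at h3

theorem card_cjV (r : G) (i : ι) : Nat.card ↥(cj r (V i)) = Nat.card ↥(cj r (Z i)) ^ 2 := by
  rw [card_cj, card_cj, h.card i]

theorem one_lt [Finite G] (r : G) (i : ι) : 1 < Nat.card ↥(cj r (Z i)) := by
  rw [card_cj]
  exact (Subgroup.one_lt_card_iff_ne_bot _).2 (h.Zne i)

theorem exists_not [Finite G] (r : G) (i : ι) : ∃ v ∈ cj r (V i), v ∉ cj r (Z i) := by
  by_contra hc
  push Not at hc
  have h1 : Nat.card ↥(cj r (V i)) ≤ Nat.card ↥(cj r (Z i)) :=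
    Nat.card_mono (Set.toFinite _) (SetLike.coe_subset_coe.2 hc)
  rw [h.card_cjV] at h1
  have h2 := h.one_lt r i
  nlinarith

end PIn

end Cfsg.Agent.Omega.NOThreeL.RWide

end

section


/-!
# THEOREM PERM+, (A1): pure members; case A over `PIn` (helper278, #24948, #25094)

* `PIn.AAp` : the pure members of `AA (o2 D)` with respect to `wr R V`;
* `PIn.permA` : if a best offender `F ≤ S` on `wr R V` does not lie in `o2 R`, then `R` permutes the lines.
-/

set_option autoImplicit false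
set_option linter.unusedSectionVars false

namespace Cfsg.Agent.Omega.NOThreeL.RWide

open Subgroup Cfsg Cfsg.Agent.ZN Cfsg.Agent.ZN.ChoiceBase Cfsg.Agent.MinSimple.MinParabolic
open Cfsg.Agent.PLocal.Timmesfeld (card_mul_card_le)
open Cfsg.Agent.MinSimple.VModule (le_o2 le_normalizer_o2 o2_isPGroup o2_le_of_sylow)
open scoped commutatorElement

universe u

variable {G : Type u} [Group G] {ι : Type*}

/-- the pure members -/
def AAp (D R : Subgroup G) (V : ι → Subgroup G) : Set (Subgroup G) :=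
  {A | A ∈ AA (o2 D) ∧ ¬ wr R V ≤ centralizer (A : Set G) ∧ ∀ B ∈ AA (o2 D), ¬ wr R V ≤ centralizer (B : Set G) →
    Nat.card ↥(B ⊓ centralizer (wr R V : Set G)) ≤ Nat.card ↥(A ⊓ centralizer (wr R V : Set G))}

namespace PIn

variable {S : Sylow 2 G} {D P N R : Subgroup G} {V Z : ι → Subgroup G} (h : PIn S D P N V Z)
include h

theorem AAp_cj [Finite G] (hRD : R ≤ D) {r : G} (hr : r ∈ R) {A : Subgroup G} (hA : A ∈ AAp D R V) :
    cj r A ∈ AAp D R V := by
  obtain ⟨h1, h2, h3⟩ := hA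
  refine ⟨?_, ?_, ?_⟩
  · have := cj_mem_AA r h1
    rwa [h.cj_o2 (hRD hr)] at this
  · intro h4
    apply h2
    have h5 := cj_mono r⁻¹ h4
    rwa [cj_wr (inv_mem hr), cj_centralizer, cj_inv_cj] at h5
  · intro B hB hB'
    have h6 : Nat.card ↥(cj r A ⊓ centralizer (wr R V : Set G)) = Nat.card ↥(A ⊓ centralizer (wr R V : Set G)) := by
      have e : cj r A ⊓ centralizer (wr R V : Set G) = cj r (A ⊓ centralizer (wr R V : Set G)) := by
        rw [cj_inf, cj_centralizer, cj_wr hr]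
      rw [e, card_cj]
    rw [h6]
    exact h3 B hB hB'

theorem cjV_le_o2 (hRD : R ≤ D) {r : G} (hr : r ∈ R) (i : ι) : cj r (V i) ≤ o2 D :=
  (cj_le_wr hr i).trans (h.wr_le_o2 hRD)

theorem pure_key [Finite G] (hRD : R ≤ D) {A : Subgroup G} (hA : A ∈ AAp D R V) {r : G} (hr : r ∈ R) (i : ι)
    (hm : ¬ A ≤ centralizer (cj r (V i) : Set G)) :
    A ⊓ centralizer (cj r (V i) : Set G) ≤ centralizer (wr R V : Set G) ∧
      wr R V ≤ cj r (V i) ⊔ (wr R V ⊓ centralizer (A : Set G)) ∧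
      ∀ v ∈ cj r (V i), v ∉ cj r (Z i) → ∀ z ∈ cj r (Z i), ∃ f ∈ A, f * v * f⁻¹ * v⁻¹ = z := by
  obtain ⟨hAA, hAm, hmax⟩ := hA
  have hWel := h.wr_el hRD
  have hWO := h.wr_le_o2 hRD
  have hVW : cj r (V i) ≤ wr R V := cj_le_wr hr i
  have hVel : IsElementaryAbelian 2 (cj r (V i)) :=
    ea_mk (fun a ha b hb => ea_comm hWel (hVW ha) (hVW hb)) fun a ha => ea_sq hWel (hVW ha)
  have hroot := h.rootAA hAA (hRD hr) i
  have hfull : ∀ v ∈ cj r (V i), v ∉ cj r (Z i) →
      (∀ z ∈ cj r (Z i), ∃ f ∈ A, f * v * f⁻¹ * v⁻¹ = z) ∧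
        ∀ f ∈ A, f * v = v * f → f ∈ centralizer (cj r (V i) : Set G) := hroot.full.resolve_left hm
  set V' := cj r (V i) with hV'
  set Z' := cj r (Z i) with hZ'
  have hq : 1 < Nat.card Z' := h.one_lt r i
  have hcard : Nat.card V' = Nat.card Z' ^ 2 := h.card_cjV r i
  obtain ⟨v, hv, hvZ⟩ := h.exists_not r i
  -- (ii)
  have hmv : ∀ x ∈ V', (∀ a ∈ A, a * x = x * a) → x ∈ Z' := by
    intro x hx hc
    by_contra hxZ
    obtain ⟨z, hz, hz1⟩ : ∃ z ∈ Z', z ≠ 1 := by
      by_contra hc'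
      push Not at hc'
      have : Z' = ⊥ := (Subgroup.eq_bot_iff_forall _).2 hc'
      rw [this, Subgroup.card_bot] at hq
      exact lt_irrefl _ hq
    obtain ⟨f, hf, e⟩ := (hfull x hx hxZ).1 z hz
    apply hz1
    rw [← e, hc f hf, mul_inv_cancel_right, mul_inv_cancel]
  -- (i)
  have hi : Nat.card A ≤ Nat.card Z' * Nat.card ↥(A ⊓ centralizer (V' : Set G)) := by
    have h1 := (hfull v hv hvZ).1
    choose s hs hs' using h1
    have hcomm : ∀ a : A, (a : G) * v * (a : G)⁻¹ * v⁻¹ ∈ Z' := fun a => hroot.comm a a.2 v hv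
    let φ : A → Z' × ↥(A ⊓ centralizer (V' : Set G)) := fun a =>
      (⟨(a : G) * v * (a : G)⁻¹ * v⁻¹, hcomm a⟩, ⟨(s _ (hcomm a))⁻¹ * a, by
        have h1 : (s _ (hcomm a))⁻¹ * (a : G) ∈ A := A.mul_mem (A.inv_mem (hs _ _)) a.2
        refine Subgroup.mem_inf.2 ⟨h1, (hfull v hv hvZ).2 _ h1 ?_⟩
        have h2 := hs' _ (hcomm a)
        set t := s _ (hcomm a) with ht
        have h3 : t * v * t⁻¹ = (a : G) * v * (a : G)⁻¹ := mul_right_cancel h2
        calc t⁻¹ * (a : G) * v = t⁻¹ * ((a : G) * v * (a : G)⁻¹) * a := by group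
          _ = t⁻¹ * (t * v * t⁻¹) * a := by rw [h3]
          _ = v * (t⁻¹ * a) := by group⟩)
    have hφ : Function.Injective φ := by
      intro a b hab
      have h2 : (⟨(a : G) * v * (a : G)⁻¹ * v⁻¹, hcomm a⟩ : Z') = ⟨(b : G) * v * (b : G)⁻¹ * v⁻¹, hcomm b⟩ :=
        congrArg Prod.fst hab
      have h3 : (a : G) * v * (a : G)⁻¹ * v⁻¹ = (b : G) * v * (b : G)⁻¹ * v⁻¹ := congrArg Subtype.val h2
      have h4 : (s _ (hcomm a))⁻¹ * (a : G) = (s _ (hcomm b))⁻¹ * b :=
        congrArg Subtype.val (congrArg Prod.snd hab)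
      have h5 : s _ (hcomm a) = s _ (hcomm b) := by
        congr 1
      rw [h5] at h4
      exact Subtype.ext (mul_left_cancel h4)
    have h6 := Nat.card_le_card_of_injective φ hφ
    rwa [Nat.card_prod] at h6
  -- intersections
  have hint : ∀ X : Subgroup G, X ≤ A → Nat.card ↥(X ⊓ V' : Subgroup G) ≤ Nat.card Z' := by
    intro X hX
    refine Nat.card_mono (Set.toFinite _) ?_
    rintro x ⟨hx, hx'⟩
    exact hmv x hx' fun a ha => ea_comm hAA.1 ha (hX hx)
  have hprod : ∀ X : Subgroup G, X ≤ A → Nat.card X * Nat.card Z' ≤ Nat.card ↥(X ⊔ V' : Subgroup G) := by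
    intro X hX
    have h1 := card_mul_card_le (B₁ := X) (B₂ := V') (B₃ := X ⊔ V') le_sup_left le_sup_right
    have h2 : Nat.card X * Nat.card V' ≤ Nat.card Z' * Nat.card ↥(X ⊔ V' : Subgroup G) :=
      h1.trans (Nat.mul_le_mul_right _ (hint X hX))
    rw [hcard] at h2
    have h3 : 0 < Nat.card Z' := Nat.card_pos
    refine Nat.le_of_mul_le_mul_left ?_ h3
    calc Nat.card Z' * (Nat.card X * Nat.card Z') = Nat.card X * Nat.card Z' ^ 2 := by ring
      _ ≤ _ := h2
  -- (iii)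
  have hXel : IsElementaryAbelian 2 (A ⊓ centralizer (V' : Set G) : Subgroup G) :=
    ea_mk (fun a ha b hb => ea_comm hAA.1 ha.1 hb.1) fun a ha => ea_sq hAA.1 ha.1
  have hA'el : IsElementaryAbelian 2 ((A ⊓ centralizer (V' : Set G)) ⊔ V' : Subgroup G) :=
    ea_sup hXel hVel fun a ha x hx => (mem_centralizer_iff.1 ha.2 x hx).symm
  have hA'O : (A ⊓ centralizer (V' : Set G)) ⊔ V' ≤ o2 D :=
    sup_le (inf_le_left.trans hAA.2.1) (h.cjV_le_o2 hRD hr i)
  have hA'AA : (A ⊓ centralizer (V' : Set G)) ⊔ V' ∈ AA (o2 D) := by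
    refine ⟨hA'el, hA'O, fun B hB hBO => (hAA.2.2 B hB hBO).trans ?_⟩
    have h1 := hprod (A ⊓ centralizer (V' : Set G)) inf_le_left
    rw [mul_comm] at h1
    exact hi.trans h1
  -- (iv)
  have hVC : V' ≤ centralizer (wr R V : Set G) := fun x hx =>
    mem_centralizer_iff.2 fun w hw => ea_comm hWel hw (hVW hx)
  have hlt : Nat.card ↥(A ⊓ centralizer (wr R V : Set G)) <
      Nat.card ↥(((A ⊓ centralizer (V' : Set G)) ⊔ V' : Subgroup G) ⊓ centralizer (wr R V : Set G)) := by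
    have h1 := hprod (A ⊓ centralizer (wr R V : Set G)) inf_le_left
    have h2 : (A ⊓ centralizer (wr R V : Set G)) ⊔ V' ≤
        ((A ⊓ centralizer (V' : Set G)) ⊔ V') ⊓ centralizer (wr R V : Set G) :=
      le_inf (sup_le_sup_right (inf_le_inf_left _ (centralizer_le (SetLike.coe_subset_coe.2 hVW))) _)
        (sup_le inf_le_right hVC)
    have h3 := Nat.card_mono (Set.toFinite _) (SetLike.coe_subset_coe.2 h2)
    have h4 : 0 < Nat.card ↥(A ⊓ centralizer (wr R V : Set G)) := Nat.card_pos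
    refine lt_of_lt_of_le ?_ (h1.trans h3)
    nlinarith
  have hA'C : (A ⊓ centralizer (V' : Set G)) ⊔ V' ≤ centralizer (wr R V : Set G) := by
    by_contra hc
    have h1 := hmax _ hA'AA fun h2 => hc (le_centralizer_iff.1 h2)
    omega
  have hBC : A ⊓ centralizer (V' : Set G) ≤ centralizer (wr R V : Set G) := le_sup_left.trans hA'C
  refine ⟨hBC, ?_, fun x hx hxZ => (hfull x hx hxZ).1⟩
  -- (v)
  have h1 := (bo_of_AA hAA hWel hWO).1 (A ⊓ centralizer (V' : Set G)) inf_le_left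
  have h2 : wr R V ⊓ centralizer ((A ⊓ centralizer (V' : Set G) : Subgroup G) : Set G) = wr R V :=
    inf_eq_left.2 (le_centralizer_iff.1 hBC)
  rw [h2] at h1
  have h3 : Nat.card ↥(wr R V) ≤ Nat.card Z' * Nat.card ↥(wr R V ⊓ centralizer (A : Set G)) := by
    have h4 : 0 < Nat.card ↥(A ⊓ centralizer (V' : Set G)) := Nat.card_pos
    refine Nat.le_of_mul_le_mul_left (h1.trans ?_) h4
    calc Nat.card A * Nat.card ↥(wr R V ⊓ centralizer (A : Set G))
        ≤ Nat.card Z' * Nat.card ↥(A ⊓ centralizer (V' : Set G)) * Nat.card ↥(wr R V ⊓ centralizer (A : Set G)) :=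
          Nat.mul_le_mul_right _ hi
      _ = _ := by ring
  have h5 := card_mul_card_le (B₁ := V') (B₂ := wr R V ⊓ centralizer (A : Set G))
    (B₃ := V' ⊔ (wr R V ⊓ centralizer (A : Set G))) le_sup_left le_sup_right
  have h6 : Nat.card ↥(V' ⊓ (wr R V ⊓ centralizer (A : Set G)) : Subgroup G) ≤ Nat.card Z' := by
    refine Nat.card_mono (Set.toFinite _) ?_
    rintro x ⟨hx, -, hx'⟩
    exact hmv x hx fun a ha => mem_centralizer_iff.1 hx' a ha
  have h7 : V' ⊔ (wr R V ⊓ centralizer (A : Set G)) ≤ wr R V := sup_le hVW inf_le_left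
  have h8 : V' ⊔ (wr R V ⊓ centralizer (A : Set G)) = wr R V := by
    apply eq_of_le_of_card_ge h7
    have h9 : 0 < Nat.card Z' := Nat.card_pos
    refine Nat.le_of_mul_le_mul_left ?_ h9
    calc Nat.card Z' * Nat.card ↥(wr R V)
        ≤ Nat.card Z' * (Nat.card Z' * Nat.card ↥(wr R V ⊓ centralizer (A : Set G))) := Nat.mul_le_mul_left _ h3
      _ = Nat.card V' * Nat.card ↥(wr R V ⊓ centralizer (A : Set G)) := by rw [hcard]; ring
      _ ≤ Nat.card ↥(V' ⊓ (wr R V ⊓ centralizer (A : Set G)) : Subgroup G) *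
          Nat.card ↥(V' ⊔ (wr R V ⊓ centralizer (A : Set G)) : Subgroup G) := h5
      _ ≤ _ := Nat.mul_le_mul_right _ h6
  exact h8.ge

theorem one_aux [Finite G] (hRD : R ≤ D) {A : Subgroup G} (hA : A ∈ AAp D R V) {r s : G} (hr : r ∈ R) (hs : s ∈ R)
    (i j : ι) (hm : ¬ A ≤ centralizer (cj r (V i) : Set G)) (hm' : ¬ A ≤ centralizer (cj s (V j) : Set G)) :
    cj s (Z j) ≤ cj r (Z i) := by
  obtain ⟨-, h1, -⟩ := h.pure_key hRD hA hr i hm
  obtain ⟨-, -, h2⟩ := h.pure_key hRD hA hs j hm'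
  obtain ⟨v, hv, hvZ⟩ := h.exists_not s j
  have hWel := h.wr_el hRD
  have hroot := h.rootAA hA.1 (hRD hr) i
  intro z hz
  obtain ⟨f, hf, e⟩ := h2 v hv hvZ z hz
  obtain ⟨x, hx, c, hc, e'⟩ := NO3S.SN2.BA.mem_sup_of_comm
    (X := cj r (V i)) (Y := wr R V ⊓ centralizer (A : Set G))
    (fun x hx c hc => ea_comm hWel (cj_le_wr hr i hx) hc.1) (h1 (cj_le_wr hs j hv))
  have h3 := mem_centralizer_iff.1 hc.2 f hf
  have h4 := ea_comm hWel (cj_le_wr hr i hx) hc.1
  rw [← e, ← e']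
  have e2 : f * (x * c) * f⁻¹ * (x * c)⁻¹ = f * x * f⁻¹ * x⁻¹ := by
    calc f * (x * c) * f⁻¹ * (x * c)⁻¹ = f * x * (c * f⁻¹ * c⁻¹) * x⁻¹ := by group
      _ = f * x * f⁻¹ * x⁻¹ := by
        have h5 : c * f⁻¹ * c⁻¹ = f⁻¹ := by
          calc c * f⁻¹ * c⁻¹ = f⁻¹ * (f * c) * f⁻¹ * c⁻¹ := by group
            _ = f⁻¹ * (c * f) * f⁻¹ * c⁻¹ := by rw [h3]
            _ = f⁻¹ := by group
        rw [h5]
  rw [e2]
  exact hroot.comm f hf x hx

theorem exists_pure [Finite G] (hRD : R ≤ D) (hSR : (S : Subgroup G) ≤ R) (i : ι) :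
    ∃ A ∈ AAp D R V, ∀ v ∈ V i, (∀ a ∈ A, a * v = v * a) → v ∈ Z i := by
  obtain ⟨A₀, hA₀, hA₀m⟩ := h.mov
  obtain ⟨A, ⟨hA1, hA2⟩, hmax⟩ := Set.exists_max_image
    {A : Subgroup G | A ∈ AA (o2 D) ∧ ¬ wr R V ≤ centralizer (A : Set G)}
    (fun A => Nat.card ↥(A ⊓ centralizer (wr R V : Set G))) (Set.toFinite _)
    ⟨A₀, hA₀, fun hc => hA₀m (le_centralizer_iff.1 ((iSup_le_wr R V).trans hc))⟩
  have hA : A ∈ AAp D R V := ⟨hA1, hA2, fun B hB hB' => hmax B ⟨hB, hB'⟩⟩
  obtain ⟨r, hr, j, hj⟩ : ∃ r ∈ R, ∃ j, ¬ A ≤ centralizer (cj r (V j) : Set G) := by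
    by_contra hc
    push Not at hc
    exact hA2 (wr_le fun r hr i => le_centralizer_iff.1 (hc r hr i))
  obtain ⟨s, hs, hsj⟩ := h.trans j i
  have hsr : s * r⁻¹ ∈ R := mul_mem (hSR hs) (inv_mem hr)
  have hA' := h.AAp_cj hRD hsr hA
  refine ⟨_, hA', fun v hv hc => ?_⟩
  have hm : ¬ cj (s * r⁻¹) A ≤ centralizer (cj (1 : G) (V i) : Set G) := by
    intro h1
    apply hj
    rw [cj_one, ← hsj] at h1
    have h2 := cj_mono (s * r⁻¹)⁻¹ h1
    rw [cj_inv_cj, cj_centralizer, cj_cj] at h2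
    have e : (s * r⁻¹)⁻¹ * s = r := by group
    rwa [e] at h2
  obtain ⟨-, -, h3⟩ := h.pure_key hRD hA' (one_mem R) i hm
  by_contra hvZ
  obtain ⟨z, hz, hz1⟩ : ∃ z ∈ Z i, z ≠ 1 := by
    by_contra hc'
    push Not at hc'
    exact h.Zne i ((Subgroup.eq_bot_iff_forall _).2 hc')
  obtain ⟨f, hf, e⟩ := h3 v (by rw [cj_one]; exact hv) (by rw [cj_one]; exact hvZ) z (by rw [cj_one]; exact hz)
  apply hz1
  rw [← e, hc f hf, mul_inv_cancel_right, mul_inv_cancel]

/-- `PA` over `PIn` -/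
theorem pa [Finite G] (hR : IsMinPar (S : Subgroup G) R) (hRD : R ≤ D) :
    PA R (S : Subgroup G) (o2 R) (wr R V) V Z (AAp D R V) where
  SR := hR.le
  KS := o2_le_of_sylow S.isPGroup' (MinSimple.Basic.not_dvd_relIndex S hR.le)
  RK := le_normalizer_o2 R
  min := fun N hNR hN => by
    rcases hR.sup_eq_or_inf_le S.isPGroup' (MinSimple.Basic.not_dvd_relIndex S hR.le) hNR hN with h1 | h1
    · exact Or.inr h1.ge
    · left
      rw [inf_comm]
      exact h1
  Wel := h.wr_el hRD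
  RW := le_normalizer_wr R V
  VW := le_wr R V
  ZV := h.ZV
  perm := fun s hs i => h.perm s ⟨Subgroup.le_normalizer hs, h.SD hs⟩ i
  inj := fun i j hij => by
    by_contra hne
    apply h.Zne i
    rw [eq_bot_iff]
    have h1 := h.ind.pairwiseDisjoint hne
    exact h1 (h.ZV i) (hij ▸ h.ZV j)
  root := h.root
  ne := fun i hi => by
    obtain ⟨v, hv, hvZ⟩ := h.exists_not 1 i
    rw [cj_one] at hv hvZ
    exact hvZ (hi hv)
  off := fun F hF hb i => h.ffp F hF (bo_restrict hb (iSup_le_wr R V)) i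
  AAc := fun r hr A hA => h.AAp_cj hRD hr hA
  AAone := fun A hA r hr i s hs j h1 h2 =>
    le_antisymm (h.one_aux hRD hA hs hr j i h2 h1) (h.one_aux hRD hA hr hs i j h1 h2)
  AAex := h.exists_pure hRD hR.le
  AAz := fun A hA i a ha z hz => by
    have h1 := h.rootAA hA.1 (one_mem D) i
    rw [cj_one, cj_one] at h1
    exact h1.fixZ a ha z hz

/-- **Case A over `PIn`.** -/
theorem permA [Finite G] (hR : IsMinPar (S : Subgroup G) R) (hRD : R ≤ D) {F : Subgroup G}
    (hF : F ≤ (S : Subgroup G)) (hb : IsBestOffenderOn 2 (wr R V) F) (hK : ¬ F ≤ o2 R) :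
    ∀ r ∈ R, ∀ i, ∃ j, cj r (Z i) = Z j := (h.pa hR hRD).perm_of hF hb hK

end PIn

end Cfsg.Agent.Omega.NOThreeL.RWide

end
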