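import Cfsg.Agent.Mrg.Omega.NOThreeL.RWide.PermB
import Cfsg.Agent.Mrg.Omega.NOThreeL.RWide.PermOne
import Cfsg.Agent.Mrg.Omega.Assembly

section


/-!
# THEOREM PERM+ (helper278, #24948 / #25094), case (B) from `PIn`

`PIn` is the case `O = O₂(D)` of `PInO` (helper828); everything is in `PInO.lean`.
-/

set_option autoImplicit false
set_option linter.unusedSectionVars false

namespace Cfsg.Agent.Omega.NOThreeL.RWide

open Subgroup Cfsg Cfsg.Agent.ZN Cfsg.Agent.ZN.ChoiceBase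

universe u

variable {G : Type u} [Group G] [Finite G] {S : Sylow 2 G} {D P N : Subgroup G} {ι : Type*} {V Z : ι → Subgroup G}

theorem PIn.Zcj (h : PIn S D P N V Z) (i j : ι) : ∃ s ∈ (S : Subgroup G), cj s (V i) = V j ∧ cj s (Z i) = Z j :=
  h.toO.Zcj i j

theorem PIn.comm (h : PIn S D P N V Z) : ∀ u ∈ ⨆ i, V i, ∀ v ∈ ⨆ i, V i, u * v = v * u := h.toO.comm

theorem PIn.o2S (h : PIn S D P N V Z) : o2 D ≤ (S : Subgroup G) := h.toO.OS

theorem PIn.VS (h : PIn S D P N V Z) : (⨆ i, V i) ≤ (S : Subgroup G) := h.toO.VS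

/-- `C_S(⨆ V) ≤ O₂(P)` -/
theorem PIn.inf_le_o2 (h : PIn S D P N V Z) :
    (S : Subgroup G) ⊓ centralizer ((⨆ i, V i : Subgroup G) : Set G) ≤ o2 P := h.toO.inf_le_o2

theorem PIn.o2_le_cent (h : PIn S D P N V Z) : o2 P ≤ centralizer ((⨆ i, V i : Subgroup G) : Set G) :=
  h.toO.o2_le_cent

/-- **THEOREM PERM+, case (B)** -/
theorem PIn.permB (h : PIn S D P N V Z) {R : Subgroup G} (hR : (S : Subgroup G) ≤ R) (hRD : R ≤ D)
    {W : Subgroup G} (hW : W ≤ ⨆ r : ↥(P ⊔ R), cj (r : G) (⨆ i, V i))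
    (hK : ∀ F : Subgroup G, F ≤ (S : Subgroup G) → IsBestOffenderOn 2 W F → F ≤ o2 R) :
    ∀ r ∈ R, ∀ i, ∃ j, cj r (Z i) = Z j := h.toO.permB hR hRD hW hK

end Cfsg.Agent.Omega.NOThreeL.RWide

end

section


/-!
# THEOREM PERM+ (helper278, #24948, #25094): the end

* `PIn.permR` : a minimal parabolic `R ≤ D` permutes the lines `Z i` (case A: `PermPure`, case B: helper545's `PermBIn`);
* **`PIn.permD`** : `D` permutes the lines `Z i`.
-/

set_option autoImplicit false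
set_option linter.unusedSectionVars false

namespace Cfsg.Agent.Omega.NOThreeL.RWide

open Subgroup Cfsg Cfsg.Agent.ZN Cfsg.Agent.ZN.ChoiceBase Cfsg.Agent.MinSimple.MinParabolic

universe u

variable {G : Type u} [Group G] {ι : Type*}

/-- the elements permuting the lines (a subgroup of a finite group) -/
def linePerm (Z : ι → Subgroup G) : Subgroup G where
  carrier := {x | (∀ i, ∃ j, cj x (Z i) = Z j) ∧ ∀ i, ∃ j, cj x⁻¹ (Z i) = Z j}
  one_mem' := ⟨fun i => ⟨i, cj_one _⟩, fun i => ⟨i, by rw [inv_one]; exact cj_one _⟩⟩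
  mul_mem' := by
    rintro a b ⟨ha, ha'⟩ ⟨hb, hb'⟩
    refine ⟨fun i => ?_, fun i => ?_⟩
    · obtain ⟨j, hj⟩ := hb i
      obtain ⟨k, hk⟩ := ha j
      exact ⟨k, by rw [← hk, ← hj, cj_cj]⟩
    · obtain ⟨j, hj⟩ := ha' i
      obtain ⟨k, hk⟩ := hb' j
      exact ⟨k, by rw [← hk, ← hj, cj_cj, mul_inv_rev]⟩
  inv_mem' := by
    rintro a ⟨ha, ha'⟩
    exact ⟨ha', by rw [inv_inv]; exact ha⟩

theorem mem_linePerm {Z : ι → Subgroup G} {x : G} :
    x ∈ linePerm Z ↔ (∀ i, ∃ j, cj x (Z i) = Z j) ∧ ∀ i, ∃ j, cj x⁻¹ (Z i) = Z j := Iff.rfl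

theorem le_linePerm {Z : ι → Subgroup G} {X : Subgroup G} (h : ∀ x ∈ X, ∀ i, ∃ j, cj x (Z i) = Z j) :
    X ≤ linePerm Z := fun x hx => ⟨h x hx, h x⁻¹ (inv_mem hx)⟩

namespace PIn

variable {S : Sylow 2 G} {D P N R : Subgroup G} {V Z : ι → Subgroup G} (h : PIn S D P N V Z)
include h

theorem wr_le_pr : wr R V ≤ ⨆ r : ↥(P ⊔ R), cj (r : G) (⨆ i, V i) :=
  wr_le fun r hr i => (cj_mono r (le_iSup V i)).trans
    (le_iSup (fun r : ↥(P ⊔ R) => cj (r : G) (⨆ i, V i)) ⟨r, (le_sup_right : R ≤ P ⊔ R) hr⟩)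

theorem permR [Finite G] (hR : IsMinPar (S : Subgroup G) R) (hRD : R ≤ D) :
    ∀ r ∈ R, ∀ i, ∃ j, cj r (Z i) = Z j := by
  by_cases hF : ∃ F : Subgroup G, F ≤ (S : Subgroup G) ∧ IsBestOffenderOn 2 (wr R V) F ∧ ¬ F ≤ o2 R
  · obtain ⟨F, hFS, hb, hK⟩ := hF
    exact h.permA hR hRD hFS hb hK
  · push Not at hF
    exact h.permB hR.le hRD h.wr_le_pr hF

/-- **THEOREM PERM+** : `D` permutes the lines `Z i`. -/
theorem permD [Finite G] : ∀ x ∈ D, ∀ i, ∃ j, cj x (Z i) = Z j := by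
  have h1 : D ≤ linePerm Z := by
    refine le_of_forall h.SD (le_linePerm fun s hs i => ?_) fun R hR hRD => le_linePerm (h.permR hR hRD)
    obtain ⟨j, -, hj⟩ := h.perm s ⟨hs.2, hs.1⟩ i
    exact ⟨j, hj⟩
  exact fun x hx => (h1 hx).1

end PIn

end Cfsg.Agent.Omega.NOThreeL.RWide

end

section


/-!
# A `T`-minimal `P` which acts on a line as an abelian group (box R, one block; bb #25228 of helper351)

* `eq_sup_of_abel` : `P` minimal over `S`, `P` normalises `X`, `P/C_P(X)` abelian: `P = C_P(X) S`;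
* `le_cent_of_abel` : then `P` centralises `X ∩ C(S)`;
* `not_parS_of_abel` : so `P ∉ P*(S)` if `Ω₁(Z(S)) ≤ X`;
* `comm_of_field` : if every `p ∈ P` acts on the line `u : F → G` by a field automorphism (`p` is semilinear and fixes a
  vector of the line), then `P/C_P(u(F))` is abelian; `not_parS_of_field` : `P ∉ P*(S)` if `Ω₁(Z(S)) ≤ u(F)`.
  So a single block `SL₂(q)` contradicts `RB.ex`.
-/

set_option autoImplicit false

namespace Cfsg.Agent.Omega.NOThreeL.RWide.OneBlk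

open Subgroup Cfsg Cfsg.Agent.ZN Cfsg.Agent.Omega.MinPar
open Cfsg.Agent.MinSimple.MinParabolic (IsMinPar)
open Cfsg.Agent.MinSimple.VModule (zc_le mem_zc o2_isPGroup o2_le le_normalizer_o2)

variable {G : Type*} [Group G] [Finite G]

/-- `P` minimal over `S`, `P/C_P(X)` abelian: `P = C_P(X) S`. -/
theorem eq_sup_of_abel {S P X : Subgroup G} (hP : IsMinPar S P) (hS : IsPGroup 2 S) (hd : ¬ 2 ∣ S.relIndex P)
    (hX : P ≤ normalizer (X : Set G))
    (hab : ∀ p ∈ P, ∀ q ∈ P, p * q * p⁻¹ * q⁻¹ ∈ centralizer (X : Set G)) :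
    P ⊓ centralizer (X : Set G) ⊔ S = P := by
  set C : Subgroup G := P ⊓ centralizer (X : Set G) with hC
  have hCP : C ⊔ S ≤ P := sup_le inf_le_left hP.le
  have hcn : ∀ p ∈ P, ∀ c ∈ C, p * c * p⁻¹ ∈ C := by
    rintro p hp c ⟨hc, hcx⟩
    refine ⟨P.mul_mem (P.mul_mem hp hc) (P.inv_mem hp), ?_⟩
    show p * c * p⁻¹ ∈ centralizer (X : Set G)
    rw [mem_centralizer_iff]
    intro x hx
    have h1 : p⁻¹ * x * p ∈ X := by
      have h2 := (mem_normalizer_iff.1 (hX (P.inv_mem hp)) x).1 hx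
      rwa [inv_inv] at h2
    have h3 := mem_centralizer_iff.1 hcx _ h1
    calc x * (p * c * p⁻¹) = p * ((p⁻¹ * x * p) * c) * p⁻¹ := by group
      _ = p * (c * (p⁻¹ * x * p)) * p⁻¹ := by rw [h3]
      _ = p * c * p⁻¹ * x := by group
  have hn : P ≤ normalizer ((C ⊔ S : Subgroup G) : Set G) := by
    have key : ∀ p ∈ P, ∀ x ∈ C ⊔ S, p * x * p⁻¹ ∈ C ⊔ S := by
      intro p hp x hx
      have h1 : C ⊔ S ≤ (C ⊔ S).comap (MulAut.conj p).toMonoidHom := by
        refine sup_le (fun c hc => ?_) fun s hs => ?_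
        · rw [mem_comap]
          exact (le_sup_left : C ≤ C ⊔ S) (hcn p hp c hc)
        · rw [mem_comap]
          show p * s * p⁻¹ ∈ C ⊔ S
          have h2 : p * s * p⁻¹ * s⁻¹ ∈ C :=
            ⟨P.mul_mem (P.mul_mem (P.mul_mem hp (hP.le hs)) (P.inv_mem hp)) (P.inv_mem (hP.le hs)),
              hab p hp s (hP.le hs)⟩
          have h3 : p * s * p⁻¹ = (p * s * p⁻¹ * s⁻¹) * s := by group
          rw [h3]
          exact (C ⊔ S).mul_mem (le_sup_left (a := C) h2) (le_sup_right (a := C) hs)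
      exact h1 hx
    intro p hp
    rw [mem_normalizer_iff]
    intro x
    refine ⟨key p hp x, fun hx => ?_⟩
    have h1 := key p⁻¹ (P.inv_mem hp) _ hx
    have e : p⁻¹ * (p * x * p⁻¹) * p⁻¹⁻¹ = x := by group
    rwa [e] at h1
  rcases hP.sup_eq_or_inf_le hS hd hCP hn with h1 | h1
  · rw [← h1, sup_assoc, sup_idem]
  · exfalso
    rw [inf_eq_left.2 (le_sup_right : S ≤ C ⊔ S)] at h1
    have h2 : S ≤ o2 P := h1
    have h3 : S = o2 P := by
      refine le_antisymm h2 ?_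
      rw [← relIndex_eq_one]
      by_contra h4
      obtain ⟨n, hn⟩ := (o2_isPGroup P).exists_card_eq
      have h5 : S.relIndex (o2 P) ∣ 2 ^ n := by
        rw [← hn]
        exact relIndex_dvd_card _ _
      obtain ⟨m, -, hm⟩ := (Nat.dvd_prime_pow Nat.prime_two).1 h5
      rcases m with _ | m
      · exact h4 (by rw [hm, pow_zero])
      · apply hd
        have h6 : S.relIndex (o2 P) * (o2 P).relIndex P = S.relIndex P := relIndex_mul_relIndex _ _ _ h2 (o2_le P)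
        rw [← h6, hm]
        exact Dvd.dvd.mul_right (dvd_pow_self 2 (Nat.succ_ne_zero m)) _
    apply hP.not_le
    rw [h3]
    exact le_normalizer_o2 P

/-- then `P` centralises `X ∩ C(S)` -/
theorem le_cent_of_abel {S P X : Subgroup G} (hP : IsMinPar S P) (hS : IsPGroup 2 S) (hd : ¬ 2 ∣ S.relIndex P)
    (hX : P ≤ normalizer (X : Set G))
    (hab : ∀ p ∈ P, ∀ q ∈ P, p * q * p⁻¹ * q⁻¹ ∈ centralizer (X : Set G)) {Z : Subgroup G} (hZX : Z ≤ X)
    (hZS : Z ≤ centralizer (S : Set G)) : P ≤ centralizer (Z : Set G) := by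
  rw [← eq_sup_of_abel hP hS hd hX hab]
  refine sup_le (inf_le_right.trans (centralizer_le hZX)) ?_
  intro s hs
  rw [mem_centralizer_iff]
  intro z hz
  exact (mem_centralizer_iff.1 (hZS hz) s hs).symm

/-- so `P ∉ P*(S)` if `Ω₁(Z(S)) ≤ X` -/
theorem not_parS_of_abel {S : Sylow 2 G} {P X : Subgroup G} (hP : IsParS (S : Subgroup G) P)
    (hX : P ≤ normalizer (X : Set G)) (hZX : zc (S : Subgroup G) ≤ X)
    (hab : ∀ p ∈ P, ∀ q ∈ P, p * q * p⁻¹ * q⁻¹ ∈ centralizer (X : Set G)) : False := by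
  apply hP.not_zc
  refine le_trans (le_cent_of_abel hP.toIsMinPar S.isPGroup' (MinSimple.Basic.not_dvd_relIndex S hP.le) hX hab hZX ?_)
    (centralizer_le_normalizer _)
  intro z hz
  rw [mem_centralizer_iff]
  intro s hs
  exact (mem_zc.1 hz).2.1 s hs

/-- field automorphisms of a finite field commute -/
theorem autField_comm {F : Type*} [Field F] [Finite F] (σ τ : F ≃+* F) (a : F) : σ (τ a) = τ (σ a) := by
  by_cases ha : a = 0
  · rw [ha, map_zero, map_zero, map_zero]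
  obtain ⟨g, hg⟩ := IsCyclic.exists_generator (α := Fˣ)
  obtain ⟨m, hm⟩ := mem_zpowers_iff.1 (hg (Units.map (σ : F →* F) g))
  obtain ⟨n, hn⟩ := mem_zpowers_iff.1 (hg (Units.map (τ : F →* F) g))
  obtain ⟨k, hk⟩ := mem_zpowers_iff.1 (hg (Units.mk0 a ha))
  have h1 : ∀ u : Fˣ, Units.map (σ : F →* F) (Units.map (τ : F →* F) u) =
      Units.map (τ : F →* F) (Units.map (σ : F →* F) u) := by
    intro u
    obtain ⟨j, rfl⟩ := mem_zpowers_iff.1 (hg u)
    rw [map_zpow, map_zpow, map_zpow, map_zpow, ← hn, ← hm, map_zpow, map_zpow, ← hm, ← hn, ← zpow_mul, ← zpow_mul,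
      ← zpow_mul, ← zpow_mul, mul_left_comm]
  have h2 := congrArg Units.val (h1 (Units.mk0 a ha))
  exact h2

omit [Finite G] in
/-- **field automorphisms of a finite field commute**, so `P/C_P(u(F))` is abelian if every `p ∈ P` acts on the line
`u : F → G` by a field automorphism -/
theorem comm_of_field {F : Type*} [Field F] [Finite F] {P : Subgroup G} {u : F → G}
    (hu : ∀ p ∈ P, ∃ σ : F ≃+* F, ∀ a, p * u a * p⁻¹ = u (σ a)) :
    ∀ p ∈ P, ∀ q ∈ P, p * q * p⁻¹ * q⁻¹ ∈ centralizer (Set.range u) := by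
  intro p hp q hq
  obtain ⟨σ, hσ⟩ := hu p hp
  obtain ⟨τ, hτ⟩ := hu q hq
  have hcomm := autField_comm σ τ
  rw [mem_centralizer_iff]
  rintro _ ⟨a, rfl⟩
  have h1 : ∀ a, p⁻¹ * u a * p = u (σ.symm a) := by
    intro a
    have h2 := hσ (σ.symm a)
    rw [RingEquiv.apply_symm_apply] at h2
    rw [← h2]
    group
  have h2 : ∀ a, q⁻¹ * u a * q = u (τ.symm a) := by
    intro a
    have h2 := hτ (τ.symm a)
    rw [RingEquiv.apply_symm_apply] at h2
    rw [← h2]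
    group
  have h3 : p * q * p⁻¹ * q⁻¹ * u a * (p * q * p⁻¹ * q⁻¹)⁻¹ = u a := by
    have e : p * q * p⁻¹ * q⁻¹ * u a * (p * q * p⁻¹ * q⁻¹)⁻¹ = p * (q * (p⁻¹ * (q⁻¹ * u a * q) * p) * q⁻¹) * p⁻¹ := by
      group
    rw [e, h2, h1, hτ, hσ, hcomm, RingEquiv.apply_symm_apply, RingEquiv.apply_symm_apply]
  rw [mul_inv_eq_iff_eq_mul] at h3
  exact h3.symm

/-- so `P ∉ P*(S)` if `Ω₁(Z(S))` lies on the line -/
theorem not_parS_of_field {F : Type*} [Field F] [Finite F] {S : Sylow 2 G} {P X : Subgroup G}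
    (hP : IsParS (S : Subgroup G) P) (hZX : zc (S : Subgroup G) ≤ X) {u : F → G} (hr : (X : Set G) = Set.range u)
    (hu : ∀ p ∈ P, ∃ σ : F ≃+* F, ∀ a, p * u a * p⁻¹ = u (σ a)) : False := by
  refine not_parS_of_abel hP (X := X) ?_ hZX ?_
  · have key : ∀ p ∈ P, ∀ x ∈ X, p * x * p⁻¹ ∈ X := by
      intro p hp x hx
      have h1 : x ∈ Set.range u := by
        rw [← hr]
        exact hx
      obtain ⟨a, rfl⟩ := h1
      obtain ⟨σ, hσ⟩ := hu p hp
      have h2 : p * u a * p⁻¹ ∈ (X : Set G) := by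
        rw [hr, hσ]
        exact ⟨_, rfl⟩
      exact h2
    intro p hp
    rw [mem_normalizer_iff]
    intro x
    refine ⟨key p hp x, fun hx => ?_⟩
    have h1 := key p⁻¹ (P.inv_mem hp) _ hx
    have e : p⁻¹ * (p * x * p⁻¹) * p⁻¹⁻¹ = x := by group
    rwa [e] at h1
  · rw [hr]
    exact comm_of_field hu

end Cfsg.Agent.Omega.NOThreeL.RWide.OneBlk

end
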