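import Cfsg.Agent.Mrg.Omega.NOThreeL.RWide.LinePerm


/-!
# THEOREM PERM+ over `S`-orbits of blocks (helper540; text: helper278, #24948, #25094; wish of 848 / 475)

No classes: `t = 1` is allowed, at least two `S`-orbits of blocks.

* `eq_one_of_mem` : `⨆_{i ∈ I} N i` and `⨆_{i ∉ I} N i` meet trivially (`N` independent, commuting);
* `exists_cent` : `x ∈ Z`, `x ∉ ⨆ blk M` ⟹ some `1 ≠ d ∈ Z` is centralised by `P`;
* **`perm_orb`** : `C_G(Z)` permutes the lines of each `S`-orbit.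
-/

set_option autoImplicit false
set_option linter.unusedSectionVars false

namespace Cfsg.Agent.Omega.NOThreeL.RWide.PInst

open Subgroup Cfsg Cfsg.Agent.ZN Cfsg.Agent.ZN.ChoiceBase
open Cfsg.Agent.Omega.FFThm Cfsg.Agent.Lib.SL2Mat
open Cfsg.Agent.Omega.MinPar Cfsg.Agent.Omega.Frame Cfsg.Agent.Omega.FrameNOFF
open Cfsg.Agent.Omega.FrameFF (cv)
open Cfsg.Agent.Omega.NO3S.ThmB hiding WP
open Cfsg.Agent.Omega.NO3S.KeyRad
open Cfsg.Agent.Omega.NOThreeL.RRed.NS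
open Cfsg.Agent.Omega.NOThreeL.RTree (RB)
open scoped Pointwise

universe u

variable {G : Type u} [Group G]

theorem eq_one_of_mem {β : Type*} {N : β → Subgroup G} (cm : ∀ a b, ∀ x ∈ N a, ∀ y ∈ N b, x * y = y * x)
    (ind : iSupIndep N) (I : Finset β) : ∀ x : G, x ∈ (⨆ (i) (_ : i ∈ I), N i) → x ∈ (⨆ (i) (_ : i ∉ I), N i) →
      x = 1 := by
  classical
  induction I using Finset.induction_on with
  | empty =>
    intro x hx _
    have h1 : (⨆ (i) (_ : i ∈ (∅ : Finset β)), N i) ≤ ⊥ := iSup₂_le fun i hi => absurd hi (Finset.notMem_empty i)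
    exact mem_bot.1 (h1 hx)
  | insert a I ha ih =>
    intro x hx hx'
    have h1 : (⨆ (i) (_ : i ∈ insert a I), N i) ≤ (⨆ (i) (_ : i ∈ I), N i) ⊔ N a := by
      refine iSup₂_le fun i hi => ?_
      rcases Finset.mem_insert.1 hi with h | h
      · rw [h]; exact le_sup_right
      · exact le_sup_of_le_left (le_iSup₂_of_le i h le_rfl)
    have hnorm : (⨆ (i) (_ : i ∈ I), N i) ≤ normalizer (N a : Set G) := iSup₂_le fun i _ w hw =>
      centralizer_le_normalizer _ (mem_centralizer_iff.2 fun y hy => cm a i y hy w hw)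
    have h2 : x ∈ (((⨆ (i) (_ : i ∈ I), N i) ⊔ N a : Subgroup G) : Set G) := h1 hx
    rw [coe_mul_of_left_le_normalizer_right _ _ hnorm] at h2
    obtain ⟨y, hy, n, hn, hyn⟩ := h2
    have hyn' : y * n = x := hyn
    have h3 : (⨆ (i) (_ : i ∈ I), N i) ≤ ⨆ (i) (_ : i ≠ a), N i :=
      iSup₂_le fun i hi => le_iSup₂_of_le i (fun h => ha (h ▸ hi)) le_rfl
    have h4 : (⨆ (i) (_ : i ∉ insert a I), N i) ≤ ⨆ (i) (_ : i ≠ a), N i :=
      iSup₂_le fun i hi => le_iSup₂_of_le i (fun h => hi (h ▸ Finset.mem_insert_self _ _)) le_rfl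
    have h5 : n = y⁻¹ * x := by rw [← hyn']; group
    have h6 : n ∈ ⨆ (i) (_ : i ≠ a), N i := by
      rw [h5]; exact mul_mem (inv_mem (h3 hy)) (h4 hx')
    have h7 := (disjoint_iff_inf_le.1 (ind a)) ⟨hn, h6⟩
    rw [mem_bot] at h7
    rw [h7, mul_one] at hyn'
    refine ih x (hyn' ▸ hy) ?_
    have h8 : (⨆ (i) (_ : i ∉ insert a I), N i) ≤ ⨆ (i) (_ : i ∉ I), N i :=
      iSup₂_le fun i hi => le_iSup₂_of_le i (fun h => hi (Finset.mem_insert_of_mem h)) le_rfl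
    exact h8 hx'

section fin

variable [Finite G] {S : Sylow 2 G} {P : Subgroup G} {F : Type} [Field F] [CharP F 2] {k : ℕ}
  {M : NatKM F (S : Subgroup G) P (zl (S : Subgroup G) P) (cv (S : Subgroup G) P) k}

theorem exists_cent (h : Nb M) (spl : ∀ j, DD M j = ⊥) (hVS : zl (S : Subgroup G) P ≤ (S : Subgroup G)) {x : G}
    (hx : x ∈ zc (S : Subgroup G))
    (hxb : x ∉ ⨆ j, blk M j) : ∃ d ∈ zc (S : Subgroup G), d ≠ 1 ∧ P ≤ centralizer ({d} : Set G) := by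
  have hxV : x ∈ zl (S : Subgroup G) P :=
    (MinSimple.VModule.zc_le_zl _ _ : zc (S : Subgroup G) ≤ zl (S : Subgroup G) P) hx
  obtain ⟨w, hw, hwx⟩ := exists_iSup_blk h x
  have hwV := PNat.sup_le_V h hw
  have hd : x * w⁻¹ ∈ cv (S : Subgroup G) P := (h.mem_D hxV hwV).2 hwx.symm
  have hS : ∀ s ∈ (S : Subgroup G), s * w = w * s := by
    intro s hs
    have h1 : s * w * s⁻¹ = w := by
      refine PNat.ext h spl (conj_iSup_blk h (h.SP' hs) hw) hw ?_
      have e1 : s * x * s⁻¹ = x := by rw [(ChoiceBase.mem_zc.1 hx).2.2 s hs]; group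
      have h2 := (h.mem_D hxV hwV).1 hd
      have h3 : s * (x * w⁻¹) * s⁻¹ ∈ cv (S : Subgroup G) P :=
        (mem_normalizer_iff.1 (h.DP' (h.SP' hs)) _).1 hd
      have e2 : s * (x * w⁻¹) * s⁻¹ = x * (s * w * s⁻¹)⁻¹ := by
        calc s * (x * w⁻¹) * s⁻¹ = (s * x * s⁻¹) * (s * w * s⁻¹)⁻¹ := by group
          _ = _ := by rw [e1]
      rw [e2] at h3
      rw [← (h.mem_D hxV (h.memV (h.SP' hs) hwV)).1 h3, h2]
    calc s * w = s * w * s⁻¹ * s := by group
      _ = w * s := by rw [h1]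
  have hdS : ∀ s ∈ (S : Subgroup G), s * (x * w⁻¹) = x * w⁻¹ * s := by
    intro s hs
    have h1 : s * w⁻¹ = w⁻¹ * s := by
      have := hS s hs
      calc s * w⁻¹ = w⁻¹ * (w * s) * w⁻¹ := by group
        _ = w⁻¹ * (s * w) * w⁻¹ := by rw [this]
        _ = w⁻¹ * s := by group
    calc s * (x * w⁻¹) = (s * x) * w⁻¹ := by group
      _ = x * (s * w⁻¹) := by rw [(ChoiceBase.mem_zc.1 hx).2.2 s hs]; group
      _ = x * w⁻¹ * s := by rw [h1]; group
  have hdV : x * w⁻¹ ∈ zl (S : Subgroup G) P := hd.1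
  have hdc : P ≤ centralizer ({x * w⁻¹} : Set G) := by
    have hU : zpowers (x * w⁻¹) ≤ zl (S : Subgroup G) P := (zpowers_le).2 hdV
    rw [← KL.Star.Core.oddGen_sup h.SP' (MinSimple.Basic.not_dvd_relIndex S h.SP')]
    refine sup_le (fun g hg => mem_centralizer_singleton_iff.2 ?_)
      fun s hs => mem_centralizer_singleton_iff.2 (hdS s hs)
    exact mem_centralizer_iff.1 hd.2 g hg
  refine ⟨x * w⁻¹, ChoiceBase.mem_zc.2 ⟨hVS hdV, ?_, hdS⟩, fun h0 => hxb ?_, hdc⟩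
  · rw [pow_two]; exact h.sq hdV
  · rw [mul_inv_eq_one.1 h0]; exact hw

end fin

theorem conj_iSup_le {β : Type*} {N : β → Subgroup G} {p p' : β → Prop} {g : G}
    (h : ∀ b, p b → ∃ c, p' c ∧ MulAut.conj g • N b = N c) {x : G} (hx : x ∈ ⨆ (b) (_ : p b), N b) :
    g * x * g⁻¹ ∈ ⨆ (b) (_ : p' b), N b := by
  have h1 : (⨆ (b) (_ : p b), N b) ≤ (⨆ (b) (_ : p' b), N b).comap (MulAut.conj g).toMonoidHom := by
    refine iSup₂_le fun b hb w hw => ?_
    obtain ⟨c, hc, hbc⟩ := h b hb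
    rw [mem_comap]
    have h2 : (MulAut.conj g).toMonoidHom w ∈ N c := by
      rw [← hbc]; exact ⟨w, hw, rfl⟩
    exact (le_iSup₂_of_le c hc le_rfl : N c ≤ ⨆ (b) (_ : p' b), N b) h2
  exact h1 hx

/-- **PERM+ over `S`-orbits** -/
theorem perm_orb [Finite G] {S : Sylow 2 G} {β : Type*} [Finite β] {N l : β → Subgroup G} (hB : RB S)
    (hNS : ∀ b, N b ≤ (S : Subgroup G)) (cm : ∀ a b, ∀ x ∈ N a, ∀ y ∈ N b, x * y = y * x)
    (sq : ∀ b, ∀ x ∈ N b, x ^ 2 = 1) (ind : iSupIndep N) (ne : ∀ b, N b ≠ ⊥)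
    (permN : ∀ s ∈ normalizer ((S : Subgroup G) : Set G), ∀ b, ∃ c,
      MulAut.conj s • N b = N c ∧ MulAut.conj s • l b = l c)
    (src : ∀ b, ∃ P, IsParS (S : Subgroup G) P ∧ ∃ (F : Type) (_ : Field F) (_ : CharP F 2) (k : ℕ)
      (M : NatKM F (S : Subgroup G) P (zl (S : Subgroup G) P) (cv (S : Subgroup G) P) k) (h : Nb M) (j : Fin k),
      (∀ i, DD M i = ⊥) ∧ N b = blk M j ∧ l b = YY h j)
    (all : ∀ b, ∃ A, KL.TwoS.Mx (o2 (centralizer (zc (S : Subgroup G) : Set G))) A ∧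
      ¬ A ≤ centralizer (N b : Set G))
    (two : ∀ b, ∃ c, ∀ s ∈ (S : Subgroup G), MulAut.conj s • N b ≠ N c) :
    ∀ x ∈ centralizer (zc (S : Subgroup G) : Set G), ∀ b, ∃ b', (∃ s ∈ (S : Subgroup G), MulAut.conj s • N b = N b') ∧
      MulAut.conj x • l b = l b' := by
  classical
  intro x hx b
  have hS1 : (S : Subgroup G) ≠ ⊥ := hB.ctx.sylow_ne_bot S
  obtain ⟨P, hP, F, _, _, k, M, h, j, spl, hNb, hlb⟩ := src b
  have hVS : zl (S : Subgroup G) P ≤ S :=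
    ((Basic.zl_le_WP hP).trans (Basic.WP_le_Q hB.data)).trans ((isLoc_centralizer_zc S hS1).o2_le S)
  have hV : ∀ a, ∃ b', N b' = blk M a ∧ l b' = YY h a ∧ ∃ s ∈ (S : Subgroup G), MulAut.conj s • N b = N b' := by
    intro a
    obtain ⟨s, hs, h1, h2⟩ := PNat.transZ h spl j a
    obtain ⟨b', h3, h4⟩ := permN s (le_normalizer hs) b
    refine ⟨b', ?_, ?_, s, hs, h3⟩
    · rw [← h1, ← hNb, ← h3]; rfl
    · rw [← h2, ← hlb, ← h4]; rfl
  -- the orbit of `c`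
  obtain ⟨c, hc⟩ := two b
  have hp : ∀ t ∈ (S : Subgroup G), ∀ d, (∃ s ∈ (S : Subgroup G), MulAut.conj s • N c = N d) →
      ∃ e, (∃ s ∈ (S : Subgroup G), MulAut.conj s • N c = N e) ∧ MulAut.conj t • N d = N e := by
    rintro t ht d ⟨s, hs, hsd⟩
    obtain ⟨e, he, -⟩ := permN t (le_normalizer ht) d
    refine ⟨e, ⟨t * s, mul_mem ht hs, ?_⟩, he⟩
    rw [map_mul, mul_smul, hsd, he]
  set U : Subgroup G := ⨆ (d) (_ : ∃ s ∈ (S : Subgroup G), MulAut.conj s • N c = N d), N d with hU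
  have hcU : N c ≤ U := le_iSup₂_of_le c ⟨1, one_mem _, by rw [map_one, one_smul]⟩ le_rfl
  have hUS : U ≤ (S : Subgroup G) := iSup₂_le fun d _ => hNS d
  have hUne : U ≠ ⊥ := fun h0 => ne c (le_bot_iff.1 (h0 ▸ hcU))
  have hUn : (S : Subgroup G) ≤ normalizer (U : Set G) := by
    intro t ht
    refine mem_normalizer_iff.2 fun y => ⟨fun hy => conj_iSup_le (hp t ht) hy, fun hy => ?_⟩
    have h1 := conj_iSup_le (hp t⁻¹ (inv_mem ht)) hy
    have e : t⁻¹ * (t * y * t⁻¹) * t⁻¹⁻¹ = y := by group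
    rwa [e] at h1
  have hUc : ∀ u ∈ U, ∀ a, ∀ y ∈ N a, u * y = y * u := by
    intro u hu a y hy
    have h1 : U ≤ centralizer ({y} : Set G) := iSup₂_le fun d _ w hw =>
      mem_centralizer_singleton_iff.2 (cm d a w hw y hy)
    exact mem_centralizer_singleton_iff.1 (h1 hu)
  have hUsq : ∀ u ∈ U, u ^ 2 = 1 := by
    intro u hu
    have hUU : ∀ u ∈ U, ∀ v ∈ U, u * v = v * u := by
      intro u hu v hv
      have h1 : U ≤ centralizer ({u} : Set G) := iSup₂_le fun d _ w hw =>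
        mem_centralizer_singleton_iff.2 (hUc u hu d w hw).symm
      exact (mem_centralizer_singleton_iff.1 (h1 hv)).symm
    let K : Subgroup G :=
      { carrier := {x | x ∈ U ∧ x ^ 2 = 1}
        one_mem' := ⟨one_mem _, one_pow 2⟩
        mul_mem' := by
          rintro a b ⟨ha, ha2⟩ ⟨hb, hb2⟩
          refine ⟨mul_mem ha hb, ?_⟩
          rw [pow_two] at ha2 hb2 ⊢
          calc a * b * (a * b) = a * (b * a) * b := by group
            _ = a * (a * b) * b := by rw [hUU b hb a ha]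
            _ = (a * a) * (b * b) := by group
            _ = 1 := by rw [ha2, hb2, one_mul]
        inv_mem' := by
          rintro a ⟨ha, ha2⟩
          exact ⟨inv_mem ha, by rw [inv_pow, ha2, inv_one]⟩ }
    have h1 : U ≤ K := by
      refine iSup₂_le fun d hd w hw => ?_
      exact ⟨(le_iSup₂_of_le d hd le_rfl : N d ≤ U) hw, sq d w hw⟩
    exact (h1 hu).2
  obtain ⟨⟨z, hz⟩, hz1⟩ := Subgroup.ne_bot_iff_exists_ne_one.1 (inf_zc_ne hUS hUn hUsq hUne)
  have hz1' : z ≠ 1 := fun h0 => hz1 (Subtype.ext h0)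
  have hzb : z ∉ ⨆ a, blk M a := by
    intro h0
    refine hz1' (eq_one_of_mem cm ind (Set.toFinite {d | ∃ s ∈ (S : Subgroup G), MulAut.conj s • N c = N d}).toFinset
      z ?_ ?_)
    · have e : (⨆ (i) (_ : i ∈ (Set.toFinite {d | ∃ s ∈ (S : Subgroup G), MulAut.conj s • N c = N d}).toFinset), N i) =
          U := by simp [hU]
      rw [e]; exact hz.1
    · refine (iSup_le fun a => ?_ : (⨆ a, blk M a) ≤ _) h0
      obtain ⟨b', h1, -, s, hs, h2⟩ := hV a
      rw [← h1]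
      refine le_iSup₂_of_le b' (fun h3 => ?_) le_rfl
      rw [Set.Finite.mem_toFinset] at h3
      obtain ⟨t, ht, h4⟩ := h3
      refine hc (t⁻¹ * s) (mul_mem (inv_mem ht) hs) ?_
      rw [map_mul, mul_smul, h2, ← h4, map_inv, inv_smul_smul]
  obtain ⟨d, hd, hd1, hPd⟩ := exists_cent h spl hVS hz.2 hzb
  have hX : zpowers d ≤ zc (S : Subgroup G) := (zpowers_le).2 hd
  have hX1 : zpowers d ≠ ⊥ := fun h0 => hd1 (zpowers_eq_bot.1 h0)
  have hPX : P ≤ centralizer ((zpowers d : Subgroup G) : Set G) := by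
    intro g hg
    refine mem_centralizer_iff.2 fun y hy => ?_
    obtain ⟨n, rfl⟩ := mem_zpowers_iff.1 hy
    have h1 : Commute d g := (mem_centralizer_singleton_iff.1 (hPd hg)).symm
    exact h1.zpow_left n
  obtain ⟨A, hA, hA'⟩ := all b
  obtain ⟨a, ha⟩ := line_perm h spl hB hP hX hX1 hPX
    ⟨A, hA, fun h0 => hA' (h0.trans (centralizer_le (hNb ▸ (le_iSup (blk M) j : blk M j ≤ _))))⟩ ind ne
    (fun i => by
      obtain ⟨b', h1, h2, -⟩ := hV i
      exact ⟨b', h1, h2⟩) permN x hx j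
  obtain ⟨b', -, h2, h3⟩ := hV a
  refine ⟨b', h3, ?_⟩
  rw [h2, ← ha, hlb]
  rfl

end Cfsg.Agent.Omega.NOThreeL.RWide.PInst
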