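import Cfsg.Agent.Mrg.Omega.NOThreeL.RWide.TypT
import Cfsg.Agent.Mrg.Omega.EDel.UQ.TFrame
import Cfsg.Agent.Mrg.Omega.SQ1.Choice
import Cfsg.Agent.Mrg.Omega.NOne.LemmaT

section


/-!
# `N_G(T)` permutes the lines (helper848 #24915 (A))

`V = ∏ N b` elementary abelian, lines `l b ≤ N b`, `R = ∏ l b` (`= Z_J`), `B = C_S(R)`, `T` the kernel of `S` on the blocks,
`F b = C_(l b)(T)`, `C = C_G(Ω₁Z(S))`.

* `Tf S V N l` : the situation; inputs `I1 : N_C(T) ≤ N_G(B)` (`I1_of` : from `C ≤ N_G(R)`), `I2 : N_C(B) ≤ N_G(V)`, `I4 : Ω₁Z(B) ≤ R`, `wc`, `permX`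
  (helper655 #26055) and the dichotomy `par` for the minimal parabolics;
* `Tf.R_le` : `N_G(R) ≤ C_G(R) (N_G(B) ∩ N_G(V))`;  `Tf.B_le` : `N_G(B) ≤ N_G(V)`;  `Tf.T_le` : `N_G(T) ≤ N_G(B) ∩ N_G(V)`;
* `Tf.NT`, `Tf.ker`, `Tf.zcT`, `Tf.ne`, `Tf.F_le` : the hypotheses of `TypT.of`.
-/

set_option autoImplicit false
set_option linter.unusedSectionVars false

namespace Cfsg.Agent.Omega.NOThreeL.RWide.TAct

open Subgroup Cfsg Cfsg.Agent.Omega.MinPar
open Cfsg.Agent.ZN (zc o2)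
open Cfsg.Agent.ZN.ChoiceBase (cj cj_mono cj_inf cj_centralizer cj_eq_of_mem_normalizer mem_cj mem_normalizer_iff_cj
  cj_cj_inv cj_inv_cj cj_cj cj_one mem_zc isPGroup_cj card_cj)
open Cfsg.Agent.ZN.ChoiceSit (Syl syl_conj exists_syl)
open Cfsg.Agent.MinSimple.MinParabolic (IsMinPar le_of_forall)
open Cfsg.Agent.MinSimple.VModule (zc_le normalizer_le_normalizer_zc le_centralizer_zc)
open Cfsg.Agent.Omega.NoFF.Basic (comm_symm)

universe u v

variable {G : Type u} [Group G] {ι : Type v}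

/-- the kernel of `S` on the blocks -/
abbrev TT (S : Subgroup G) (N : ι → Subgroup G) : Subgroup G := S ⊓ ⨅ b, normalizer (N b : Set G)

/-- `B = C_S(∏ l b)` -/
abbrev BB (S : Subgroup G) (l : ι → Subgroup G) : Subgroup G := S ⊓ centralizer ((⨆ b, l b : Subgroup G) : Set G)

/-- `C_(l b)(T)` -/
abbrev FF (S : Subgroup G) (N l : ι → Subgroup G) (b : ι) : Subgroup G := l b ⊓ centralizer (TT S N : Set G)

/-- `B ≤ T` -/
theorem BT_of {S : Subgroup G} {N l : ι → Subgroup G}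
    (perm : ∀ s ∈ S, ∀ b, ∃ c, cj s (N b) = N c ∧ cj s (l b) = l c) (inj : ∀ b c, l b = l c → b = c) :
    BB S l ≤ TT S N := by
  rintro b ⟨hbS, hbC⟩
  refine ⟨hbS, (mem_iInf.2 fun c => ?_ : _)⟩
  obtain ⟨d, hd, hd'⟩ := perm b hbS c
  have h1 : cj b (l c) = l c :=
    cj_eq_of_mem_normalizer (centralizer_le_normalizer _ (centralizer_le (le_iSup l c) hbC))
  rw [h1] at hd'
  have h2 := inj _ _ hd'
  subst h2
  exact mem_normalizer_iff_cj.2 hd

/-- the input `I1` from `C ≤ N_G(∏ l b)` -/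
theorem I1_of {S C : Subgroup G} {N l : ι → Subgroup G}
    (perm : ∀ s ∈ S, ∀ b, ∃ c, cj s (N b) = N c ∧ cj s (l b) = l c) (inj : ∀ b c, l b = l c → b = c)
    (hI : C ≤ normalizer ((⨆ b, l b : Subgroup G) : Set G)) :
    C ⊓ normalizer (TT S N : Set G) ≤ normalizer (BB S l : Set G) := by
  rintro r ⟨hr, hrT⟩
  have e : BB S l = TT S N ⊓ centralizer ((⨆ b, l b : Subgroup G) : Set G) :=
    le_antisymm (le_inf (BT_of perm inj) inf_le_right) (le_inf (inf_le_left.trans inf_le_left) inf_le_right)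
  rw [mem_normalizer_iff_cj, e, cj_inf, cj_eq_of_mem_normalizer hrT, cj_centralizer,
    cj_eq_of_mem_normalizer (hI hr)]

/-- **The situation.** -/
structure Tf [Finite G] (S : Sylow 2 G) (V : Subgroup G) (N l : ι → Subgroup G) : Prop where
  com : V ≤ centralizer (V : Set G)
  sq : ∀ v ∈ V, v ^ 2 = 1
  sup : ⨆ b, N b = V
  ind : ∀ b, N b ⊓ (⨆ c : {c // c ≠ b}, N c) = ⊥
  lN : ∀ b, l b ≤ N b
  lne : ∀ b, l b ≠ ⊥
  perm : ∀ s ∈ (S : Subgroup G), ∀ b, ∃ c, cj s (N b) = N c ∧ cj s (l b) = l c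
  nS : normalizer ((S : Subgroup G) : Set G) ≤ normalizer (V : Set G)
  par : ∀ R, IsPar (S : Subgroup G) R → R ≤ centralizer (zc (S : Subgroup G) : Set G) ∨ R ≤ normalizer (V : Set G)
  /-- see `I1_of` -/
  I1 : centralizer (zc (S : Subgroup G) : Set G) ⊓ normalizer (TT (S : Subgroup G) N : Set G) ≤
    normalizer (BB (S : Subgroup G) l : Set G)
  I2 : centralizer (zc (S : Subgroup G) : Set G) ⊓ normalizer (BB (S : Subgroup G) l : Set G) ≤ normalizer (V : Set G)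
  I4 : zc (BB (S : Subgroup G) l) ≤ ⨆ b, l b
  wc : ∀ g ∈ normalizer (V : Set G), cj g (BB (S : Subgroup G) l) ≤ S → cj g (BB (S : Subgroup G) l) = BB (S : Subgroup G) l
  permX : ∀ x ∈ normalizer (BB (S : Subgroup G) l : Set G), x ∈ normalizer (V : Set G) →
    ∀ b, ∃ c, cj x (l b) = l c ∧ cj x (N b) = N c

namespace Tf

variable [Finite G] {S : Sylow 2 G} {V : Subgroup G} {N l : ι → Subgroup G} (h : Tf S V N l)
include h

theorem SV : (S : Subgroup G) ≤ normalizer (V : Set G) := le_normalizer.trans h.nS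

theorem V2 : IsPGroup 2 V := fun x => ⟨1, Subtype.ext (by simpa using h.sq x x.2)⟩

theorem VS : V ≤ (S : Subgroup G) := le_of_le_normalizer S h.V2 h.SV

theorem NV (b : ι) : N b ≤ V := by rw [← h.sup]; exact le_iSup N b

theorem lV (b : ι) : l b ≤ V := (h.lN b).trans (h.NV b)

theorem RV : (⨆ b, l b) ≤ V := iSup_le h.lV

theorem RS : (⨆ b, l b) ≤ (S : Subgroup G) := h.RV.trans h.VS

/-- `N b` determines `b` -/
theorem N_inj {b c : ι} (e : N b = N c) : b = c := by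
  by_contra hne
  apply h.lne b
  rw [eq_bot_iff, ← h.ind b]
  exact le_inf (h.lN b) (((h.lN b).trans e.le).trans
    (le_iSup (fun c : {c // c ≠ b} => N c) ⟨c, fun e => hne e.symm⟩))

theorem l_inj {b c : ι} (e : l b = l c) : b = c := by
  by_contra hne
  apply h.lne b
  rw [eq_bot_iff, ← h.ind b]
  exact le_inf (h.lN b) ((e.le.trans (h.lN c)).trans
    (le_iSup (fun c : {c // c ≠ b} => N c) ⟨c, fun e => hne e.symm⟩))

/-- `S` normalises `R` -/
theorem SR : (S : Subgroup G) ≤ normalizer ((⨆ b, l b : Subgroup G) : Set G) := by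
  intro s hs
  refine Cfsg.Agent.ZN.ChoiceBase.mem_normalizer_of_cj_le ?_
  rw [cj, Subgroup.map_iSup]
  refine iSup_le fun b => ?_
  obtain ⟨c, -, hc⟩ := h.perm s hs b
  exact (le_of_eq hc).trans (le_iSup l c)

/-- `R ≤ B` -/
theorem RB : (⨆ b, l b) ≤ BB (S : Subgroup G) l :=
  le_inf h.RS (h.RV.trans (h.com.trans (centralizer_le h.RV)))

/-- `Ω₁Z(B) = R` -/
theorem zcB : zc (BB (S : Subgroup G) l) = ⨆ b, l b := by
  refine le_antisymm h.I4 fun x hx => ?_
  exact mem_zc.2 ⟨h.RB hx, h.sq x (h.RV hx), fun y hy => (mem_centralizer_iff.1 hy.2 x hx).symm⟩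

/-- `Z ≤ R` -/
theorem ZR : zc (S : Subgroup G) ≤ ⨆ b, l b := by
  rw [← h.zcB]
  intro x hx
  obtain ⟨hxS, hx2, hxc⟩ := mem_zc.1 hx
  refine mem_zc.2 ⟨⟨hxS, mem_centralizer_iff.2 fun y hy => hxc y (h.RS hy)⟩, hx2, fun y hy => hxc y hy.1⟩

/-- `C_G(R) ≤ C` -/
theorem DC : centralizer ((⨆ b, l b : Subgroup G) : Set G) ≤ centralizer (zc (S : Subgroup G) : Set G) :=
  centralizer_le h.ZR

/-- `S` normalises `T` -/
theorem ST : (S : Subgroup G) ≤ normalizer (TT (S : Subgroup G) N : Set G) := by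
  have key : ∀ s ∈ (S : Subgroup G), cj s (TT (S : Subgroup G) N) ≤ TT (S : Subgroup G) N := by
    intro s hs
    rintro _ ⟨t, ⟨htS, htN⟩, rfl⟩
    refine ⟨(S : Subgroup G).mul_mem ((S : Subgroup G).mul_mem hs htS) ((S : Subgroup G).inv_mem hs),
      (mem_iInf.2 fun b => ?_ : _)⟩
    obtain ⟨c, hc, -⟩ := h.perm s⁻¹ ((S : Subgroup G).inv_mem hs) b
    change s * t * s⁻¹ ∈ _
    rw [mem_normalizer_iff_cj, ← cj_cj, ← cj_cj, hc, cj_eq_of_mem_normalizer (mem_iInf.1 htN c), ← hc, cj_cj_inv]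
  exact fun s hs => Cfsg.Agent.ZN.ChoiceBase.mem_normalizer_of_cj_le (key s hs)

/-- `S` normalises `B` -/
theorem SB : (S : Subgroup G) ≤ normalizer (BB (S : Subgroup G) l : Set G) := by
  intro s hs
  rw [mem_normalizer_iff_cj, cj_inf, cj_eq_of_mem_normalizer (Subgroup.le_normalizer hs), cj_centralizer,
    cj_eq_of_mem_normalizer (h.SR hs)]

/-- `B ≤ T` -/
theorem BT : BB (S : Subgroup G) l ≤ TT (S : Subgroup G) N := BT_of h.perm fun _ _ e => h.l_inj e

theorem B2 : IsPGroup 2 (BB (S : Subgroup G) l) := S.isPGroup'.to_le inf_le_left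

theorem T2 : IsPGroup 2 (TT (S : Subgroup G) N) := S.isPGroup'.to_le inf_le_left

theorem nB_nR : normalizer (BB (S : Subgroup G) l : Set G) ≤ normalizer ((⨆ b, l b : Subgroup G) : Set G) := by
  have h1 := normalizer_le_normalizer_zc (BB (S : Subgroup G) l)
  rwa [h.zcB] at h1

omit h in
theorem sylS {P : Subgroup G} (hSP : (S : Subgroup G) ≤ P) : Syl (S : Subgroup G) P :=
  ⟨hSP, S.isPGroup', fun _ _ hQ2 hSQ => (S.is_maximal' hQ2 hSQ)⟩

/-- Frattini inside `P`, `S ≤ P ≤ N_G(R)` -/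
theorem frattini {P : Subgroup G} (hSP : (S : Subgroup G) ≤ P)
    (hP : P ≤ normalizer ((⨆ b, l b : Subgroup G) : Set G)) {p : G} (hp : p ∈ P) :
    ∃ d ∈ centralizer ((⨆ b, l b : Subgroup G) : Set G), d ∈ P ∧
      ∃ n ∈ normalizer (BB (S : Subgroup G) l : Set G), n ∈ P ∧ p = d * n := by
  set K := P ⊓ centralizer ((⨆ b, l b : Subgroup G) : Set G) with hK
  have hKn : ∀ g ∈ P, cj g K = K := fun g hg => by
    rw [hK, cj_inf, cj_eq_of_mem_normalizer (Subgroup.le_normalizer hg), cj_centralizer,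
      cj_eq_of_mem_normalizer (hP hg)]
  have hB : Syl (BB (S : Subgroup G) l) K := by
    have h1 := SQ1.FFOne.syl_inf (T := (S : Subgroup G)) (H := P) (N := K) (sylS hSP) inf_le_left
      (fun g hg n hn => by
        have := hKn g hg
        rw [← this]
        exact ⟨n, hn, rfl⟩)
    have e : (S : Subgroup G) ⊓ K = BB (S : Subgroup G) l := by
      rw [hK, ← inf_assoc, inf_eq_left.2 hSP]
    rwa [e] at h1
  have h1 : cj p (BB (S : Subgroup G) l) ≤ K := by
    have h2 := cj_mono p hB.1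
    rwa [hKn p hp] at h2
  obtain ⟨Q, hQ, hle⟩ := exists_syl (isPGroup_cj p h.B2) h1
  obtain ⟨d, hd, rfl⟩ := syl_conj hB hQ
  refine ⟨d, hd.2, hd.1, d⁻¹ * p, ?_, mul_mem (inv_mem hd.1) hp, by group⟩
  have h3 : cj (d⁻¹ * p) (BB (S : Subgroup G) l) ≤ BB (S : Subgroup G) l := by
    have := cj_mono d⁻¹ hle
    rwa [cj_inv_cj, cj_cj] at this
  exact mem_normalizer_iff_cj.2 (Subgroup.eq_of_le_of_card_ge h3 (by rw [card_cj]))

/-- `N(V) ∩ N(S) ≤ N(B)` and more: if `g ∈ N(V)` and `B^g ≤ S` then `g ∈ N(B)` -/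
theorem mem_nB {g : G} (hg : g ∈ normalizer (V : Set G)) (hgS : cj g (BB (S : Subgroup G) l) ≤ S) :
    g ∈ normalizer (BB (S : Subgroup G) l : Set G) := mem_normalizer_iff_cj.2 (h.wc g hg hgS)

theorem nS_nB : normalizer ((S : Subgroup G) : Set G) ≤ normalizer (BB (S : Subgroup G) l : Set G) := by
  intro g hg
  refine h.mem_nB (h.nS hg) ?_
  have h1 := cj_mono g (inf_le_left : BB (S : Subgroup G) l ≤ (S : Subgroup G))
  rwa [cj_eq_of_mem_normalizer hg] at h1

/-- a minimal parabolic normalising a nontrivial 2-group is local -/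
theorem isPar_of {R U : Subgroup G} (hR : IsMinPar (S : Subgroup G) R) (hU : IsPGroup 2 U) (hU1 : U ≠ ⊥)
    (hRU : R ≤ normalizer (U : Set G)) : IsPar (S : Subgroup G) R :=
  ⟨hR, (isLoc_of_le_normalizer S hR.le hU hU1 hRU).o2_ne⟩

theorem R_ne [Nonempty ι] : (⨆ b, l b) ≠ ⊥ := fun e =>
  h.lne (Classical.arbitrary ι) (by rw [eq_bot_iff, ← e]; exact le_iSup l _)

theorem T_ne [Nonempty ι] : TT (S : Subgroup G) N ≠ ⊥ := fun e => h.R_ne (by
  rw [eq_bot_iff, ← e]; exact h.RB.trans h.BT)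

/-- **`N_G(R) ≤ C_G(R) (N_G(B) ∩ N_G(V))`** -/
theorem R_le [Nonempty ι] : normalizer ((⨆ b, l b : Subgroup G) : Set G) ≤
    centralizer ((⨆ b, l b : Subgroup G) : Set G) ⊔
      (normalizer (BB (S : Subgroup G) l : Set G) ⊓ normalizer (V : Set G)) := by
  refine le_of_forall h.SR ?_ fun R hR hRN => ?_
  · exact le_trans (le_inf (inf_le_right.trans h.nS_nB) (inf_le_right.trans h.nS)) le_sup_right
  · intro r hr
    obtain ⟨d, hd, hdR, n, hn, hnR, rfl⟩ := h.frattini hR.le hRN hr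
    refine mul_mem (mem_sup_left hd) (mem_sup_right ⟨hn, ?_⟩)
    rcases h.par R (h.isPar_of hR (h.V2.to_le h.RV) h.R_ne hRN) with h1 | h1
    · exact h.I2 ⟨h1 hnR, hn⟩
    · exact h1 hnR

/-- **`N_G(B) ≤ N_G(V)`** -/
theorem B_le [Nonempty ι] : normalizer (BB (S : Subgroup G) l : Set G) ≤ normalizer (V : Set G) := by
  intro g hg
  have h1 := h.R_le (h.nB_nR hg)
  have hn : normalizer (BB (S : Subgroup G) l : Set G) ⊓ normalizer (V : Set G) ≤
      normalizer ((centralizer ((⨆ b, l b : Subgroup G) : Set G) : Subgroup G) : Set G) := by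
    intro x hx
    rw [mem_normalizer_iff_cj, cj_centralizer, cj_eq_of_mem_normalizer (h.nB_nR hx.1)]
  have h2 : g ∈ ((centralizer ((⨆ b, l b : Subgroup G) : Set G) ⊔
      (normalizer (BB (S : Subgroup G) l : Set G) ⊓ normalizer (V : Set G)) : Subgroup G) : Set G) := h1
  rw [coe_mul_of_right_le_normalizer_left _ _ hn] at h2
  obtain ⟨d, hd, n, hn', rfl⟩ := Set.mem_mul.1 h2
  have h3 : d ∈ normalizer (BB (S : Subgroup G) l : Set G) := by
    have := mul_mem hg (inv_mem hn'.1)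
    rwa [mul_inv_cancel_right] at this
  exact mul_mem (h.I2 ⟨h.DC hd, h3⟩) hn'.2

/-- `N_G(T) ∩ N_G(V) ≤ N_G(B)` -/
theorem TV_le : normalizer (TT (S : Subgroup G) N : Set G) ⊓ normalizer (V : Set G) ≤
    normalizer (BB (S : Subgroup G) l : Set G) := by
  rintro g ⟨hg, hgV⟩
  refine h.mem_nB hgV ?_
  have h1 := cj_mono g h.BT
  rw [cj_eq_of_mem_normalizer hg] at h1
  exact h1.trans inf_le_left

/-- **`N_G(T) ≤ N_G(B) ∩ N_G(V)`** -/
theorem T_le [Nonempty ι] : normalizer (TT (S : Subgroup G) N : Set G) ≤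
    normalizer (BB (S : Subgroup G) l : Set G) ⊓ normalizer (V : Set G) := by
  refine le_of_forall h.ST ?_ fun R hR hRN => ?_
  · exact le_inf (inf_le_right.trans h.nS_nB) (inf_le_right.trans h.nS)
  · rcases h.par R (h.isPar_of hR h.T2 h.T_ne hRN) with h1 | h1
    · have h2 : R ≤ normalizer (BB (S : Subgroup G) l : Set G) := fun r hr => h.I1 ⟨h1 hr, hRN hr⟩
      exact le_inf h2 fun r hr => h.I2 ⟨h1 hr, h2 hr⟩
    · exact le_inf ((le_inf hRN h1).trans h.TV_le) h1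

/-! ### the hypotheses of `TypT.of` -/

/-- `cj x (N b) = N c` and `cj x (l b) = l c` with one permutation -/
theorem exists_perm [Finite ι] {x : G} (hx : x ∈ normalizer (BB (S : Subgroup G) l : Set G))
    (hxV : x ∈ normalizer (V : Set G)) : ∃ σ : Equiv.Perm ι, ∀ b, cj x (l b) = l (σ b) ∧ cj x (N b) = N (σ b) := by
  choose f hf using h.permX x hx hxV
  have hfi : Function.Injective f := by
    intro b c e
    apply h.N_inj
    have h1 : cj x (N b) = cj x (N c) := by rw [(hf b).2, (hf c).2, e]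
    have h2 := congrArg (cj x⁻¹) h1
    rwa [cj_inv_cj, cj_inv_cj] at h2
  exact ⟨Equiv.ofBijective f (Finite.injective_iff_bijective.1 hfi), hf⟩

/-- **`NT`** (with the lines) -/
theorem NT' [Finite ι] [Nonempty ι] : ∀ n ∈ normalizer (TT (S : Subgroup G) N : Set G), ∃ σ : Equiv.Perm ι, ∀ i,
    cj n (FF (S : Subgroup G) N l i) = FF (S : Subgroup G) N l (σ i) ∧ cj n (N i) = N (σ i) ∧
      cj n (l i) = l (σ i) := by
  intro n hn
  obtain ⟨hB, hV⟩ := h.T_le hn
  obtain ⟨σ, hσ⟩ := h.exists_perm hB hV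
  refine ⟨σ, fun i => ⟨?_, (hσ i).2, (hσ i).1⟩⟩
  rw [FF, cj_inf, (hσ i).1, cj_centralizer, cj_eq_of_mem_normalizer hn]

/-- **`NT`** -/
theorem NT [Finite ι] [Nonempty ι] : ∀ n ∈ normalizer (TT (S : Subgroup G) N : Set G), ∃ σ : Equiv.Perm ι, ∀ i,
    cj n (FF (S : Subgroup G) N l i) = FF (S : Subgroup G) N l (σ i) ∧ cj n (N i) = N (σ i) := by
  intro n hn
  obtain ⟨σ, hσ⟩ := h.NT' n hn
  exact ⟨σ, fun i => ⟨(hσ i).1, (hσ i).2.1⟩⟩

/-- `T` normalises the lines -/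
theorem T_norm_l (b : ι) : TT (S : Subgroup G) N ≤ normalizer (l b : Set G) := by
  rintro t ⟨htS, htN⟩
  obtain ⟨c, hc, hc'⟩ := h.perm t htS b
  rw [cj_eq_of_mem_normalizer (mem_iInf.1 htN b)] at hc
  have h1 := h.N_inj hc
  subst h1
  exact mem_normalizer_iff_cj.2 hc'

/-- **`ne`** -/
theorem ne (b : ι) : FF (S : Subgroup G) N l b ≠ ⊥ := by
  have : Fact (Nat.Prime 2) := ⟨Nat.prime_two⟩
  set T := TT (S : Subgroup G) N with hT
  have hlT : l b ≤ T := (le_iSup l b).trans (h.RB.trans h.BT)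
  have hn : ((l b).subgroupOf T).Normal := normal_subgroupOf_of_le_normalizer (h.T_norm_l b)
  have hnil : Group.IsNilpotent T := h.T2.isNilpotent
  have hne : (l b).subgroupOf T ≠ ⊥ := by
    intro e
    apply h.lne b
    rw [eq_bot_iff]
    intro x hx
    have h1 : (⟨x, hlT hx⟩ : T) ∈ (l b).subgroupOf T := hx
    rw [e, mem_bot] at h1
    exact mem_bot.2 (congrArg Subtype.val h1)
  have h1 := Cfsg.Agent.Lib.NormalAbelian.normal_inf_center_ne_bot ((l b).subgroupOf T) hne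
  rw [Ne, Subgroup.eq_bot_iff_forall] at h1
  push Not at h1
  obtain ⟨w, ⟨hw, hwc⟩, hw1⟩ := h1
  intro e
  apply hw1
  have h2 : (w : G) ∈ FF (S : Subgroup G) N l b := by
    refine ⟨hw, mem_centralizer_iff.2 fun t ht => ?_⟩
    exact congrArg Subtype.val (mem_center_iff.1 hwc ⟨t, ht⟩)
  rw [e, mem_bot] at h2
  exact Subtype.ext h2

theorem F_le_l (b : ι) : FF (S : Subgroup G) N l b ≤ l b := inf_le_left

theorem F_le_N (b : ι) : FF (S : Subgroup G) N l b ≤ N b := inf_le_left.trans (h.lN b)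

/-- **`le`** -/
theorem F_le (b : ι) : FF (S : Subgroup G) N l b ≤ zc (TT (S : Subgroup G) N) := by
  rintro x ⟨hx, hxc⟩
  exact mem_zc.2 ⟨h.BT (h.RB (le_iSup l b hx)), h.sq x (h.lV b hx), fun y hy => mem_centralizer_iff.1 hxc y hy⟩

theorem F_inj {b c : ι} (e : FF (S : Subgroup G) N l b = FF (S : Subgroup G) N l c) : b = c := by
  by_contra hne
  apply h.ne b
  rw [eq_bot_iff, ← h.ind b]
  exact le_inf (h.F_le_N b) ((e.le.trans (h.F_le_N c)).trans
    (le_iSup (fun c : {c // c ≠ b} => N c) ⟨c, fun e => hne e.symm⟩))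

/-- **`ker`** -/
theorem ker [Finite ι] [Nonempty ι] : ∀ n ∈ normalizer (TT (S : Subgroup G) N : Set G), (∃ k : ℕ, n ^ 2 ^ k = 1) →
    (∀ i, cj n (FF (S : Subgroup G) N l i) = FF (S : Subgroup G) N l i) → n ∈ TT (S : Subgroup G) N := by
  rintro n hn ⟨k, hk⟩ hF
  set T := TT (S : Subgroup G) N with hT
  set X := normalizer (BB (S : Subgroup G) l : Set G) ⊓ normalizer (V : Set G) with hX
  have hnN : ∀ i, cj n (N i) = N i := by
    obtain ⟨σ, hσ⟩ := h.NT n hn
    intro i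
    have h1 : σ i = i := h.F_inj ((hσ i).1.symm.trans (hF i))
    rw [(hσ i).2, h1]
  have hz : IsPGroup 2 (zpowers n) := by
    have h1 : IsPGroup 2 (zpowers n) := by
      intro x
      obtain ⟨m, hm⟩ := mem_zpowers_iff.1 x.2
      refine ⟨k, Subtype.ext ?_⟩
      rw [SubmonoidClass.coe_pow, ← hm, ← zpow_natCast, ← zpow_mul, mul_comm, zpow_mul, zpow_natCast, hk, one_zpow]
      rfl
    exact h1
  have hQ : IsPGroup 2 (zpowers n ⊔ T : Subgroup G) :=
    IsPGroup.to_sup_of_normal_right' hz h.T2 (zpowers_le.2 hn)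
  have hQX : zpowers n ⊔ T ≤ X := sup_le (zpowers_le.2 (h.T_le hn)) (le_normalizer.trans h.T_le)
  have hSX : (S : Subgroup G) ≤ X := le_inf h.SB h.SV
  obtain ⟨Q, hQs, hle⟩ := exists_syl hQ hQX
  obtain ⟨x, hx, e⟩ := syl_conj hQs (sylS hSX)
  obtain ⟨σ, hσ⟩ := h.exists_perm hx.1 hx.2
  -- an element of `X` which fixes all blocks is mapped by `x` to one
  have key : ∀ t ∈ zpowers n ⊔ T, (∀ i, cj t (N i) = N i) → x * t * x⁻¹ ∈ T := by
    intro t ht htN
    refine ⟨?_, (mem_iInf.2 fun b => ?_ : _)⟩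
    · change x * t * x⁻¹ ∈ (S : Subgroup G)
      rw [← e]
      exact ⟨t, hle ht, rfl⟩
    · obtain ⟨c, rfl⟩ := σ.surjective b
      rw [mem_normalizer_iff_cj, ← (hσ c).2, cj_cj]
      have e2 : x * t * x⁻¹ * x = x * t := by group
      rw [e2, ← cj_cj, htN]
  have h1 : cj x T = T := by
    refine Subgroup.eq_of_le_of_card_ge ?_ (by rw [card_cj])
    rintro _ ⟨t, ht, rfl⟩
    exact key t (mem_sup_right ht) fun i => cj_eq_of_mem_normalizer (mem_iInf.1 ht.2 i)
  have h2 := key n (mem_sup_left (mem_zpowers n)) hnN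
  rw [← h1] at h2
  have h3 := mem_cj.1 h2
  have e3 : x⁻¹ * (x * n * x⁻¹) * x = n := by group
  rwa [e3] at h3

/-- `Ω₁Z(T) ≤ R` -/
theorem zcT_le_R : zc (TT (S : Subgroup G) N) ≤ ⨆ b, l b := by
  rw [← h.zcB]
  intro z hz
  obtain ⟨hzT, hz2, hzc⟩ := mem_zc.1 hz
  refine mem_zc.2 ⟨⟨hzT.1, mem_centralizer_iff.2 fun y hy => hzc y (h.BT (h.RB hy))⟩, hz2, fun y hy => hzc y (h.BT hy)⟩

theorem mem_iSup_F [Finite ι] [DecidableEq ι] (s : Finset ι) : ∀ x ∈ (⨆ b ∈ s, l b : Subgroup G),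
    (∀ t ∈ TT (S : Subgroup G) N, t * x * t⁻¹ = x) → x ∈ ⨆ b, FF (S : Subgroup G) N l b := by
  induction s using Finset.induction_on with
  | empty =>
    intro x hx _
    simp only [Finset.notMem_empty, iSup_false, iSup_bot, mem_bot] at hx
    rw [hx]
    exact one_mem _
  | insert j s hj ih =>
    intro x hx hfix
    rw [Finset.iSup_insert] at hx
    have hsV : (⨆ b ∈ s, l b : Subgroup G) ≤ V := iSup₂_le fun b _ => h.lV b
    have hn : l j ≤ normalizer ((⨆ b ∈ s, l b : Subgroup G) : Set G) :=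
      ((h.lV j).trans (h.com.trans (centralizer_le hsV))).trans (centralizer_le_normalizer _)
    have hx' : x ∈ ((l j ⊔ ⨆ b ∈ s, l b : Subgroup G) : Set G) := hx
    rw [coe_mul_of_left_le_normalizer_right _ _ hn] at hx'
    obtain ⟨y, hy, w, hw, rfl⟩ := Set.mem_mul.1 hx'
    have hTs : TT (S : Subgroup G) N ≤ normalizer ((⨆ b ∈ s, l b : Subgroup G) : Set G) := by
      intro t ht
      refine Cfsg.Agent.ZN.ChoiceBase.mem_normalizer_of_cj_le ?_
      rw [cj, Subgroup.map_iSup]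
      refine iSup_le fun b => ?_
      rw [Subgroup.map_iSup]
      refine iSup_le fun hb => ?_
      exact (cj_eq_of_mem_normalizer (h.T_norm_l b ht)).le.trans (le_iSup₂ (f := fun b (_ : b ∈ s) => l b) b hb)
    have hdis : l j ⊓ (⨆ b ∈ s, l b : Subgroup G) = ⊥ := by
      rw [eq_bot_iff, ← h.ind j]
      refine inf_le_inf (h.lN j) (iSup₂_le fun b hb => ?_)
      exact (h.lN b).trans (le_iSup (fun c : {c // c ≠ j} => N c) ⟨b, fun e => hj (e ▸ hb)⟩)
    have key : ∀ t ∈ TT (S : Subgroup G) N, t * y * t⁻¹ = y ∧ t * w * t⁻¹ = w := by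
      intro t ht
      have h1 : t * y * t⁻¹ ∈ l j := (mem_normalizer_iff.1 (h.T_norm_l j ht) y).1 hy
      have h2 : t * w * t⁻¹ ∈ (⨆ b ∈ s, l b : Subgroup G) := (mem_normalizer_iff.1 (hTs ht) w).1 hw
      have h3 : (t * y * t⁻¹) * (t * w * t⁻¹) = y * w := by
        rw [← hfix t ht]; group
      have h4 : y⁻¹ * (t * y * t⁻¹) = w * (t * w * t⁻¹)⁻¹ := by
        calc y⁻¹ * (t * y * t⁻¹) = y⁻¹ * ((t * y * t⁻¹) * (t * w * t⁻¹)) * (t * w * t⁻¹)⁻¹ := by group
          _ = y⁻¹ * (y * w) * (t * w * t⁻¹)⁻¹ := by rw [h3]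
          _ = w * (t * w * t⁻¹)⁻¹ := by group
      have h5 : y⁻¹ * (t * y * t⁻¹) ∈ l j ⊓ (⨆ b ∈ s, l b : Subgroup G) :=
        mem_inf.2 ⟨mul_mem (inv_mem hy) h1, by rw [h4]; exact mul_mem hw (inv_mem h2)⟩
      rw [hdis, mem_bot] at h5
      have h6 : t * y * t⁻¹ = y := (inv_mul_eq_one.1 h5).symm
      refine ⟨h6, ?_⟩
      rw [h6] at h3
      exact mul_left_cancel h3
    refine mul_mem ?_ (ih w hw fun t ht => (key t ht).2)
    refine (le_iSup (fun b => FF (S : Subgroup G) N l b) j : _) ⟨hy, mem_centralizer_iff.2 fun t ht => ?_⟩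
    exact mul_inv_eq_iff_eq_mul.1 (key t ht).1

/-- **`sup`** -/
theorem zcT [Finite ι] : zc (TT (S : Subgroup G) N) ≤ ⨆ b, FF (S : Subgroup G) N l b := by
  classical
  have := Fintype.ofFinite ι
  intro x hx
  refine h.mem_iSup_F Finset.univ x ?_ fun t ht => ?_
  · have h1 := h.zcT_le_R hx
    simpa using h1
  · rw [(mem_zc.1 hx).2.2 t ht, mul_inv_cancel_right]

/-- the blocks are centralised by `E c`, `c ≠ b` -/
theorem comN (i j : ι) : N i ≤ centralizer (N j : Set G) :=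
  (h.NV i).trans (h.com.trans (centralizer_le (h.NV j)))

/-- **The plug to helper848's `TypT`.** -/
theorem typT [Finite ι] [Nonempty ι] (three : ∀ i j : ι, ∃ k, k ≠ i ∧ k ≠ j) {E : ι → Subgroup G}
    (EN : ∀ b, E b ≤ normalizer (N b : Set G)) (EC : ∀ b c, b ≠ c → E b ≤ centralizer (N c : Set G))
    (irr : ∀ b, ∀ A : Subgroup G, A ≤ N b → A ≠ ⊥ → N b ≤ XS A (E b))
    (ord : ∀ b, ∃ ρ ∈ E b, ∀ k : ℕ, ∃ v ∈ N b, ρ ^ 2 ^ k * v ≠ v * ρ ^ 2 ^ k)
    (parT : ∀ j P, IsMinPar (TT (S : Subgroup G) N) P → P ≤ YY (FF (S : Subgroup G) N l) j →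
      P ≤ centralizer (FF (S : Subgroup G) N l j : Set G) ∨ ∀ i, P ≤ normalizer (N i : Set G))
    (non : ∀ U : Subgroup G, IsPGroup 2 U →
      (∀ j, YY (FF (S : Subgroup G) N l) j ≤ normalizer (U : Set G)) → U = ⊥) :
    TypT (TT (S : Subgroup G) N) (FF (S : Subgroup G) N l) N := by
  have hTF : ∀ i, TT (S : Subgroup G) N ≤ centralizer (FF (S : Subgroup G) N l i : Set G) := fun i =>
    comm_symm inf_le_right
  exact TypT.of h.T2 three h.ne h.F_le h.zcT h.F_le_N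
    (fun i => TBits.VX_of h.F_le_N EC i (irr i _ (h.F_le_N i) (h.ne i)))
    (fun i => TBits.cV_of h.zcT h.F_le_N h.comN h.ind i) (fun i j => TBits.dis_of h.ind i j)
    (fun i j _ => TBits.oT_of h.T2 hTF h.F_le_N EN EC ord h.NT h.ker i j) h.NT h.ker parT non

end Tf

end Cfsg.Agent.Omega.NOThreeL.RWide.TAct

end

section


/-!
# NO-3L, box R: at least three types over `T` are impossible (#25339 = #23252 with LEMMA MOV, over `T`)

`D = C_G(Ω₁Z(T))`, `O = O₂(D)`, `N_j = ⟨F_j^(Y_j)⟩`, `X_ij = ⟨F_j^(C_(Y_j)(V_i))⟩`, `L_j = Y_j ∩ ⋂ N(V_i)`,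
`E_ij = ⟨Ω₁Z(T)^⟨D, L_i, L_j⟩⟩`.

* `TypT.YY_le` : `Y_j = ⟨D, L_j⟩`;
* `TypT.eab_EE`, `TypT.EE_le_O` : `E_ij` is elementary abelian, `E_ij ≤ O`;
* `TypT.noOn` : (NO);
* `TypT.big` : the frame `EXN.BigW`;
* **`TypT.false_of`**.
-/

set_option autoImplicit false
set_option linter.unusedSectionVars false

namespace Cfsg.Agent.Omega.NOThreeL.RWide

open Subgroup Cfsg Cfsg.Agent.ZN Cfsg.Agent.Omega.MinPar Cfsg.Agent.Omega.Frame Cfsg.Agent.Omega.FrameNOFF
open Cfsg.Agent.ZN.ChoiceBase (cj cj_mono cj_inf cj_centralizer cj_eq_of_mem_normalizer mem_cj mem_normalizer_iff_cj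
  cj_cj_inv cj_inv_cj)
open Cfsg.Agent.Omega.NoFF.Basic (comm_symm comm_mono)
open Cfsg.Agent.Omega.NoFF.ThmJFam (Ex)
open Cfsg.Agent.Omega.NO3S.EThree Cfsg.Agent.Omega.NO3S.EThree.ExactA
open Cfsg.Agent.Omega.EK3.Rank (NoOn)
open Cfsg.Agent.Omega.ML.Final (MLK)
open Cfsg.Agent.MinSimple.MinParabolic (IsMinPar)
open Cfsg.Agent.Omega.EDel.ThmU (XF XF_le sylow_of_two)
open Cfsg.Agent.Omega.EXN
open Cfsg.Agent.Omega.KL.StarM (NoInpM)
open Cfsg.Agent.Omega.KL.FlagNO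
open Cfsg.Agent.Omega.NOThreeL.RWide.TypB (NN XX relIndex_le_of_sup)

universe u v

namespace TypT

variable {G : Type u} [Group G] {ι : Type v} {T : Subgroup G} {F V : ι → Subgroup G}

/-- `L_j = Y_j ∩ ⋂ N(V_i)` -/
def LT (F V : ι → Subgroup G) (j : ι) : Subgroup G := YY F j ⊓ ⨅ i, normalizer (V i : Set G)

/-- `⟨D, L_i, L_j⟩` -/
def WT (T : Subgroup G) (F V : ι → Subgroup G) (i j : ι) : Subgroup G := CZ T ⊔ (LT F V i ⊔ LT F V j)

/-- `E_ij` -/
def EE (T : Subgroup G) (F V : ι → Subgroup G) (i j : ι) : Subgroup G := XS (zc T) (WT T F V i j)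

theorem LT_le (F V : ι → Subgroup G) (j : ι) : LT F V j ≤ YY F j := inf_le_left

theorem LT_norm (F V : ι → Subgroup G) (j i : ι) : LT F V j ≤ normalizer (V i : Set G) :=
  inf_le_right.trans (iInf_le _ i)

theorem V_eq_XS (Z H : Subgroup G) : NoFF.Basic.V Z H = XS Z H :=
  le_antisymm (V_le_elem fun _ hg _ hz => conj_mem_XS hg hz) (XS_le fun _ hg _ hz => conj_mem_V hg hz)

variable (h : TypT T F V)
include h

theorem T_le_CZ : T ≤ CZ T := by
  intro t ht
  rw [mem_centralizer_iff]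
  intro x hx
  exact ((MinSimple.VModule.mem_zc.1 hx).2.1 t ht).symm

theorem CZ_le (j : ι) : CZ T ≤ YY F j := le_YY fun l _ => centralizer_le (h.le l)

theorem T_le (j : ι) : T ≤ YY F j := h.T_le_CZ.trans (h.CZ_le j)

theorem TC (i : ι) : T ≤ centralizer (F i : Set G) := h.T_le_CZ.trans (centralizer_le (h.le i))

/-- centralising all `F i` -/
theorem le_CZ_of {K : Subgroup G} (hK : ∀ l, K ≤ centralizer (F l : Set G)) : K ≤ CZ T :=
  comm_symm (h.sup.trans (iSup_le fun l => comm_symm (hK l)))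

theorem TV (i : ι) : T ≤ normalizer (V i : Set G) := fun _ ht => (h.nrm i _ (le_normalizer ht) (h.T_le i ht)).2 i

/-- `X_ij = C_G(F_l : l ≠ i, j)` -/
theorem CZ_le_XF (i j : ι) : CZ T ≤ XF F i j := by
  intro x hx
  rw [XF, mem_centralizer_iff]
  rintro y ⟨n, -, -, hy⟩
  exact mem_centralizer_iff.1 hx y (h.le n hy)

omit h in
theorem YY_le_XF (i j : ι) : YY F i ≤ XF F i j :=
  centralizer_le fun _ ⟨n, h1, _, h3⟩ => ⟨n, h1, h3⟩

theorem WT_le_XF (i j : ι) : WT T F V i j ≤ XF F i j := by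
  refine sup_le (h.CZ_le_XF i j) (sup_le ((LT_le F V i).trans (YY_le_XF i j)) ((LT_le F V j).trans ?_))
  rw [EDel.ThmU.XF_comm]
  exact YY_le_XF j i

theorem locp (l : ι) : IsPGroup 2 (F l) := h.two.to_le ((h.le l).trans (ZN.zc_le _))

variable [Finite G]

/-- `Y_j = ⟨D, L_j⟩` -/
theorem YY_le (j : ι) : YY F j ≤ CZ T ⊔ LT F V j := by
  refine MinSimple.MinParabolic.le_of_forall (h.T_le j) ?_ fun P hP hPY => ?_
  · refine le_trans ?_ le_sup_right
    exact le_inf inf_le_left (le_iInf fun i n hn => (h.nrm j n hn.2 hn.1).2 i)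
  · rcases h.par j P hP hPY with h1 | h1
    · refine (h.le_CZ_of fun l => ?_).trans le_sup_left
      by_cases hl : l = j
      · rw [hl]; exact h1
      · exact hPY.trans (YY_le_cent hl)
    · exact (le_inf hPY (le_iInf h1)).trans le_sup_right

/-- `X_ij` has characteristic 2 -/
theorem char2_XF (hc : IsCharacteristicTwoType G) (i j : ι) :
    XF F i j ⊓ centralizer (o2 (XF F i j) : Set G) ≤ o2 (XF F i j) := by
  have e : XF F i j = centralizer ((closure {x | ∃ n, n ≠ i ∧ n ≠ j ∧ x ∈ F n} : Subgroup G) : Set G) :=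
    (centralizer_closure _).symm
  have hle : closure {x | ∃ n, n ≠ i ∧ n ≠ j ∧ x ∈ F n} ≤ T := by
    rw [closure_le]
    rintro _ ⟨n, -, -, hx⟩
    exact ZN.zc_le _ (h.le n hx)
  rw [e]
  refine Cfsg.Agent.Omega.NOne.LemmaT.char2_centralizer hc (h.two.to_le hle) ?_
  obtain ⟨l, hl1, hl2⟩ := h.three i j
  intro e1
  apply h.ne l
  rw [eq_bot_iff, ← e1]
  exact fun x hx => subset_closure ⟨l, hl1, hl2, hx⟩

theorem zc_le_XF (i j : ι) : zc T ≤ XF F i j := by
  have h1 : zc T ≤ CZ T := (ZN.zc_le _).trans h.T_le_CZ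
  exact h1.trans (h.CZ_le_XF i j)

/-- `⟨Ω₁Z(T)^(X_ij)⟩ ≤ Ω₁Z(O₂(X_ij))` -/
theorem XS_le_zc (hc : IsCharacteristicTwoType G) {i j : ι} (hij : i ≠ j) :
    XS (zc T) (XF F i j) ≤ zc (o2 (XF F i j)) := by
  have h1 : zc T ≤ centralizer (o2 (XF F i j) : Set G) := comm_symm ((h.oT i j hij).trans h.T_le_CZ)
  have h2 : zc T ≤ zc (o2 (XF F i j)) := by
    intro x hx
    have h3 : x ∈ o2 (XF F i j) := h.char2_XF hc i j ⟨h.zc_le_XF i j hx, h1 hx⟩
    exact MinSimple.VModule.mem_zc.2 ⟨h3, fun y hy => mem_centralizer_iff.1 (h1 hx) y hy,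
      MinSimple.VModule.zc_sq _ x hx⟩
  exact XS_le_of h2 ((MinSimple.VModule.le_normalizer_o2 _).trans (MinSimple.VModule.normalizer_le_normalizer_zc _))

theorem eab_X (hc : IsCharacteristicTwoType G) {i j : ι} (hij : i ≠ j) :
    IsElementaryAbelian 2 (XS (zc T) (XF F i j)) := by
  have h1 : IsElementaryAbelian 2 (zc (o2 (XF F i j))) := by
    rw [eab_iff]
    refine ⟨fun x hx => ?_, fun x hx => MinSimple.VModule.zc_sq _ x hx⟩
    rw [mem_centralizer_iff]
    intro y hy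
    exact (MinSimple.VModule.mem_zc.1 hx).2.1 y (ZN.zc_le _ hy)
  exact eab_mono h1 (h.XS_le_zc hc hij)

/-- `O₂(X_ij) ≤ O₂(D)` -/
theorem o2_XF_le {i j : ι} (hij : i ≠ j) : o2 (XF F i j) ≤ o2 (CZ T) := by
  refine MinSimple.VModule.le_o2 ((h.oT i j hij).trans h.T_le_CZ) (MinSimple.VModule.o2_isPGroup _) ?_
  exact (h.CZ_le_XF i j).trans (MinSimple.VModule.le_normalizer_o2 _)

theorem X_le_O (hc : IsCharacteristicTwoType G) {i j : ι} (hij : i ≠ j) :
    XS (zc T) (XF F i j) ≤ o2 (CZ T) :=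
  (h.XS_le_zc hc hij).trans ((ZN.zc_le _).trans (h.o2_XF_le hij))

theorem EE_le_X (i j : ι) : EE T F V i j ≤ XS (zc T) (XF F i j) := XS_mono (h.WT_le_XF i j)

theorem NN_le_EE (i j : ι) : NN F j ≤ EE T F V i j := by
  refine XS_le fun r hr a ha => conj_mem_XS ?_ (h.le j ha)
  exact (h.YY_le j).trans (sup_le_sup_left le_sup_right _) hr

theorem NN_le_X {i j : ι} : NN F j ≤ XS (zc T) (XF F i j) :=
  (h.NN_le_EE i j).trans (h.EE_le_X i j)

omit [Finite G] in
theorem exists_ne (j : ι) : ∃ i, i ≠ j := by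
  obtain ⟨l, hl, -⟩ := h.three j j
  exact ⟨l, hl⟩

theorem NN_le_O (hc : IsCharacteristicTwoType G) (j : ι) : NN F j ≤ o2 (CZ T) := by
  obtain ⟨i, hi⟩ := h.exists_ne j
  exact h.NN_le_X.trans (h.X_le_O hc hi)

theorem o2_CZ_le (j : ι) : o2 (CZ T) ≤ T := by
  refine MinSimple.VModule.o2_le_of_sylow h.two fun h1 => h.syl j ?_
  rw [← relIndex_mul_relIndex T (CZ T) (YY F j) h.T_le_CZ (h.CZ_le j)]
  exact h1.mul_right _

/-! ### (NO) -/

omit [Finite G] in
/-- `K ≤ Y_j` normalises `⟨F_j^K⟩ Ω₁Z(T)` -/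
theorem norm_sup {j : ι} {K : Subgroup G} (hK : K ≤ YY F j) :
    K ≤ normalizer ((XS (F j) K ⊔ zc T : Subgroup G) : Set G) := by
  have key : ∀ k ∈ K, cj k (XS (F j) K ⊔ zc T) ≤ XS (F j) K ⊔ zc T := by
    intro k hk
    have e : cj k (XS (F j) K ⊔ zc T) = cj k (XS (F j) K) ⊔ cj k (zc T) := Subgroup.map_sup _ _ _
    rw [e]
    refine sup_le ((cj_eq_of_mem_normalizer (le_normalizer_XS _ _ hk)).le.trans le_sup_left) ?_
    rw [cj, map_le_iff_le_comap]
    refine h.sup.trans (iSup_le fun l z hz => ?_)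
    rw [mem_comap]
    change k * z * k⁻¹ ∈ _
    by_cases hl : l = j
    · subst hl
      exact mem_sup_left (conj_mem_XS hk hz)
    · have h1 : z * k = k * z := mem_centralizer_iff.1 (YY_le_cent hl (hK hk)) z hz
      rw [← h1, mul_inv_cancel_right]
      exact mem_sup_right (h.le l hz)
  intro k hk
  rw [mem_normalizer_iff_cj]
  refine le_antisymm (key k hk) ?_
  have h1 := cj_mono k (key k⁻¹ (inv_mem hk))
  rwa [cj_cj_inv] at h1

omit [Finite G] in
/-- `⟨Ω₁Z(T)^(K T)⟩ ≤ ⟨F_j^K⟩ Ω₁Z(T)` -/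
theorem X_le_sup {j : ι} {K : Subgroup G} (hK : K ≤ YY F j) (hT : T ≤ normalizer (K : Set G)) :
    XS (zc T) (K ⊔ T) ≤ XS (F j) K ⊔ zc T := by
  refine XS_le_of le_sup_right (sup_le (h.norm_sup hK) ?_)
  intro s hs
  have h1 : s ∈ normalizer (XS (F j) K : Set G) :=
    mem_normalizer_XS (centralizer_le_normalizer _ (h.TC j hs)) (hT hs)
  have h2 : s ∈ normalizer (zc T : Set G) := centralizer_le_normalizer _ (h.T_le_CZ hs)
  rw [mem_normalizer_iff_cj]
  have e : cj s (XS (F j) K ⊔ zc T) = cj s (XS (F j) K) ⊔ cj s (zc T) := Subgroup.map_sup _ _ _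
  rw [e, cj_eq_of_mem_normalizer h1, cj_eq_of_mem_normalizer h2]

omit [Finite G] in
theorem XS_le_X {j : ι} {K R : Subgroup G} (hK : K ≤ R) : XS (F j) K ≤ XS (zc T) R :=
  XS_le fun _ hr _ ha => conj_mem_XS (hK hr) (h.le j ha)

/-- **(NO)** on `⟨F_j^K⟩`, with `C_O(⟨F_j^K⟩) ≤ O₂(K T)` -/
theorem noOn' (hc : IsCharacteristicTwoType G) (ml : MLK.{u, u}) (kg : ∀ j, IsKGroup (YY F j))
    {j : ι} {K : Subgroup G} (hK : K ≤ YY F j) (hTK : T ≤ normalizer (K : Set G)) {A : Subgroup G}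
    (hA : IsElementaryAbelian 2 A) (hAO : A ≤ o2 (CZ T)) :
    (centralizer (XS (F j) K : Set G)).relIndex A ≤ (centralizer (A : Set G)).relIndex (XS (F j) K) ∧
      A ⊓ centralizer (XS (F j) K : Set G) ≤ o2 (K ⊔ T) := by
  have hKT : K ⊔ T ≤ YY F j := sup_le hK (h.T_le j)
  have hsyl : ¬ 2 ∣ T.relIndex (K ⊔ T) := fun h1 => h.syl j (by
    rw [← relIndex_mul_relIndex T (K ⊔ T) (YY F j) le_sup_right hKT]
    exact h1.mul_right _)
  obtain ⟨i, hi⟩ := h.exists_ne j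
  have hYX : YY F j ≤ XF F i j := by
    rw [EDel.ThmU.XF_comm]; exact YY_le_XF j i
  have hU := eab_iff.1 (h.eab_X hc hi)
  have hXX : XS (zc T) (K ⊔ T) ≤ XS (zc T) (XF F i j) := XS_mono (hKT.trans hYX)
  have hex : Ex (NoFF.Basic.V (zc T) (K ⊔ T)) := by
    rw [V_eq_XS]
    exact fun x hx => hU.2 x (hXX hx)
  have hAT : A ≤ T := hAO.trans (h.o2_CZ_le j)
  have h1 := flag_no_of ml h.two (le_sup_right : T ≤ K ⊔ T) hsyl h.T_le_CZ (kgroup_le (kg j) hKT) hex
    (X := CZ T) inf_le_right hAO (hAT.trans le_sup_right) (hAO.trans (MinSimple.VModule.o2_le _)) hA.2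
  rw [V_eq_XS] at h1
  have hXU : XS (F j) K ≤ XS (zc T) (K ⊔ T) := h.XS_le_X le_sup_left
  have hUU : XS (zc T) (K ⊔ T) ≤ centralizer (XS (zc T) (K ⊔ T) : Set G) :=
    (hXX.trans hU.1).trans (centralizer_le hXX)
  have hle := h.X_le_sup hK hTK
  constructor
  · refine (Sigma.relIndex_le_left (centralizer_le hXU)).trans (h1.1.trans (relIndex_le_of_sup hUU hXU ?_))
    refine hle.trans (sup_le_sup_left (le_inf (le_XS _ _) ?_) _)
    exact comm_symm (hAO.trans (MinSimple.VModule.o2_le _))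
  · refine le_trans (le_inf inf_le_left ?_) h1.2
    refine comm_symm (hle.trans (sup_le (comm_symm inf_le_right) ?_))
    exact comm_symm (inf_le_left.trans (hAO.trans (MinSimple.VModule.o2_le _)))

theorem noOn (hc : IsCharacteristicTwoType G) (ml : MLK.{u, u}) (kg : ∀ j, IsKGroup (YY F j))
    {j : ι} {K : Subgroup G} (hK : K ≤ YY F j) (hTK : T ≤ normalizer (K : Set G)) :
    NoOn (o2 (CZ T)) (XS (F j) K) := fun _ hA hAO => (h.noOn' hc ml kg hK hTK hA hAO).1

/-! ### The frame -/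

omit [Finite G] in
/-- `L_i` normalises `C_{Y_j}(V_i)` -/
theorem LT_norm_H {i j : ι} (hij : i ≠ j) :
    LT F V i ≤ normalizer ((YY F j ⊓ centralizer (V i : Set G) : Subgroup G) : Set G) := by
  have key : ∀ g ∈ LT F V i, ∀ r ∈ YY F j ⊓ centralizer (V i : Set G),
      g * r * g⁻¹ ∈ YY F j ⊓ centralizer (V i : Set G) := by
    intro g hg r hr
    have h1 : g * r * g⁻¹ ∈ centralizer (V i : Set G) := by
      have h2 := LT_norm F V i i hg
      rw [mem_normalizer_iff_cj] at h2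
      have h3 : g * r * g⁻¹ ∈ cj g (centralizer (V i : Set G)) := by
        rw [mem_cj]
        have e : g⁻¹ * (g * r * g⁻¹) * g = r := by group
        rw [e]
        exact hr.2
      rwa [cj_centralizer, h2] at h3
    refine ⟨?_, h1⟩
    change g * r * g⁻¹ ∈ YY F j
    rw [YY, mem_centralizer_iff]
    rintro x ⟨l, hl, hx⟩
    by_cases hli : l = i
    · subst hli
      exact mem_centralizer_iff.1 h1 x (h.FV l hx)
    · have h2 : x * g = g * x := mem_centralizer_iff.1 (YY_le_cent hli (LT_le _ _ _ hg)) x hx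
      have h3 : x * r = r * x := mem_centralizer_iff.1 (YY_le_cent hl hr.1) x hx
      have h4 : x * g⁻¹ = g⁻¹ * x := by
        rw [eq_inv_mul_iff_mul_eq, ← mul_assoc, ← h2, mul_inv_cancel_right]
      calc x * (g * r * g⁻¹) = (x * g) * r * g⁻¹ := by group
        _ = g * (x * r) * g⁻¹ := by rw [h2]; group
        _ = g * r * (x * g⁻¹) := by rw [h3]; group
        _ = g * r * g⁻¹ * x := by rw [h4]; group
  intro g hg
  rw [mem_normalizer_iff]
  intro r
  refine ⟨key g hg r, fun h' => ?_⟩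
  have h1 := key g⁻¹ (inv_mem hg) _ h'
  have e : g⁻¹ * (g * r * g⁻¹) * g⁻¹⁻¹ = r := by group
  rwa [e] at h1

omit [Finite G] in
/-- `L_i` normalises `X_ij` -/
theorem LT_norm_X {i j : ι} (hij : i ≠ j) : LT F V i ≤ normalizer ((XX F V i j : Subgroup G) : Set G) := fun _ hg =>
  mem_normalizer_XS (centralizer_le_normalizer _ (YY_le_cent hij.symm (LT_le _ _ _ hg))) (h.LT_norm_H hij hg)

omit [Finite G] in
theorem T_norm_H (i j : ι) :
    T ≤ normalizer ((YY F j ⊓ centralizer (V i : Set G) : Subgroup G) : Set G) := by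
  intro s hs
  rw [mem_normalizer_iff_cj, cj_inf, cj_centralizer, cj_eq_of_mem_normalizer (le_normalizer (h.T_le j hs)),
    cj_eq_of_mem_normalizer (h.TV i hs)]

/-- `C_O(N_i) = O₂(C_{Y_i}(N_i))` is normalised by `Y_i` -/
theorem YY_norm_Q (i : ι) : YY F i ≤
    normalizer ((o2 (CZ T) ⊓ centralizer (NN F i : Set G) : Subgroup G) : Set G) := by
  set K := YY F i ⊓ centralizer (NN F i : Set G) with hK
  have hKC : K ≤ CZ T := by
    refine h.le_CZ_of fun l => ?_
    by_cases hl : l = i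
    · subst hl
      exact inf_le_right.trans (centralizer_le (le_XS _ _))
    · exact inf_le_left.trans (YY_le_cent hl)
  have hYN : YY F i ≤ normalizer (NN F i : Set G) := le_normalizer_XS _ _
  have hYK : YY F i ≤ normalizer (K : Set G) := by
    intro g hg
    rw [mem_normalizer_iff_cj, hK, cj_inf, cj_centralizer, cj_eq_of_mem_normalizer (le_normalizer hg),
      cj_eq_of_mem_normalizer (hYN hg)]
  have hOC : o2 (CZ T) ≤ CZ T := MinSimple.VModule.o2_le _
  have e : o2 (CZ T) ⊓ centralizer (NN F i : Set G) = o2 K := by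
    apply le_antisymm
    · refine MinSimple.VModule.le_o2 (inf_le_inf_right _ (hOC.trans (h.CZ_le i)))
        ((MinSimple.VModule.o2_isPGroup _).to_le inf_le_left) ?_
      intro g hg
      rw [mem_normalizer_iff_cj, cj_inf, cj_centralizer,
        cj_eq_of_mem_normalizer (MinSimple.VModule.le_normalizer_o2 _ (hKC hg)), cj_eq_of_mem_normalizer (hYN hg.1)]
    · refine le_inf (MinSimple.VModule.le_o2 ((MinSimple.VModule.o2_le _).trans hKC) (MinSimple.VModule.o2_isPGroup _) ?_)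
        ((MinSimple.VModule.o2_le _).trans inf_le_right)
      intro g hg
      exact Cfsg.Agent.Omega.normalizer_le_normalizer_o2' _ (hYK (h.CZ_le i hg))
  rw [e]
  intro g hg
  exact Cfsg.Agent.Omega.normalizer_le_normalizer_o2' _ (hYK hg)

omit [Finite G] in
/-- `L_j` generate the `Y_j` -/
theorem XS_minN {j : ι} {U : Subgroup G} (hY : YY F j ≤ CZ T ⊔ LT F V j) (hZ : F j ≤ U)
    (hD : CZ T ≤ normalizer (U : Set G)) (hL : LT F V j ≤ normalizer (U : Set G)) : NN F j ≤ U :=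
  XS_le_of hZ (hY.trans (sup_le hD hL))

variable (hc : IsCharacteristicTwoType G) (ml : MLK.{u, u}) (kg : ∀ j, IsKGroup (YY F j))
include hc ml kg

/-- **The frame.** -/
theorem sit : Sit (CZ T) (o2 (CZ T)) F (LT F V) (NN F) (XX F V) where
  OD := MinSimple.VModule.o2_le _
  nO := MinSimple.VModule.le_normalizer_o2 _
  Oz i := (MinSimple.VModule.o2_le _).trans (centralizer_le (h.le i))
  eN j := by
    obtain ⟨i, hi⟩ := h.exists_ne j
    exact eab_mono (h.eab_X hc hi) h.NN_le_X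
  NO i := h.NN_le_O hc i
  nN i := (h.CZ_le i).trans (le_normalizer_XS _ _)
  minN i _ h1 h2 h3 := h.XS_minN (h.YY_le i) h1 h2 h3
  nQ i := (LT_le _ _ _).trans (h.YY_norm_Q i)
  no i := h.noOn hc ml kg le_rfl ((h.T_le i).trans le_normalizer)
  XN _ _ _ := XS_mono inf_le_left
  nX _ _ hij := h.LT_norm_X hij
  noX i j _ := h.noOn hc ml kg inf_le_left (h.T_norm_H i j)

/-- KL*(q) with all K2's -/
theorem kl (hE : NoInpM.{u, u}) {i j : ι} (hij : i ≠ j) {A : Subgroup G} (hA : IsElementaryAbelian 2 A)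
    (hAQ : A ≤ o2 (CZ T) ⊓ centralizer (NN F i : Set G)) (hm : MinOff (EE T F V i j) A)
    (hX : A ≤ centralizer (XX F V i j : Set G)) : A ≤ centralizer (NN F j : Set G) := by
  by_contra hN
  have hAO : A ≤ o2 (CZ T) := hAQ.trans inf_le_left
  have hAV : A ≤ centralizer (V i : Set G) := (hAQ.trans inf_le_right).trans (centralizer_le (h.VX i))
  have hNE : NN F j ≤ EE T F V i j := h.NN_le_EE i j
  have hNEi : NN F i ≤ EE T F V i j := by
    have h1 := h.NN_le_EE j i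
    have e : EE T F V j i = EE T F V i j := by rw [EE, EE, WT, WT, sup_comm (LT F V i)]
    rwa [e] at h1
  have hWE : WT T F V i j ≤ normalizer (EE T F V i j : Set G) := le_normalizer_XS _ _
  have hEe : IsElementaryAbelian 2 (EE T F V i j) := eab_mono (h.eab_X hc hij) (h.EE_le_X i j)
  have hsit := h.sit hc ml kg
  obtain ⟨h1, h2, h3, h4, h5⟩ := exact_of hA hAO hm hNE (hsit.no j) hN
  have hAT : A ≤ T := hAO.trans (h.o2_CZ_le j)
  refine GM.false_of (C := YY F j) (T := T) (A := A) (M := EE T F V i j) (Z := F j) (Y := V i) (Y' := V j) hE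
    { CM := ((h.YY_le j).trans (sup_le_sup_left le_sup_right _)).trans hWE
      sqM := hEe.2
      TC := h.T_le j
      two := h.two
      syl := h.syl j
      YM := (h.VX i).trans hNEi
      YM' := (h.VX j).trans hNE
      TZ := h.TC j
      NZ := fun n hn => (h.nrm j n hn.2 hn.1).1
      NY := fun n hn => (h.nrm j n hn.2 hn.1).2 i
      NY' := fun n hn => (h.nrm j n hn.2 hn.1).2 j
      ZY' := h.FV j
      dis := h.dis i j hij
      cY := ?_
      par := ?_
      AT := hAT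
      sqA := hA.2
      AZ := ?_
      AY := ?_
      mv := hm.mov
      ker := h1
      le := hm.le
      no := ?_
      K := kg j }
  · -- the `T`-fixed points of `V_i`
    refine (YY_le_cent hij).trans (centralizer_le ?_)
    intro x hx
    refine h.cV i ⟨hx.1, MinSimple.VModule.mem_zc.2 ⟨?_, ?_, ?_⟩⟩
    · exact ((h.VX i).trans ((h.NN_le_O hc i).trans (h.o2_CZ_le j))) hx.1
    · intro s hs
      exact mem_centralizer_iff.1 hx.2 s hs
    · exact hEe.2 x (hNEi (h.VX i hx.1))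
  · intro P hP hPY
    rcases h.par j P hP hPY with h1 | h1
    · exact Or.inl h1
    · exact Or.inr ⟨h1 i, h1 j⟩
  · -- `C_{Y_j}(F_j) = D`
    have e : YY F j ⊓ centralizer (F j : Set G) = CZ T := by
      apply le_antisymm
      · refine h.le_CZ_of fun l => ?_
        by_cases hl : l = j
        · subst hl
          exact inf_le_right
        · exact inf_le_left.trans (YY_le_cent hl)
      · exact le_inf (h.CZ_le j) (centralizer_le (h.le j))
    rw [e]
    exact hAO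
  · -- `O₂(C_{Y_j}(V_i) T) ∩ C(V_i) ≤ O₂(C_{Y_j}(V_i))`
    set K := YY F j ⊓ centralizer (V i : Set G) with hK
    have hl : A ≤ o2 (K ⊔ T) :=
      (le_inf le_rfl hX).trans (h.noOn' hc ml kg (inf_le_left : K ≤ YY F j) (h.T_norm_H i j) hA hAO).2
    have hAK : A ≤ K := le_inf (hAT.trans (h.T_le j)) hAV
    refine (le_inf hl hAK).trans (MinSimple.VModule.le_o2 inf_le_right
      ((MinSimple.VModule.o2_isPGroup _).to_le inf_le_left) ?_)
    intro g hg
    rw [mem_normalizer_iff_cj, cj_inf,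
      cj_eq_of_mem_normalizer (MinSimple.VModule.le_normalizer_o2 _ ((le_sup_left : K ≤ K ⊔ T) hg)),
      cj_eq_of_mem_normalizer (le_normalizer hg)]
  · intro B hB
    have hBO := hAO.trans' hB
    have h6 := hsit.no j B (eab_mono hA hB) hBO
    have h7 : (centralizer (EE T F V i j : Set G)).relIndex B ≤ (centralizer (NN F j : Set G)).relIndex B := by
      rw [← inf_relIndex_left B (centralizer (NN F j : Set G))]
      exact Sigma.relIndex_le_left ((inf_le_inf_right _ hB).trans h1)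
    exact h7.trans (h6.trans (Sigma.relIndex_le_right hNE))

/-- **`EXN.BigW`** -/
theorem big (hE : NoInpM.{u, u}) : BigW (CZ T) (o2 (CZ T)) F (LT F V) (NN F) (XX F V) (EE T F V) where
  toSit := h.sit hc ml kg
  eE i j hij := eab_mono (h.eab_X hc hij) (h.EE_le_X i j)
  EO i j hij := (h.EE_le_X i j).trans (h.X_le_O hc hij)
  NE i j _ := h.NN_le_EE i j
  symm i j := by rw [EE, EE, WT, WT, sup_comm (LT F V i)]
  DE i j _ := (le_sup_left : _ ≤ WT T F V i j).trans (le_normalizer_XS _ _)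
  LE i j _ := ((le_sup_left : _ ≤ LT F V i ⊔ LT F V j).trans
    (le_sup_right : _ ≤ WT T F V i j)).trans (le_normalizer_XS _ _)
  minE i j _ U h1 h2 h3 h4 := XS_le_of (h.sup.trans (iSup_le h1)) (sup_le h2 (sup_le h3 h4))
  kl i j hij A hA hAQ hm hX := h.kl hc ml kg hE hij hA hAQ hm hX

/-- **At least three types over `T` are impossible.** -/
theorem false_of [Finite ι] (hE : NoInpM.{u, u}) : False := by
  have hne : Nonempty ι := by
    by_contra hcon
    rw [not_nonempty_iff] at hcon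
    have : Fact (Nat.Prime 2) := ⟨Nat.prime_two⟩
    obtain ⟨S⟩ : Nonempty (Sylow 2 G) := inferInstance
    have h1 : (S : Subgroup G) = ⊥ := h.non S S.isPGroup' fun j => isEmptyElim j
    have h2 := S.not_dvd_index
    rw [h1, index_bot] at h2
    exact h2 hc.1.two_dvd
  obtain ⟨j⟩ := hne
  obtain ⟨⟨x, hx⟩, hx1⟩ := (Subgroup.ne_bot_iff_exists_ne_one).1 (h.ne j)
  have hx1' : x ≠ 1 := fun h => hx1 (Subtype.ext h)
  have hxO : x ∈ o2 (CZ T) := h.NN_le_O hc j (le_XS _ _ hx)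
  obtain ⟨U, hU1, hUO, hUD, hUL⟩ := (h.big hc ml kg hE).exn ⟨x, hxO, hx1', MinSimple.VModule.zc_sq _ x (h.le j hx)⟩
  exact hU1 (h.non U ((MinSimple.VModule.o2_isPGroup _).to_le hUO) fun j =>
    (h.YY_le j).trans (sup_le hUD (hUL j)))

end TypT

end Cfsg.Agent.Omega.NOThreeL.RWide

end
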