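import Cfsg.Agent.Mrg.Omega.NOThreeL.JQ


/-!
# (NO) for flags, `R ≥ S` local but not nec. long

`S` a Sylow 2-subgroup, `Z = Ω₁(Z(S))`, `O = O₂(C_G(Z))`, `R ≥ S` local, `U_R = zl S R = ⟨Z^R⟩`.

* `le_o2_of_comm` : `C_O(U_R) ≤ O₂(R)`;
* `noFlag` : no elementary abelian subgroup of `O` is an over-offender on `U_R` (`Sigma.noFlag` without `C_G(Z) ≤ R`).
-/

set_option autoImplicit false

namespace Cfsg.Agent.Omega.NOThreeL.RWide

open Subgroup Cfsg Cfsg.Agent.ZN Cfsg.Agent.ZN.ChoiceBase Cfsg.Agent.Omega.MinPar Cfsg.Agent.Omega.Frame Cfsg.Agent.Omega.FrameNOFF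
open Cfsg.Agent.Omega.NOThreeL.ZCut (XZ XZ_le mem_XZ conj_mem_XZ le_normalizer_XZ le_cent)
open Cfsg.Agent.Omega.NoFF.Basic (comm_symm comm_mono)
open Cfsg.Agent.Omega.NoFF.ThmJFam (Ex)
open Cfsg.Agent.Omega.NOThreeL.Sigma (NOv)
open Cfsg.Agent.Omega.ML.Final (MLK)
open Cfsg.Agent.MinSimple.VModule (zc_le_zl le_normalizer_zl zl_le le_normalizer_o2 o2_isPGroup o2_le le_o2)

universe u

variable {G : Type u} [Group G] [Finite G] {S : Sylow 2 G}

omit [Finite G] in
/-- `C_O(U_R) ≤ O₂(R)` -/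
theorem le_o2_of_comm {R A : Subgroup G} (hA : A ≤ o2 (CZ (S : Subgroup G))) (hAR : A ≤ R)
    (h : A ≤ centralizer (zl (S : Subgroup G) R : Set G)) : A ≤ o2 R := by
  set K := R ⊓ centralizer (zl (S : Subgroup G) R : Set G) with hK
  have hKC : K ≤ CZ (S : Subgroup G) := inf_le_right.trans (centralizer_le (zc_le_zl _ _))
  have hKn : R ≤ normalizer (K : Set G) := by
    intro g hg
    rw [mem_normalizer_iff_cj, hK, cj_inf, cj_centralizer, cj_eq_of_mem_normalizer (le_normalizer hg),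
      cj_eq_of_mem_normalizer (le_normalizer_zl _ _ hg)]
  have h1 : o2 (CZ (S : Subgroup G)) ⊓ K ≤ o2 K := by
    refine le_o2 inf_le_right ((o2_isPGroup _).to_le inf_le_left) ?_
    intro g hg
    rw [mem_normalizer_iff_cj, cj_inf, cj_eq_of_mem_normalizer (le_normalizer_o2 _ (hKC hg)),
      cj_eq_of_mem_normalizer (le_normalizer hg)]
  refine (le_inf hA (le_inf hAR h)).trans (h1.trans (le_o2 ((o2_le _).trans inf_le_left) (o2_isPGroup _) ?_))
  intro g hg
  exact Cfsg.Agent.Omega.normalizer_le_normalizer_o2' _ (hKn hg)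

variable (hc : IsCharacteristicTwoType G) (ml : MLK.{u, u})
  (kg : ∀ R : Subgroup G, IsLoc (S : Subgroup G) R → IsKGroup R)
include hc ml kg

/-- **(NO) for flags**, `R` local. -/
theorem noFlag (hS : (S : Subgroup G) ≠ ⊥) {R A : Subgroup G} (hR : IsLoc (S : Subgroup G) R)
    (hA : A ≤ o2 (CZ (S : Subgroup G))) (el : Ex A) : NOv A (zl (S : Subgroup G) R) := by
  have hAS : A ≤ (S : Subgroup G) := hA.trans ((isLoc_centralizer_zc S hS).o2_le S)
  suffices key : ∀ n : ℕ, ∀ R : Subgroup G, Nat.card R = n → IsLoc (S : Subgroup G) R →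
      NOv A (zl (S : Subgroup G) R) from key _ R rfl hR
  intro n
  induction n using Nat.strong_induction_on with
  | _ n ih =>
    rintro R rfl hR
    by_cases hall : ∀ z ∈ zc (S : Subgroup G), R ≤ centralizer ({z} : Set G)
    · -- `U_R = Z`
      have h1 : R ≤ normalizer (zc (S : Subgroup G) : Set G) := by
        refine le_trans ?_ (centralizer_le_normalizer _)
        intro g hg
        rw [mem_centralizer_iff]
        exact fun z hz => mem_centralizer_iff.1 (hall z hz hg) z rfl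
      have h2 : A ≤ centralizer (zl (S : Subgroup G) R : Set G) :=
        (hA.trans (o2_le _)).trans (centralizer_le (zl_le le_rfl h1))
      unfold NOv
      rw [relIndex_eq_one.2 h2]
      exact Nat.one_le_iff_ne_zero.2 (Sigma.rne _ _)
    push Not at hall
    obtain ⟨z, hz, hzR⟩ := hall
    set U := zl (S : Subgroup G) R with hU
    set R₁ := R ⊓ centralizer ({z} : Set G) with hR₁
    have hL₁ : IsLoc (S : Subgroup G) R₁ := hR.of_le S (le_inf hR.le (le_cent hz)) inf_le_left
    have hlt : Nat.card R₁ < Nat.card R := by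
      refine lt_of_le_of_ne (Subgroup.card_le_of_le inf_le_left) fun he => hzR ?_
      have h1 : R₁ = R := Subgroup.eq_of_le_of_card_ge inf_le_left he.ge
      rw [← h1]
      exact inf_le_right
    have ih₁ := ih _ hlt R₁ rfl hL₁
    set U₁ := zl (S : Subgroup G) R₁ with hU₁
    set N := XZ z R with hN
    set A₁ := A ⊓ centralizer (U₁ : Set G) with hA₁
    have hA₁o : A₁ ≤ o2 R₁ := le_o2_of_comm (inf_le_left.trans hA) ((inf_le_left.trans hAS).trans hL₁.le) inf_le_right
    have hz' := Sigma.no_z hc ml kg hR hz hA₁o (el.mono inf_le_left)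
    have hU₁U : U₁ ≤ U := zl_le (zc_le_zl _ _) (inf_le_left.trans (le_normalizer_zl _ _))
    have hNU : N ≤ U := XZ_le fun p hp =>
      (mem_normalizer_iff.1 (le_normalizer_zl (S : Subgroup G) R hp) z).1 (zc_le_zl (S : Subgroup G) R hz)
    exact NOv.mul hU₁U hNU
      (((inf_le_inf_right _ hA₁o).trans Sigma.inf_cent_le).trans (Sigma.o2_le_cent hc hR)) ih₁ hz'

end Cfsg.Agent.Omega.NOThreeL.RWide
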