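import Cfsg.Agent.Mrg.Omega.NOThreeL.RWide.PermEnd
import Cfsg.Agent.Mrg.Omega.NOThreeL.RWide.Typ
import Cfsg.Agent.Mrg.Omega.NOThreeL.RTree
import Cfsg.Agent.Omega.NOThreeL.RWide.TBlk

section


/-!
# `⟨C_G(Z_J), blocks⟩` is nonlocal, any number of levels (#24915 (B4); field `non` of `TypT`, #25339)

`B = S ∩ C_G(Z_J)`, `Z_J ≤ B`, `L k` the block groups, `G₀₀ = ⟨C_G(Z_J), L k : k⟩` (`G00 ZJ L`).

* `NG S ZJ B L` : `N_G(B)` normalises `Z_J` and `G₀₀`, `C_G(Z)` normalises `Z_J`, the `P ∈ P*(S)` normalise `G₀₀`;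
  `NG.of` : the `P ∈ P*(S)` lie in `⟨L k⟩S`, in `N_G(B)` or in `N_G(Z_J)`;
* `NG.frattini` : `N_G(Z_J)` normalises `G₀₀`;
* `NG.eq_bot` : `G₀₀` normalises no 2-group `≠ 1`;
* `NG.non` : the field `non` of `TypT`: `F i ≤ Z_J`, every `L k` lies in some `Y_j = C_G(F_l : l ≠ j)`.
-/

set_option autoImplicit false
set_option linter.unusedSectionVars false

namespace Cfsg.Agent.Omega.NOThreeL.RWide.NonT

open Subgroup Cfsg Cfsg.Agent.ZN Cfsg.Agent.Omega.MinPar Cfsg.Agent.Omega.Frame Cfsg.Agent.Omega.FrameNOFF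
open Cfsg.Agent.ZN.ChoiceBase (cj cj_mono cj_inf cj_centralizer cj_eq_of_mem_normalizer mem_cj mem_normalizer_iff_cj
  cj_cj_inv cj_inv_cj cj_cj cj_one)
open Cfsg.Agent.Omega.NOThreeL.RTree (RB)

universe u

variable {G : Type u} [Group G]

/-- `G₀₀ = ⟨C_G(Z_J), L k : k⟩` -/
def G00 {κ : Sort*} (ZJ : Subgroup G) (L : κ → Subgroup G) : Subgroup G :=
  centralizer (ZJ : Set G) ⊔ ⨆ k, L k

theorem cent_le {κ : Sort*} (ZJ : Subgroup G) (L : κ → Subgroup G) : centralizer (ZJ : Set G) ≤ G00 ZJ L :=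
  le_sup_left

theorem L_le {κ : Sort*} (ZJ : Subgroup G) (L : κ → Subgroup G) (k : κ) : L k ≤ G00 ZJ L :=
  (le_iSup L k).trans le_sup_right

/-- The situation of (B4). -/
structure NG {κ : Sort*} (S : Sylow 2 G) (ZJ B : Subgroup G) (L : κ → Subgroup G) : Prop where
  eq : B = (S : Subgroup G) ⊓ centralizer (ZJ : Set G)
  ZB : ZJ ≤ B
  /-- `N_G(B) ≤ N_G(Z_J)` -/
  NB : normalizer (B : Set G) ≤ normalizer (ZJ : Set G)
  /-- `N_G(B)` permutes the `L k` (up to `G₀₀`) -/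
  perm : ∀ x ∈ normalizer (B : Set G), ∀ k, cj x (L k) ≤ G00 ZJ L
  /-- `C_G(Z) ≤ N_G(Z_J)` -/
  cz : CZ (S : Subgroup G) ≤ normalizer (ZJ : Set G)
  /-- the `P ∈ P*(S)` -/
  par : ∀ P : Subgroup G, IsParS (S : Subgroup G) P → P ≤ normalizer (G00 ZJ L : Set G)

section basic

variable [Finite G] {κ : Sort*} {S : Sylow 2 G} {ZJ B : Subgroup G} {L : κ → Subgroup G}

/-- an element permuting the `L k` up to `G₀₀` and normalising `Z_J` normalises `G₀₀` -/
theorem mem_normalizer_G00 {x : G} (hx : x ∈ normalizer (ZJ : Set G)) (hL : ∀ k, cj x (L k) ≤ G00 ZJ L) :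
    x ∈ normalizer (G00 ZJ L : Set G) := by
  refine ChoiceBase.mem_normalizer_of_cj_le ?_
  have e : cj x (G00 ZJ L) = cj x (centralizer (ZJ : Set G)) ⊔ ⨆ k, cj x (L k) := by
    rw [G00, cj, Subgroup.map_sup, Subgroup.map_iSup]
  rw [e, cj_centralizer, mem_normalizer_iff_cj.1 hx]
  exact sup_le (cent_le _ _) (iSup_le hL)

/-- **Frattini**: `N_G(Z_J)` normalises `G₀₀`, if `N_G(B)` does (`B = C_S(Z_J)`). -/
theorem frattini_of (hS : (S : Subgroup G) ≤ normalizer (ZJ : Set G))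
    (hN : normalizer (((S : Subgroup G) ⊓ centralizer (ZJ : Set G) : Subgroup G) : Set G) ≤
      normalizer (G00 ZJ L : Set G)) : normalizer (ZJ : Set G) ≤ normalizer (G00 ZJ L : Set G) := by
  have hnc : normalizer (ZJ : Set G) ≤ normalizer ((centralizer (ZJ : Set G) : Subgroup G) : Set G) := by
    intro y hy
    apply mem_normalizer_iff_cj.2
    rw [cj_centralizer, cj_eq_of_mem_normalizer hy]
  intro n hn
  obtain ⟨c, hc, hcn⟩ := EndFive.frattini (S := S) (hS.trans hnc) (hnc hn)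
  have h1 : c ∈ normalizer (G00 ZJ L : Set G) := Subgroup.le_normalizer (cent_le ZJ L hc)
  have h2 := mul_mem h1 (hN hcn)
  rwa [mul_inv_cancel_left] at h2

end basic

namespace NG

variable [Finite G] {κ : Sort*} {S : Sylow 2 G} {ZJ B : Subgroup G} {L : κ → Subgroup G}

section

variable (h : NG S ZJ B L)
include h

theorem SZ : (S : Subgroup G) ≤ normalizer (ZJ : Set G) := (le_CZ S).trans h.cz

/-- `N_G(B)` normalises `G₀₀` -/
theorem NB_le : normalizer (B : Set G) ≤ normalizer (G00 ZJ L : Set G) := fun x hx =>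
  mem_normalizer_G00 (h.NB hx) (h.perm x hx)

/-- **Frattini**: `N_G(Z_J)` normalises `G₀₀`. -/
theorem frattini : normalizer (ZJ : Set G) ≤ normalizer (G00 ZJ L : Set G) :=
  frattini_of h.SZ (by rw [← h.eq]; exact h.NB_le)

theorem two : IsPGroup 2 B := by
  rw [h.eq]; exact S.isPGroup'.to_le inf_le_left

theorem max {T : Subgroup G} (hT : IsPGroup 2 T) (hB : B ≤ T) (hTC : T ≤ centralizer (ZJ : Set G)) : T ≤ B := by
  have hnc : normalizer (ZJ : Set G) ≤ normalizer ((centralizer (ZJ : Set G) : Subgroup G) : Set G) := by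
    intro y hy
    apply mem_normalizer_iff_cj.2
    rw [cj_centralizer, cj_eq_of_mem_normalizer hy]
  have h1 := EndFive.syl_inf (S := S) (h.SZ.trans hnc)
  rw [← h.eq] at h1
  exact (h1.2.2 T hTC hT hB).le

end

/-- `O₂(G₀₀) = 1`. -/
theorem o2_eq_bot (hG : Ctx G) (hF : Full (S : Subgroup G)) (h : NG S ZJ B L) : o2 (G00 ZJ L) = ⊥ := by
  refine FrameNOFF.eq_bot_of_norm hG S hF (MinSimple.VModule.o2_isPGroup _) (fun P hP => ?_) ?_
  · exact (h.par P hP).trans (ZN.normalizer_le_normalizer_o2 _)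
  · exact (h.cz.trans h.frattini).trans (ZN.normalizer_le_normalizer_o2 _)

/-- **`G₀₀` normalises no 2-group `≠ 1`.** -/
theorem eq_bot (hG : Ctx G) (hF : Full (S : Subgroup G)) (h : NG S ZJ B L) {U : Subgroup G} (hU2 : IsPGroup 2 U)
    (hU : G00 ZJ L ≤ normalizer (U : Set G)) : U = ⊥ := by
  have hf : Fact (Nat.Prime 2) := ⟨Nat.prime_two⟩
  by_contra hU1
  have hBC : B ≤ centralizer (ZJ : Set G) := by rw [h.eq]; exact inf_le_right
  have hBG : B ≤ G00 ZJ L := hBC.trans (cent_le _ _)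
  -- `C_U(B) ≠ 1`
  have hne := PLocal.OffenderStep.inf_centralizer_ne_bot U B hU2 h.two (hBG.trans hU) hU1
  obtain ⟨⟨u, hu, huC⟩, hu1'⟩ := (Subgroup.ne_bot_iff_exists_ne_one).1 hne
  have hu1 : u ≠ 1 := fun h0 => hu1' (Subtype.ext h0)
  have hT2 : IsPGroup 2 ↥(B ⊔ zpowers u) := by
    refine IsPGroup.to_sup_of_normal_left' h.two (hU2.to_le (zpowers_le.2 hu)) ?_
    exact zpowers_le.2 (centralizer_le_normalizer _ huC)
  have hTB : B ⊔ zpowers u ≤ B := h.max hT2 le_sup_left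
    (sup_le hBC (zpowers_le.2 (centralizer_le h.ZB huC)))
  have huG : u ∈ G00 ZJ L := hBG (hTB ((le_sup_right : zpowers u ≤ _) (mem_zpowers u)))
  have hle : U ⊓ G00 ZJ L ≤ o2 (G00 ZJ L) := by
    refine MinSimple.VModule.le_o2 inf_le_right (hU2.to_le inf_le_left) ?_
    intro g hg
    exact EndFive.mem_norm_inf (hU hg) (Subgroup.le_normalizer hg)
  rw [h.o2_eq_bot hG hF] at hle
  exact hu1 ((mem_bot).1 (hle ⟨hu, huG⟩))

/-- **The field `non` of `TypT`** for any `F i ≤ Z_J`, if every `L k` lies in some `Y_j`. -/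
theorem non (hG : Ctx G) (hF : Full (S : Subgroup G)) (h : NG S ZJ B L) {ι : Type*} [Nonempty ι]
    {F : ι → Subgroup G} (hFZ : ∀ i, F i ≤ ZJ) (hL : ∀ k, ∃ j, L k ≤ YY F j) (U : Subgroup G) (hU2 : IsPGroup 2 U)
    (hU : ∀ j, YY F j ≤ normalizer (U : Set G)) : U = ⊥ := by
  refine h.eq_bot hG hF hU2 (sup_le ?_ (iSup_le fun k => ?_))
  · obtain ⟨i⟩ := ‹Nonempty ι›
    exact (le_YY fun l _ => centralizer_le (hFZ l)).trans (hU i)
  · obtain ⟨j, hj⟩ := hL k
    exact hj.trans (hU j)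

/-- **The field `non`**, `L k` centralises `R l` for `l ≠ p k`, `F l ≤ R l ≤ Z_J`. -/
theorem non' (hG : Ctx G) (hF : Full (S : Subgroup G)) (h : NG S ZJ B L) {ι : Type*} [Nonempty ι]
    {F R : ι → Subgroup G} (hFR : ∀ i, F i ≤ R i) (hRZ : ∀ i, R i ≤ ZJ) (p : κ → ι)
    (hL : ∀ k, ∀ l, l ≠ p k → L k ≤ centralizer (R l : Set G)) (U : Subgroup G) (hU2 : IsPGroup 2 U)
    (hU : ∀ j, YY F j ≤ normalizer (U : Set G)) : U = ⊥ :=
  h.non hG hF (fun i => (hFR i).trans (hRZ i))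
    (fun k => ⟨p k, le_YY fun l hl => (hL k l hl).trans (centralizer_le (hFR l))⟩) U hU2 hU

/-- **`NG` from the shape of the minimal parabolics**: each `P ∈ P*(S)` lies in `⟨L k⟩S` or `N_G(B)` or `N_G(Z_J)`. -/
theorem of (eq : B = (S : Subgroup G) ⊓ centralizer (ZJ : Set G)) (ZB : ZJ ≤ B)
    (NB : normalizer (B : Set G) ≤ normalizer (ZJ : Set G))
    (perm : ∀ x ∈ normalizer (B : Set G), ∀ k, cj x (L k) ≤ G00 ZJ L)
    (cz : CZ (S : Subgroup G) ≤ normalizer (ZJ : Set G))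
    (par : ∀ P : Subgroup G, IsParS (S : Subgroup G) P →
      P ≤ (centralizer (ZJ : Set G) ⊔ ⨆ k, L k) ⊔ (S : Subgroup G) ∨ P ≤ normalizer (ZJ : Set G)) : NG S ZJ B L := by
  have hS : (S : Subgroup G) ≤ normalizer (ZJ : Set G) := (le_CZ S).trans cz
  have hN : normalizer (ZJ : Set G) ≤ normalizer (G00 ZJ L : Set G) :=
    frattini_of hS (by rw [← eq]; exact fun x hx => mem_normalizer_G00 (NB hx) (perm x hx))
  refine ⟨eq, ZB, NB, perm, cz, fun P hP => ?_⟩
  rcases par P hP with h1 | h1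
  · exact h1.trans (sup_le Subgroup.le_normalizer (hS.trans hN))
  · exact h1.trans hN

end NG

end Cfsg.Agent.Omega.NOThreeL.RWide.NonT

end

section


/-!
# `⟨C_G(Z_J), C_G(N_c : c ≠ b)⟩` is nonlocal: the field `non` from the block frame (#24915 (B4), #26055)

`N b` the blocks, `l b` their lines, `Z_J = ⨆ l b`, `B = S ∩ C_G(Z_J)`, `YY N b = C_G(N c : c ≠ b)`.

* `NF S N l B` : `N_G(B)` permutes the `(l b, N b)`, `C_G(Z) ≤ N_G(Z_J)`, the `P ∈ P*(S)` permute the `N b`, `B` is weakly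
  closed in `S` with respect to them and `B ≤ ⟨YY N b : b⟩`;
* `NF.par_le` : `P = ⟨B^P⟩ N_P(B)` normalises `G₀₀ = ⟨C_G(Z_J), YY N b⟩`;
* `NF.ng` : the structure `NonT.NG`; `NF.eq_bot` : `G₀₀` normalises no 2-group `≠ 1`;
* `NF.non` : the field `non` of `TypT` for any `F i ≤ l i`.
-/

set_option autoImplicit false
set_option linter.unusedSectionVars false

namespace Cfsg.Agent.Omega.NOThreeL.RWide.NonF

open Subgroup Cfsg Cfsg.Agent.ZN Cfsg.Agent.Omega.MinPar Cfsg.Agent.Omega.Frame Cfsg.Agent.Omega.FrameNOFF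
open Cfsg.Agent.ZN.ChoiceBase (cj cj_mono cj_inf cj_centralizer cj_eq_of_mem_normalizer mem_cj mem_normalizer_iff_cj
  cj_cj_inv cj_inv_cj cj_cj cj_one)
open Cfsg.Agent.Omega.NOThreeL.RWide.NonT (G00 NG)

universe u v

variable {G : Type u} [Group G] {ι : Type v}

/-- The block frame for (B4). -/
structure NF (S : Sylow 2 G) (N l : ι → Subgroup G) (B : Subgroup G) : Prop where
  eq : B = (S : Subgroup G) ⊓ centralizer ((⨆ b, l b : Subgroup G) : Set G)
  lN : ∀ b, l b ≤ N b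
  lS : ∀ b, l b ≤ (S : Subgroup G)
  lc : ∀ a b, l a ≤ centralizer (l b : Set G)
  Ninj : Function.Injective N
  /-- `N_G(B)` permutes the blocks and their lines -/
  NB : ∀ x ∈ normalizer (B : Set G), ∀ b, ∃ c, cj x (l b) = l c ∧ cj x (N b) = N c
  /-- `C_G(Z) ≤ N_G(Z_J)` -/
  cz : CZ (S : Subgroup G) ≤ normalizer ((⨆ b, l b : Subgroup G) : Set G)
  /-- the `P ∈ P*(S)` permute the blocks -/
  par : ∀ P : Subgroup G, IsParS (S : Subgroup G) P → ∀ x ∈ P, ∀ b, ∃ c, cj x (N b) = N c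
  wc : ∀ P : Subgroup G, IsParS (S : Subgroup G) P → ∀ g ∈ P, cj g B ≤ (S : Subgroup G) → cj g B = B
  /-- `B` acts on the blocks as the product of the root groups -/
  BN : B ≤ ⨆ b, YY N b

/-- An element permuting the blocks permutes the `YY N b`. -/
theorem cj_YY [Finite ι] {N : ι → Subgroup G} (hinj : Function.Injective N) {x : G} (hx : ∀ b, ∃ c, cj x (N b) = N c)
    (b : ι) : ∃ c, cj x (YY N b) ≤ YY N c := by
  choose σ hσ using hx
  have hσi : Function.Injective σ := by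
    intro a b hab
    apply hinj
    have h1 : cj x⁻¹ (cj x (N a)) = cj x⁻¹ (cj x (N b)) := by rw [hσ, hσ, hab]
    rwa [cj_inv_cj, cj_inv_cj] at h1
  have hσs : Function.Surjective σ := Finite.surjective_of_injective hσi
  refine ⟨σ b, le_YY fun c hc => ?_⟩
  obtain ⟨d, rfl⟩ := hσs c
  have hdb : d ≠ b := fun e => hc (by rw [e])
  have h1 := cj_mono x (YY_le_cent (Z := N) hdb)
  rwa [cj_centralizer, hσ] at h1

/-- the lines are permuted, so `Z_J` is normalised -/
theorem norm_ZJ [Finite G] {l : ι → Subgroup G} {x : G} (hx : ∀ b, ∃ c, cj x (l b) = l c) :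
    x ∈ normalizer ((⨆ b, l b : Subgroup G) : Set G) := by
  refine ChoiceBase.mem_normalizer_of_cj_le ?_
  have e : cj x (⨆ b, l b) = ⨆ b, cj x (l b) := Subgroup.map_iSup _ _
  rw [e]
  refine iSup_le fun b => ?_
  obtain ⟨c, hc⟩ := hx b
  rw [hc]
  exact le_iSup l c

/-- A group acting on every block like a group `R b` (which centralises the other blocks) lies in
`⟨R b⟩ C(⨆ N b)`. -/
theorem le_prod [Finite ι] {N R : ι → Subgroup G} {B : Subgroup G}
    (hR : ∀ b c, b ≠ c → R b ≤ centralizer (N c : Set G)) (hN : ∀ b, R b ≤ normalizer (N b : Set G))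
    (hB : ∀ s ∈ B, ∀ b, ∃ r ∈ R b, ∀ v ∈ N b, s * v * s⁻¹ = r * v * r⁻¹) :
    B ≤ (⨆ b, R b) ⊔ centralizer ((⨆ b, N b : Subgroup G) : Set G) := by
  classical
  have := Fintype.ofFinite ι
  intro s hs
  choose r hr hrs using hB s hs
  have key : ∀ t : Finset ι, ∃ g ∈ ⨆ b, R b, (∀ b ∈ t, ∀ v ∈ N b, s * v * s⁻¹ = g * v * g⁻¹) ∧
      ∀ b, b ∉ t → g ∈ centralizer (N b : Set G) := by
    intro t
    induction t using Finset.induction_on with
    | empty => exact ⟨1, one_mem _, by simp, fun b _ => one_mem _⟩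
    | insert b t hb ih =>
      obtain ⟨g, hg, h1, h2⟩ := ih
      refine ⟨g * r b, mul_mem hg ((le_iSup R b) (hr b)), fun a ha v hv => ?_, fun a ha => ?_⟩
      · rcases Finset.mem_insert.1 ha with rfl | ha
        · have h3 : r a * v * (r a)⁻¹ ∈ N a := (mem_normalizer_iff.1 (hN a (hr a)) v).1 hv
          have h4 := mem_centralizer_iff.1 (h2 a hb) _ h3
          calc s * v * s⁻¹ = r a * v * (r a)⁻¹ := hrs a v hv
            _ = (r a * v * (r a)⁻¹) * g * g⁻¹ := by group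
            _ = g * (r a * v * (r a)⁻¹) * g⁻¹ := by rw [h4]
            _ = g * r a * v * (g * r a)⁻¹ := by group
        · have hab : a ≠ b := fun e => hb (e ▸ ha)
          have h3 := mem_centralizer_iff.1 (hR b a hab.symm (hr b)) v hv
          rw [h1 a ha v hv]
          have e : r b * v * (r b)⁻¹ = v := by rw [← h3]; group
          calc g * v * g⁻¹ = g * (r b * v * (r b)⁻¹) * g⁻¹ := by rw [e]
            _ = g * r b * v * (g * r b)⁻¹ := by group
      · rw [Finset.mem_insert, not_or] at ha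
        exact mul_mem (h2 a ha.2) (hR b a (Ne.symm ha.1) (hr b))
  obtain ⟨g, hg, h1, -⟩ := key Finset.univ
  have h2 : g⁻¹ * s ∈ centralizer ((⨆ b, N b : Subgroup G) : Set G) := by
    have h3 : (⨆ b, N b) ≤ centralizer ({g⁻¹ * s} : Set G) := by
      refine iSup_le fun b v hv => mem_centralizer_singleton_iff.2 ?_
      have h4 := h1 b (Finset.mem_univ b) v hv
      calc v * (g⁻¹ * s) = g⁻¹ * (g * v * g⁻¹) * s := by group
        _ = g⁻¹ * (s * v * s⁻¹) * s := by rw [h4]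
        _ = g⁻¹ * s * v := by group
    exact mem_centralizer_iff.2 fun v hv => mem_centralizer_singleton_iff.1 (h3 hv)
  have h5 := mul_mem (mem_sup_left hg : g ∈ (⨆ b, R b) ⊔ centralizer ((⨆ b, N b : Subgroup G) : Set G))
    (mem_sup_right h2)
  rwa [mul_inv_cancel_left] at h5

/-- the field `BN` -/
theorem BN_of [Finite ι] [Nonempty ι] {N R : ι → Subgroup G} {B : Subgroup G}
    (hR : ∀ b c, b ≠ c → R b ≤ centralizer (N c : Set G)) (hN : ∀ b, R b ≤ normalizer (N b : Set G))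
    (hB : ∀ s ∈ B, ∀ b, ∃ r ∈ R b, ∀ v ∈ N b, s * v * s⁻¹ = r * v * r⁻¹) : B ≤ ⨆ b, YY N b := by
  refine (le_prod hR hN hB).trans (sup_le (iSup_mono fun b => le_YY fun c hc => hR b c hc.symm) ?_)
  obtain ⟨i⟩ := ‹Nonempty ι›
  exact (le_YY fun c _ => centralizer_le (by exact_mod_cast le_iSup N c)).trans (le_iSup (YY N) i)

namespace NF

variable [Finite G] [Finite ι] {S : Sylow 2 G} {N l : ι → Subgroup G} {B : Subgroup G} (h : NF S N l B)
include h

/-- `N_G(B)` normalises `G₀₀`. -/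
theorem NB_le : normalizer (B : Set G) ≤ normalizer (G00 (⨆ b, l b) (YY N) : Set G) := by
  intro x hx
  refine NonT.mem_normalizer_G00 (norm_ZJ fun b => ?_) fun b => ?_
  · obtain ⟨c, hc, -⟩ := h.NB x hx b
    exact ⟨c, hc⟩
  · obtain ⟨c, hc⟩ := cj_YY h.Ninj (fun b => (h.NB x hx b).imp fun c hc => hc.2) b
    exact hc.trans (NonT.L_le _ _ c)

/-- a group permuting the blocks normalises `⟨YY N b⟩` -/
theorem norm_Y {x : G} (hx : ∀ b, ∃ c, cj x (N b) = N c) :
    x ∈ normalizer ((⨆ b, YY N b : Subgroup G) : Set G) := by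
  refine ChoiceBase.mem_normalizer_of_cj_le ?_
  have e : cj x (⨆ b, YY N b) = ⨆ b, cj x (YY N b) := Subgroup.map_iSup _ _
  rw [e]
  refine iSup_le fun b => ?_
  obtain ⟨c, hc⟩ := cj_YY h.Ninj hx b
  exact hc.trans (le_iSup (YY N) c)

/-- **`P ∈ P*(S)` normalises `G₀₀`**: `P = ⟨B^P⟩ N_P(B)`. -/
theorem par_le {P : Subgroup G} (hP : IsParS (S : Subgroup G) P) :
    P ≤ normalizer (G00 (⨆ b, l b) (YY N) : Set G) := by
  intro x hx
  have hBS : B ≤ (S : Subgroup G) := by rw [h.eq]; exact inf_le_left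
  have hBP : B ≤ P := hBS.trans hP.le
  have hPK := le_normalizer_XS B P
  obtain ⟨c, hc, hcn⟩ := EndFive.frattini (S := S) (hP.le.trans hPK) (hPK hx)
  have hKP : XS B P ≤ P := XS_le_of hBP Subgroup.le_normalizer
  have hKY : XS B P ≤ ⨆ b, YY N b := XS_le_of h.BN fun y hy => h.norm_Y (h.par P hP y hy)
  have hm : c⁻¹ * x ∈ P := mul_mem (inv_mem (hKP hc)) hx
  have h1 : cj (c⁻¹ * x) B ≤ (S : Subgroup G) := by
    have h2 := cj_mono (c⁻¹ * x) (le_inf hBS (le_XS B P))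
    rw [mem_normalizer_iff_cj.1 hcn] at h2
    exact h2.trans inf_le_left
  have h2 : c⁻¹ * x ∈ normalizer (B : Set G) := mem_normalizer_iff_cj.2 (h.wc P hP _ hm h1)
  have h3 : c ∈ normalizer (G00 (⨆ b, l b) (YY N) : Set G) :=
    Subgroup.le_normalizer ((le_sup_right : (⨆ b, YY N b) ≤ G00 (⨆ b, l b) (YY N)) (hKY hc))
  have h4 := mul_mem h3 (h.NB_le h2)
  rwa [mul_inv_cancel_left] at h4

theorem ng : NG S (⨆ b, l b) B (YY N) where
  eq := h.eq
  ZB := by
    rw [h.eq]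
    refine le_inf (iSup_le h.lS) (iSup_le fun a => ?_)
    exact le_centralizer_iff.1 (iSup_le fun b => h.lc b a)
  NB := fun x hx => norm_ZJ fun b => (h.NB x hx b).imp fun c hc => hc.1
  perm := fun x hx b => by
    obtain ⟨c, hc⟩ := cj_YY h.Ninj (fun b => (h.NB x hx b).imp fun c hc => hc.2) b
    exact hc.trans (NonT.L_le _ _ c)
  cz := h.cz
  par := fun P hP => h.par_le hP

omit h in
/-- **`⟨C_G(Z_J), YY N b⟩` normalises no 2-group `≠ 1`.** -/
theorem eq_bot (hG : Ctx G) (hF : Full (S : Subgroup G)) (h : NF S N l B) {U : Subgroup G} (hU2 : IsPGroup 2 U)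
    (hU : G00 (⨆ b, l b) (YY N) ≤ normalizer (U : Set G)) : U = ⊥ :=
  h.ng.eq_bot hG hF hU2 hU

omit h in
/-- **The field `non` of `TypT`**, `F i ≤ l i`. -/
theorem non [Nonempty ι] (hG : Ctx G) (hF : Full (S : Subgroup G)) (h : NF S N l B) {F : ι → Subgroup G}
    (hFl : ∀ i, F i ≤ l i) (U : Subgroup G) (hU2 : IsPGroup 2 U)
    (hU : ∀ j, YY F j ≤ normalizer (U : Set G)) : U = ⊥ :=
  h.ng.non hG hF (fun i => (hFl i).trans (le_iSup l i))
    (fun b => ⟨b, le_YY fun c hc => (YY_le_cent hc).trans (centralizer_le ((hFl c).trans (h.lN c)))⟩) U hU2 hU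

omit h in
/-- The same for coarser index sets: `F i ≤ ⨆ l b` over the blocks `b` of the class `i = p b`. -/
theorem non' [Nonempty ι] (hG : Ctx G) (hF : Full (S : Subgroup G)) (h : NF S N l B) {κ : Type*} (p : ι → κ)
    {F : κ → Subgroup G} (hFl : ∀ i, F i ≤ ⨆ (b) (_ : p b = i), l b) (U : Subgroup G) (hU2 : IsPGroup 2 U)
    (hU : ∀ j, YY F j ≤ normalizer (U : Set G)) : U = ⊥ := by
  refine h.eq_bot hG hF hU2 (sup_le ?_ (iSup_le fun b => ?_))
  · obtain ⟨i⟩ := ‹Nonempty ι›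
    refine (le_YY fun j _ => centralizer_le ?_ : _ ≤ YY F (p i)).trans (hU (p i))
    exact_mod_cast (hFl j).trans (iSup₂_le fun b _ => le_iSup l b)
  · refine (le_YY fun j hj => ?_ : _ ≤ YY F (p b)).trans (hU (p b))
    refine le_trans ?_ (centralizer_le (hFl j))
    refine le_centralizer_iff.1 (iSup₂_le fun c hc => le_centralizer_iff.1 ?_)
    refine (YY_le_cent ?_).trans (centralizer_le (h.lN c))
    rintro rfl
    exact hj hc.symm

end NF

end Cfsg.Agent.Omega.NOThreeL.RWide.NonF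

end

section


/-!
# `B = S ∩ C_G(Z_J)` acts on the blocks by root elements (#26055, #26214)

`N = F²` (coordinates `e`), `l = {v : e v 1 = 0}`.

* `act_root` : a 2-element which acts semilinearly and upper triangularly on `N` and centralises `l` acts as
  `(x, y) ↦ (x + c y, y)`;
* `exists_root` : so it acts like an element of `S ∩ E` (`root`);
* `fix_block` : `s` permutes the independent blocks and centralises all lines: it normalises all blocks;
* `B_act` : `B` acts on every block like a subgroup of `R b` (`R b := S ∩ E b`; then `NonF.le_prod`, `NonF.BN_of`).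
-/

set_option autoImplicit false
set_option linter.unusedSectionVars false

namespace Cfsg.Agent.Omega.NOThreeL.RWide.RootB

open Subgroup Cfsg
open Cfsg.Agent.ZN.ChoiceBase (cj cj_mono cj_eq_of_mem_normalizer mem_normalizer_iff_cj)

universe u v

variable {G : Type u} [Group G]

section nat

variable {F : Type} [Field F] {e : G → Fin 2 → F} {N l : Subgroup G}

/-- **a 2-element which is semilinear, upper triangular and trivial on `l` is a root element** -/
theorem act_root [CharP F 2] (sur : ∀ x : Fin 2 → F, ∃ v ∈ N, e v = x)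
    (line : ∀ v, v ∈ l ↔ v ∈ N ∧ e v 1 = 0) {s : G} (h2 : ∃ k : ℕ, s ^ 2 ^ k = 1)
    (hN : s ∈ normalizer (N : Set G)) (hl : s ∈ centralizer (l : Set G))
    (semi : ∃ (σ : F ≃+* F) (a b d : F), ∀ v ∈ N, e (s * v * s⁻¹) = ![a * σ (e v 0) + b * σ (e v 1), d * σ (e v 1)]) :
    ∃ c : F, ∀ v ∈ N, e (s * v * s⁻¹) = ![e v 0 + c * e v 1, e v 1] := by
  obtain ⟨σ, a, b, d, h⟩ := semi
  -- on `l`
  have h1 : ∀ x : F, a * σ x = x := by
    intro x
    obtain ⟨v, hv, hx⟩ := sur ![x, 0]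
    have hvl : v ∈ l := (line v).2 ⟨hv, by rw [hx]; simp⟩
    have h3 : s * v * s⁻¹ = v := by
      rw [← mem_centralizer_iff.1 hl v hvl]; group
    have h4 := h v hv
    rw [h3, hx] at h4
    have h5 := congrFun h4 0
    simp at h5
    exact h5.symm
  have ha : a = 1 := by
    have := h1 1
    rwa [map_one, mul_one] at this
  have hσ : ∀ x : F, σ x = x := fun x => by
    have := h1 x
    rwa [ha, one_mul] at this
  -- the second coordinate
  have hpow : ∀ n : ℕ, ∀ v ∈ N, e (s ^ n * v * (s ^ n)⁻¹) 1 = d ^ n * e v 1 := by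
    intro n
    induction n with
    | zero => intro v _; simp
    | succ n ih =>
      intro v hv
      have h3 : s * v * s⁻¹ ∈ N := (mem_normalizer_iff.1 hN v).1 hv
      have e1 : s ^ (n + 1) * v * (s ^ (n + 1))⁻¹ = s ^ n * (s * v * s⁻¹) * (s ^ n)⁻¹ := by
        rw [pow_succ]; group
      rw [e1, ih _ h3, h v hv]
      simp only [Matrix.cons_val_one, Matrix.cons_val_fin_one, hσ]
      ring
  obtain ⟨k, hk⟩ := h2
  have hd : d = 1 := by
    obtain ⟨v, hv, hx⟩ := sur ![0, 1]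
    have h3 := hpow (2 ^ k) v hv
    rw [hk] at h3
    have h4 : e v 1 = 1 := by rw [hx]; simp
    rw [one_mul, inv_one, mul_one, h4, mul_one] at h3
    have : Fact (Nat.Prime 2) := ⟨Nat.prime_two⟩
    have h5 : (d - 1) ^ 2 ^ k = 0 := by
      rw [sub_pow_char_pow, one_pow, ← h3, sub_self]
    exact sub_eq_zero.1 (pow_eq_zero_iff (pow_ne_zero _ two_ne_zero) |>.1 h5)
  refine ⟨b, fun v hv => ?_⟩
  rw [h v hv, ha, hd, hσ, hσ, one_mul, one_mul]

/-- … so it acts like an element of `R`, if all root elements occur in `R`. -/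
theorem exists_root [CharP F 2] (mul : ∀ v ∈ N, ∀ w ∈ N, e (v * w) = e v + e w) (inj : ∀ v ∈ N, e v = 0 → v = 1)
    (sur : ∀ x : Fin 2 → F, ∃ v ∈ N, e v = x) (line : ∀ v, v ∈ l ↔ v ∈ N ∧ e v 1 = 0) {R : Subgroup G}
    (hRN : R ≤ normalizer (N : Set G))
    (root : ∀ c : F, ∃ r ∈ R, ∀ v ∈ N, e (r * v * r⁻¹) = ![e v 0 + c * e v 1, e v 1]) {s : G}
    (h2 : ∃ k : ℕ, s ^ 2 ^ k = 1) (hN : s ∈ normalizer (N : Set G)) (hl : s ∈ centralizer (l : Set G))
    (semi : ∃ (σ : F ≃+* F) (a b d : F), ∀ v ∈ N, e (s * v * s⁻¹) = ![a * σ (e v 0) + b * σ (e v 1), d * σ (e v 1)]) :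
    ∃ r ∈ R, ∀ v ∈ N, s * v * s⁻¹ = r * v * r⁻¹ := by
  obtain ⟨c, hc⟩ := act_root sur line h2 hN hl semi
  obtain ⟨r, hr, hrc⟩ := root c
  refine ⟨r, hr, fun v hv => ?_⟩
  have h1 : s * v * s⁻¹ ∈ N := (mem_normalizer_iff.1 hN v).1 hv
  have h3 : r * v * r⁻¹ ∈ N := (mem_normalizer_iff.1 (hRN hr) v).1 hv
  have e1 : e 1 = 0 := by
    have h := mul 1 (one_mem _) 1 (one_mem _)
    rw [mul_one] at h
    simpa using h
  have einv : ∀ w ∈ N, e w⁻¹ = -e w := by
    intro w hw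
    have h := mul w hw w⁻¹ (inv_mem hw)
    rw [mul_inv_cancel, e1] at h
    exact (neg_eq_of_add_eq_zero_right h.symm).symm
  have h4 := inj (s * v * s⁻¹ * (r * v * r⁻¹)⁻¹) (mul_mem h1 (inv_mem h3)) (by
    rw [mul _ h1 _ (inv_mem h3), einv _ h3, hc v hv, hrc v hv, add_neg_cancel])
  exact mul_inv_eq_one.1 h4

end nat

section frame

variable {ι : Type v} {N l : ι → Subgroup G}

/-- An element permuting the independent blocks and centralising the lines normalises every block. -/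
theorem fix_block (ind : ∀ b, N b ⊓ (⨆ c : {c // c ≠ b}, N c) = ⊥) (lN : ∀ b, l b ≤ N b) (lne : ∀ b, l b ≠ ⊥) {s : G}
    (hp : ∀ b, ∃ c, cj s (N b) = N c) (hl : ∀ b, s ∈ centralizer (l b : Set G)) (b : ι) :
    s ∈ normalizer (N b : Set G) := by
  obtain ⟨c, hc⟩ := hp b
  have h1 : cj s (l b) = l b := cj_eq_of_mem_normalizer (centralizer_le_normalizer _ (hl b))
  have h2 : l b ≤ N c := by rw [← hc, ← h1]; exact cj_mono s (lN b)
  by_cases hcb : c = b
  · rw [hcb] at hc; exact mem_normalizer_iff_cj.2 hc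
  exfalso
  apply lne b
  rw [eq_bot_iff, ← ind b]
  exact le_inf (lN b) (h2.trans (le_iSup (fun c : {c // c ≠ b} => N c) ⟨c, hcb⟩))

/-- **`B` acts on every block like a subgroup of `R b`.** -/
theorem B_act {S B : Subgroup G} {R : ι → Subgroup G} (h2 : IsPGroup 2 B) (hBS : B ≤ S)
    (hBl : ∀ b, B ≤ centralizer (l b : Set G)) (ind : ∀ b, N b ⊓ (⨆ c : {c // c ≠ b}, N c) = ⊥)
    (lN : ∀ b, l b ≤ N b) (lne : ∀ b, l b ≠ ⊥) (hp : ∀ s ∈ S, ∀ b, ∃ c, cj s (N b) = N c)
    (hRN : ∀ b, R b ≤ normalizer (N b : Set G))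
    (nat : ∀ b, ∃ (F : Type) (_ : Field F) (_ : CharP F 2) (e : G → Fin 2 → F),
      (∀ v ∈ N b, ∀ w ∈ N b, e (v * w) = e v + e w) ∧ (∀ v ∈ N b, e v = 0 → v = 1) ∧
      (∀ x : Fin 2 → F, ∃ v ∈ N b, e v = x) ∧ (∀ v, v ∈ l b ↔ v ∈ N b ∧ e v 1 = 0) ∧
      (∀ c : F, ∃ r ∈ R b, ∀ v ∈ N b, e (r * v * r⁻¹) = ![e v 0 + c * e v 1, e v 1]) ∧
      ∀ s ∈ S, s ∈ normalizer (N b : Set G) → ∃ (σ : F ≃+* F) (a c d : F), ∀ v ∈ N b,
        e (s * v * s⁻¹) = ![a * σ (e v 0) + c * σ (e v 1), d * σ (e v 1)]) :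
    ∀ s ∈ B, ∀ b, ∃ r ∈ R b, ∀ v ∈ N b, s * v * s⁻¹ = r * v * r⁻¹ := by
  intro s hs b
  obtain ⟨F, _, _, e, mul, inj, sur, line, root, semi⟩ := nat b
  have hN : s ∈ normalizer (N b : Set G) :=
    fix_block ind lN lne (hp s (hBS hs)) (fun c => hBl c hs) b
  refine exists_root mul inj sur line (hRN b) root ?_ hN (hBl b hs) (semi s (hBS hs) hN)
  obtain ⟨k, hk⟩ := h2 ⟨s, hs⟩
  exact ⟨k, by have := congrArg Subtype.val hk; simpa using this⟩

end frame

end Cfsg.Agent.Omega.NOThreeL.RWide.RootB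

end

section


/-!
# The field `non` of `TypT` from natural blocks (`TBlk.Bls`, #26055)

* `B_act`, `BB_le` : `B = C_S(Z_J) ≤ ⟨S ∩ E b⟩ C_S(V)`; `BB_le_YY` : `B ≤ ⟨C_G(N_c : c ≠ b)⟩`;
* `nf` : the structure `NonF.NF`: `N_G(B)` permutes the `(l b, N b)`, `C_G(Z) ≤ N_G(Z_J)`, the `P ∈ P*(S)` permute the
  `N b`, `B` is weakly closed in `S` with respect to `N_G(V)`;
* `non` : the field `non` of `TypT` for `F i ≤ l i`; `non_FF` : for `F i = FF S N l i`.
-/

set_option autoImplicit false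
set_option linter.unusedSectionVars false

namespace Cfsg.Agent.Omega.NOThreeL.RWide.NonBls

open Subgroup Cfsg Cfsg.Agent.ZN Cfsg.Agent.Omega.MinPar Cfsg.Agent.Omega.Frame Cfsg.Agent.Omega.FrameNOFF
open Cfsg.Agent.ZN.ChoiceBase (cj cj_mono mem_normalizer_iff_cj)
open Cfsg.Agent.Omega.NOThreeL.RWide.NonF (NF)
open Cfsg.Agent.Omega.NOThreeL.RWide.TBlk (NB Bls TT BB)

universe u v

variable {G : Type u} [Group G] {ι : Type v}

section blocks

variable {S V : Subgroup G} {N l E : ι → Subgroup G} (h : Bls S V N l E)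
include h

theorem lN (b : ι) : l b ≤ N b := by
  obtain ⟨F, _, _, _, e, he⟩ := h.nat b
  exact fun v hv => ((he.line v).1 hv).1

theorem NV (b : ι) : N b ≤ V := h.sup ▸ le_iSup N b

theorem l_ne (b : ι) : l b ≠ ⊥ := by
  obtain ⟨F, _, _, _, e, he⟩ := h.nat b
  obtain ⟨v, hv, hx⟩ := he.sur ![1, 0]
  intro h0
  have h1 : v ∈ l b := (he.line v).2 ⟨hv, by rw [hx]; simp⟩
  rw [h0, mem_bot] at h1
  have h2 := he.mul 1 (one_mem _) 1 (one_mem _)
  rw [mul_one] at h2
  have h3 : e 1 = 0 := left_eq_add.1 h2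
  rw [h1, h3] at hx
  have h4 := congrFun hx 0
  simp at h4

theorem N_inj : Function.Injective N := by
  intro a b hab
  by_contra hne
  apply l_ne h a
  rw [eq_bot_iff, ← h.ind a]
  refine le_inf (lN h a) ((lN h a).trans ?_)
  rw [hab]
  exact le_iSup (fun c : {c // c ≠ a} => N c) ⟨b, Ne.symm hne⟩

/-- **`B` acts on every block like a subgroup of `S ∩ E b`.** -/
theorem B_act (hS : IsPGroup 2 S) : ∀ s ∈ BB S l, ∀ b, ∃ r ∈ S ⊓ E b, ∀ v ∈ N b, s * v * s⁻¹ = r * v * r⁻¹ := by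
  refine RootB.B_act (S := S) (hS.to_le inf_le_left) inf_le_left
    (fun b => inf_le_right.trans (centralizer_le (by exact_mod_cast le_iSup l b))) h.ind (lN h) (l_ne h)
    (fun s hs b => (h.perm s hs b).imp fun c hc => hc.1) (fun b => inf_le_right.trans (h.EN b)) fun b => ?_
  obtain ⟨F, i1, i2, i3, e, he⟩ := h.nat b
  exact ⟨F, i1, i3, e, he.mul, he.inj, he.sur, he.line, he.root, he.semi⟩

/-- **`B ≤ ⟨S ∩ E b⟩ C_S(V)`** -/
theorem BB_le [Finite ι] (hS : IsPGroup 2 S) :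
    BB S l ≤ (⨆ b, S ⊓ E b) ⊔ (S ⊓ centralizer (V : Set G)) := by
  intro s hs
  have h1 := NonF.le_prod (N := N) (R := fun b => S ⊓ E b) (B := BB S l)
    (fun b c hbc => inf_le_right.trans (h.EC b c hbc)) (fun b => inf_le_right.trans (h.EN b)) (B_act h hS) hs
  rw [h.sup] at h1
  have hn : (⨆ b, S ⊓ E b) ≤ normalizer ((centralizer (V : Set G) : Subgroup G) : Set G) := by
    refine iSup_le fun b x hx => ?_
    have h2 : x ∈ normalizer (V : Set G) := by
      rw [← h.sup]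
      refine mem_normalizer_iff_cj.2 ?_
      have e1 : cj x (⨆ b, N b) = ⨆ b, cj x (N b) := Subgroup.map_iSup _ _
      rw [e1]
      refine iSup_congr fun c => ?_
      by_cases hcb : b = c
      · subst hcb
        exact mem_normalizer_iff_cj.1 (h.EN b hx.2)
      · exact mem_normalizer_iff_cj.1 (centralizer_le_normalizer _ (h.EC b c hcb hx.2))
    rw [mem_normalizer_iff_cj, ChoiceBase.cj_centralizer, mem_normalizer_iff_cj.1 h2]
  have h2 : s ∈ (((⨆ b, S ⊓ E b) ⊔ centralizer (V : Set G) : Subgroup G) : Set G) := h1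
  rw [coe_mul_of_left_le_normalizer_right _ _ hn] at h2
  obtain ⟨g, hg, c, hc, rfl⟩ := Set.mem_mul.1 h2
  have hgS : g ∈ S := (iSup_le fun b => inf_le_left : (⨆ b, S ⊓ E b) ≤ S) hg
  have hcS : c ∈ S := by
    have h3 := mul_mem (inv_mem hgS) hs.1
    rwa [inv_mul_cancel_left] at h3
  exact mul_mem (mem_sup_left hg) (mem_sup_right ⟨hcS, hc⟩)

/-- **`B ≤ ⟨C_G(N_c : c ≠ b) : b⟩`** -/
theorem BB_le_YY [Finite ι] [Nonempty ι] (hS : IsPGroup 2 S) : BB S l ≤ ⨆ b, YY N b :=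
  NonF.BN_of (R := fun b => S ⊓ E b) (fun b c hbc => inf_le_right.trans (h.EC b c hbc))
    (fun b => inf_le_right.trans (h.EN b)) (B_act h hS)

end blocks

section frame

variable [Finite G] [Finite ι] [Nonempty ι] {S : Sylow 2 G} {V : Subgroup G} {N l E : ι → Subgroup G}

/-- **The frame `NF` from natural blocks.** -/
theorem nf (h : Bls (S : Subgroup G) V N l E) (VS : V ≤ (S : Subgroup G))
    (hB : ∀ x ∈ normalizer (BB (S : Subgroup G) l : Set G), ∀ b, ∃ c, cj x (l b) = l c ∧ cj x (N b) = N c)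
    (cz : centralizer (zc (S : Subgroup G) : Set G) ≤ normalizer ((⨆ b, l b : Subgroup G) : Set G))
    (par : ∀ P : Subgroup G, IsParS (S : Subgroup G) P → ∀ x ∈ P, ∀ b, ∃ c, cj x (N b) = N c)
    (wc : ∀ g ∈ normalizer (V : Set G), cj g (BB (S : Subgroup G) l) ≤ (S : Subgroup G) →
      cj g (BB (S : Subgroup G) l) = BB (S : Subgroup G) l) : NF S N l (BB (S : Subgroup G) l) where
  eq := rfl
  lN := lN h
  lS := fun b => (lN h b).trans ((NV h b).trans VS)
  lc := fun a b x hx => mem_centralizer_iff.2 fun y hy =>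
    h.com y (NV h b (lN h b hy)) x (NV h a (lN h a hx))
  Ninj := N_inj h
  NB := hB
  cz := cz
  par := par
  wc := fun P hP g hg => wc g (by
    rw [← h.sup]
    exact NonF.norm_ZJ (l := N) (par P hP g hg))
  BN := BB_le_YY h S.isPGroup'

/-- **The field `non` of `TypT`** for `F i ≤ l i`. -/
theorem non (hG : Ctx G) (hF : Full (S : Subgroup G)) (h : Bls (S : Subgroup G) V N l E) (VS : V ≤ (S : Subgroup G))
    (hB : ∀ x ∈ normalizer (BB (S : Subgroup G) l : Set G), ∀ b, ∃ c, cj x (l b) = l c ∧ cj x (N b) = N c)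
    (cz : centralizer (zc (S : Subgroup G) : Set G) ≤ normalizer ((⨆ b, l b : Subgroup G) : Set G))
    (par : ∀ P : Subgroup G, IsParS (S : Subgroup G) P → ∀ x ∈ P, ∀ b, ∃ c, cj x (N b) = N c)
    (wc : ∀ g ∈ normalizer (V : Set G), cj g (BB (S : Subgroup G) l) ≤ (S : Subgroup G) →
      cj g (BB (S : Subgroup G) l) = BB (S : Subgroup G) l)
    {F : ι → Subgroup G} (hFl : ∀ i, F i ≤ l i) (U : Subgroup G) (hU2 : IsPGroup 2 U)
    (hU : ∀ j, YY F j ≤ normalizer (U : Set G)) : U = ⊥ :=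
  (nf h VS hB cz par wc).non hG hF hFl U hU2 hU

/-- **The field `non` of `TypT`** for `F i = C_{l i}(T)`. -/
theorem non_FF (hG : Ctx G) (hF : Full (S : Subgroup G)) (h : Bls (S : Subgroup G) V N l E)
    (VS : V ≤ (S : Subgroup G))
    (hB : ∀ x ∈ normalizer (BB (S : Subgroup G) l : Set G), ∀ b, ∃ c, cj x (l b) = l c ∧ cj x (N b) = N c)
    (cz : centralizer (zc (S : Subgroup G) : Set G) ≤ normalizer ((⨆ b, l b : Subgroup G) : Set G))
    (par : ∀ P : Subgroup G, IsParS (S : Subgroup G) P → ∀ x ∈ P, ∀ b, ∃ c, cj x (N b) = N c)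
    (wc : ∀ g ∈ normalizer (V : Set G), cj g (BB (S : Subgroup G) l) ≤ (S : Subgroup G) →
      cj g (BB (S : Subgroup G) l) = BB (S : Subgroup G) l) :
    ∀ U : Subgroup G, IsPGroup 2 U → (∀ j, YY (TBlk.FF (S : Subgroup G) N l) j ≤ normalizer (U : Set G)) → U = ⊥ :=
  non hG hF h VS hB cz par wc fun _ => inf_le_left

end frame

end Cfsg.Agent.Omega.NOThreeL.RWide.NonBls

end

section


/-!
# `G₁ = ⟨C_G(R_a : a ≠ b) : b⟩` is nonlocal (#25652, #24915 (B4))

`R b` the lines of the blocks `V b`, `E b` the block groups (`E b` centralises `V a`, `a ≠ b`).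

* `mem_norm_of_perm`, `mem_norm_of_twist` : who permutes the `R b` (up to an element of `G₁`) normalises `G₁`;
* `exists_twist` : one element of `⟨E b⟩` moves all given lines to the `R b`;
* `NLn S R V E` : `C_G(Z)` permutes the `R b`, the `P ∈ P*(S)` permute the `V b`, `E b` moves every line
  `(R a)^x ≤ V b` to `R b`;
* `NLn.eq_bot` : `G₁` normalises no 2-group `≠ 1`; `NLn.non` : the field `non` of `TypT`, `Typed`, `TypedM` for `F i ≤ R i`.
-/

set_option autoImplicit false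
set_option linter.unusedSectionVars false

namespace Cfsg.Agent.Omega.NOThreeL.RWide.NonLines

open Subgroup Cfsg Cfsg.Agent.ZN Cfsg.Agent.Omega.MinPar Cfsg.Agent.Omega.Frame Cfsg.Agent.Omega.FrameNOFF
open Cfsg.Agent.ZN.ChoiceBase (cj cj_mono cj_inf cj_centralizer cj_eq_of_mem_normalizer mem_cj mem_normalizer_iff_cj
  cj_cj_inv cj_inv_cj cj_cj cj_one)

universe u v

variable {G : Type u} [Group G]

section basic

variable {ι : Type v}

theorem YY_eq (Z : ι → Subgroup G) (j : ι) :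
    YY Z j = centralizer ((⨆ (l) (_ : l ≠ j), Z l : Subgroup G) : Set G) := by
  apply le_antisymm
  · refine le_centralizer_iff.1 (iSup₂_le fun l hl => ?_)
    exact le_centralizer_iff.1 (YY_le_cent hl)
  · refine le_YY fun l hl => centralizer_le ?_
    exact_mod_cast le_iSup₂ (f := fun l (_ : l ≠ j) => Z l) l hl

theorem GZ_eq (Z : ι → Subgroup G) : GZ Z = ⨆ j, YY Z j := by
  rw [GZ]
  exact iSup_congr fun j => (YY_eq Z j).symm

/-- Whoever permutes the lines normalises `G₁`. -/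
theorem mem_norm_of_perm [Finite G] [Finite ι] {R : ι → Subgroup G} (hinj : Function.Injective R) {x : G}
    (hx : ∀ b, ∃ c, cj x (R b) = R c) : x ∈ normalizer ((⨆ j, YY R j : Subgroup G) : Set G) := by
  rw [← GZ_eq]
  exact mem_normalizer_GZ hinj hx

/-- Whoever permutes the lines up to an element of `G₁` normalises `G₁`. -/
theorem mem_norm_of_twist [Finite G] [Finite ι] {R : ι → Subgroup G} (hinj : Function.Injective R) {h x : G}
    (hh : h ∈ ⨆ j, YY R j) (hx : ∀ b, ∃ c, cj (h * x) (R b) = R c) :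
    x ∈ normalizer ((⨆ j, YY R j : Subgroup G) : Set G) := by
  have h1 := mul_mem (inv_mem (Subgroup.le_normalizer hh)) (mem_norm_of_perm hinj hx)
  rwa [inv_mul_cancel_left] at h1

theorem cj_of_cent {g : G} {A B : Subgroup G} (hg : g ∈ centralizer (B : Set G)) (hA : A ≤ B) : cj g A = A :=
  cj_eq_of_mem_normalizer (centralizer_le_normalizer _ (centralizer_le hA hg))

/-- One element of `⟨E b⟩` moves all the given lines. -/
theorem exists_twist [Finite ι] {V E K R : ι → Subgroup G} (hEc : ∀ a b, a ≠ b → E b ≤ centralizer (V a : Set G))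
    (KV : ∀ b, K b ≤ V b) (RV : ∀ b, R b ≤ V b) (hl : ∀ b, ∃ h ∈ E b, cj h (K b) = R b) :
    ∃ h ∈ ⨆ b, E b, ∀ b, cj h (K b) = R b := by
  classical
  have := Fintype.ofFinite ι
  choose g hg hgK using hl
  have key : ∀ s : Finset ι, ∃ h ∈ ⨆ b, E b, (∀ b ∈ s, cj h (K b) = R b) ∧ ∀ b, b ∉ s → h ∈ centralizer (V b : Set G) := by
    intro s
    induction s using Finset.induction_on with
    | empty => exact ⟨1, one_mem _, by simp, fun b _ => one_mem _⟩
    | insert b s hb ih =>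
      obtain ⟨h, hh, h1, h2⟩ := ih
      refine ⟨h * g b, mul_mem hh ((le_iSup E b) (hg b)), fun a ha => ?_, fun a ha => ?_⟩
      · rw [← cj_cj]
        rcases Finset.mem_insert.1 ha with rfl | ha
        · rw [hgK]
          exact cj_of_cent (h2 a hb) (RV a)
        · have hab : a ≠ b := fun e => hb (e ▸ ha)
          rw [cj_of_cent (hEc a b hab (hg b)) (KV a)]
          exact h1 a ha
      · rw [Finset.mem_insert, not_or] at ha
        exact mul_mem (h2 a ha.2) (hEc a b ha.1 (hg b))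
  obtain ⟨h, hh, h1, -⟩ := key Finset.univ
  exact ⟨h, hh, fun b => h1 b (Finset.mem_univ b)⟩

end basic

/-- **`G₀` normalises no 2-group `≠ 1`**, for any `G₀ ≥ C_G(Z_J)` normalised by `C_G(Z)` and the `P ∈ P*(S)`. -/
theorem eq_bot_of [Finite G] {S : Sylow 2 G} (hG : Ctx G) (hF : Full (S : Subgroup G)) {ZJ G0 U : Subgroup G}
    (hSZ : (S : Subgroup G) ≤ normalizer (ZJ : Set G)) (hZS : ZJ ≤ (S : Subgroup G))
    (hZZ : ZJ ≤ centralizer (ZJ : Set G)) (hcG : centralizer (ZJ : Set G) ≤ G0)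
    (hC : CZ (S : Subgroup G) ≤ normalizer (G0 : Set G))
    (hP : ∀ P : Subgroup G, IsParS (S : Subgroup G) P → P ≤ normalizer (G0 : Set G)) (hU2 : IsPGroup 2 U)
    (hU : G0 ≤ normalizer (U : Set G)) : U = ⊥ := by
  have hf : Fact (Nat.Prime 2) := ⟨Nat.prime_two⟩
  by_contra hU1
  have ho : o2 G0 = ⊥ := by
    refine FrameNOFF.eq_bot_of_norm hG S hF (MinSimple.VModule.o2_isPGroup _) (fun P hP' => ?_) ?_
    · exact (hP P hP').trans (ZN.normalizer_le_normalizer_o2 _)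
    · exact hC.trans (ZN.normalizer_le_normalizer_o2 _)
  have hnc : normalizer (ZJ : Set G) ≤ normalizer ((centralizer (ZJ : Set G) : Subgroup G) : Set G) := by
    intro y hy
    apply mem_normalizer_iff_cj.2
    rw [cj_centralizer, cj_eq_of_mem_normalizer hy]
  have hsyl := EndFive.syl_inf (S := S) (hSZ.trans hnc)
  set B : Subgroup G := (S : Subgroup G) ⊓ centralizer (ZJ : Set G) with hB
  have hBC : B ≤ centralizer (ZJ : Set G) := inf_le_right
  have hBG : B ≤ G0 := hBC.trans hcG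
  have hB2 : IsPGroup 2 B := S.isPGroup'.to_le inf_le_left
  -- `C_U(B) ≠ 1`
  have hne := PLocal.OffenderStep.inf_centralizer_ne_bot U B hU2 hB2 (hBG.trans hU) hU1
  obtain ⟨⟨u, hu, huC⟩, hu1'⟩ := (Subgroup.ne_bot_iff_exists_ne_one).1 hne
  have hu1 : u ≠ 1 := fun h0 => hu1' (Subtype.ext h0)
  have hT2 : IsPGroup 2 ↥(B ⊔ zpowers u) := by
    refine IsPGroup.to_sup_of_normal_left' hB2 (hU2.to_le (zpowers_le.2 hu)) ?_
    exact zpowers_le.2 (centralizer_le_normalizer _ huC)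
  have hZB : ZJ ≤ B := le_inf hZS hZZ
  have hTB : B ⊔ zpowers u ≤ B := (hsyl.2.2 _
    (sup_le hBC (zpowers_le.2 (centralizer_le hZB huC))) hT2 le_sup_left).le
  have huG : u ∈ G0 := hBG (hTB ((le_sup_right : zpowers u ≤ _) (mem_zpowers u)))
  have hle : U ⊓ G0 ≤ o2 G0 := by
    refine MinSimple.VModule.le_o2 inf_le_right (hU2.to_le inf_le_left) ?_
    intro g hg
    exact EndFive.mem_norm_inf (hU hg) (Subgroup.le_normalizer hg)
  rw [ho] at hle
  exact hu1 ((mem_bot).1 (hle ⟨hu, huG⟩))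

/-- The situation: the lines `R b` of the blocks `V b` with block groups `E b`. -/
structure NLn {ι : Type v} (S : Sylow 2 G) (R V E : ι → Subgroup G) : Prop where
  RV : ∀ b, R b ≤ V b
  RS : ∀ b, R b ≤ (S : Subgroup G)
  Rc : ∀ a b, R a ≤ centralizer (R b : Set G)
  Rinj : Function.Injective R
  Vinj : Function.Injective V
  /-- `E b` centralises the other blocks -/
  EV : ∀ a b, a ≠ b → E b ≤ centralizer (V a : Set G)
  /-- `C_G(Z)` permutes the lines -/
  C : ∀ x ∈ CZ (S : Subgroup G), ∀ b, ∃ c, cj x (R b) = R c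
  /-- the `P ∈ P*(S)` permute the blocks -/
  P : ∀ P : Subgroup G, IsParS (S : Subgroup G) P → ∀ x ∈ P, ∀ a, ∃ b, cj x (V a) = V b
  /-- `E b` moves every line of `V b` to `R b` -/
  line : ∀ P : Subgroup G, IsParS (S : Subgroup G) P → ∀ x ∈ P, ∀ a b, cj x (V a) = V b →
    ∃ h ∈ E b, cj h (cj x (R a)) = R b

namespace NLn

variable {ι : Type v} [Finite ι] {S : Sylow 2 G} {R V E : ι → Subgroup G}

/-- an element which permutes the blocks: `E b` transitive on the lines: it normalises `G₁` -/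
theorem mem_norm [Finite G] (h : NLn S R V E) {x : G} (hx : ∀ a, ∃ b, cj x (V a) = V b)
    (hl : ∀ a b, cj x (V a) = V b → ∃ g ∈ E b, cj g (cj x (R a)) = R b) :
    x ∈ normalizer ((⨆ j, YY R j : Subgroup G) : Set G) := by
  choose σ hσ using hx
  have hinj : Function.Injective σ := by
    intro a b hab
    apply h.Vinj
    have h1 : cj x⁻¹ (cj x (V a)) = cj x⁻¹ (cj x (V b)) := by rw [hσ, hσ, hab]
    rwa [cj_inv_cj, cj_inv_cj] at h1
  have hsurj : Function.Surjective σ := Finite.surjective_of_injective hinj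
  choose τ hτ using hsurj
  obtain ⟨g, hg, hgK⟩ := exists_twist (K := fun b => cj x (R (τ b))) h.EV
    (fun b => by
      have h1 := cj_mono x (h.RV (τ b))
      rwa [hσ, hτ] at h1) h.RV
    (fun b => hl (τ b) b (by rw [hσ, hτ]))
  have hgG : g ∈ ⨆ j, YY R j := by
    refine (iSup_le fun b => ?_ : (⨆ b, E b) ≤ ⨆ j, YY R j) hg
    refine (le_YY fun l hl => ?_ : E b ≤ YY R b).trans (le_iSup (YY R) b)
    exact (h.EV l b hl).trans (centralizer_le (h.RV l))
  refine mem_norm_of_twist h.Rinj hgG fun a => ⟨σ a, ?_⟩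
  have h1 := hgK (σ a)
  have h2 : τ (σ a) = a := hinj (hτ _)
  rw [← cj_cj]
  simpa only [h2] using h1

variable [Finite G]

/-- **`G₁` normalises no 2-group `≠ 1`.** -/
theorem eq_bot [Nonempty ι] (hG : Ctx G) (hF : Full (S : Subgroup G)) (h : NLn S R V E) {U : Subgroup G}
    (hU2 : IsPGroup 2 U) (hU : (⨆ j, YY R j) ≤ normalizer (U : Set G)) : U = ⊥ := by
  have hZZ : (⨆ i, R i) ≤ centralizer ((⨆ i, R i : Subgroup G) : Set G) := by
    refine iSup_le fun a => ?_
    refine le_centralizer_iff.1 (iSup_le fun b => ?_)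
    exact h.Rc b a
  have hSZ : (S : Subgroup G) ≤ normalizer ((⨆ i, R i : Subgroup G) : Set G) := by
    intro s hs
    refine ChoiceBase.mem_normalizer_of_cj_le ?_
    have e : cj s (⨆ i, R i) = ⨆ i, cj s (R i) := Subgroup.map_iSup _ _
    rw [e]
    refine iSup_le fun i => ?_
    obtain ⟨c, hc⟩ := h.C s (le_CZ S hs) i
    rw [hc]
    exact le_iSup R c
  refine eq_bot_of hG hF (ZJ := ⨆ i, R i) (G0 := ⨆ j, YY R j) hSZ (iSup_le h.RS) hZZ ?_ (fun x hx => ?_)
    (fun P hP x hx => ?_) hU2 hU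
  · obtain ⟨i⟩ := ‹Nonempty ι›
    exact (le_YY fun l _ => centralizer_le (by exact_mod_cast le_iSup R l)).trans (le_iSup (YY R) i)
  · exact mem_norm_of_perm h.Rinj (h.C x hx)
  · exact h.mem_norm (h.P P hP x hx) (h.line P hP x hx)

/-- **The field `non` of `TypT`, `Typed`, `TypedM`** for any `F i ≤ R i`. -/
theorem non [Nonempty ι] (hG : Ctx G) (hF : Full (S : Subgroup G)) (h : NLn S R V E) {F : ι → Subgroup G}
    (hFR : ∀ i, F i ≤ R i) (U : Subgroup G) (hU2 : IsPGroup 2 U)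
    (hU : ∀ j, YY F j ≤ normalizer (U : Set G)) : U = ⊥ :=
  h.eq_bot hG hF hU2 (iSup_le fun j =>
    (le_YY fun l hl => (YY_le_cent hl).trans (centralizer_le (hFR l))).trans (hU j))

/-- The same for coarser index sets: `F i ≤ ⨆ R b` over the blocks `b` of the class `i = p b`. -/
theorem non' [Nonempty ι] (hG : Ctx G) (hF : Full (S : Subgroup G)) (h : NLn S R V E) {κ : Type*} (p : ι → κ)
    {F : κ → Subgroup G} (hFR : ∀ i, F i ≤ ⨆ (b) (_ : p b = i), R b) (U : Subgroup G) (hU2 : IsPGroup 2 U)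
    (hU : ∀ j, YY F j ≤ normalizer (U : Set G)) : U = ⊥ := by
  refine h.eq_bot hG hF hU2 (iSup_le fun j => (le_YY fun l hl => ?_).trans (hU (p j)))
  refine le_trans ?_ (centralizer_le (hFR l))
  refine le_centralizer_iff.1 (iSup₂_le fun b hb => le_centralizer_iff.1 (YY_le_cent ?_))
  rintro rfl
  exact hl hb.symm

end NLn

end Cfsg.Agent.Omega.NOThreeL.RWide.NonLines

end
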