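import Cfsg.Agent.Mrg.Omega.NOThreeL.Merge
import Cfsg.Agent.Mrg.Omega.NO3b.Chain.Group
import Cfsg.Agent.ZN.ChoiceBase
import Mathlib

section


/-!
# `N_G(B)` permutes the lines (helper453 #24836 (3))

`B ≤ S` normalised by `S` (`B = C_S(⨆ l)`), `l b = C_{N b}(B)`. If `C_G(Z)` permutes the lines `l b` (PERM+), and `M₀`
and `N_G(S) ∩ N_G(B)` permute the blocks `N b`, then `N_G(B)` permutes the lines: `N_G(B) ∈ L(S)` is generated by
`N_G(S) ∩ N_G(B)` and the minimal parabolics `R ≤ N_G(B)` over `S`, and `R ≤ C_G(Z)` or `R ≤ M₀`.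

* `permG l` : the group of the elements which permute the `l b`;
* **`permNB`** ; **`permNB_z`** : `q = 2`, the form of the field `perm` of `EDel.AOF.AO`.
-/

set_option autoImplicit false
set_option linter.unusedSectionVars false

namespace Cfsg.Agent.Omega.NOThreeL.RWide.PermNB

open Subgroup Cfsg Cfsg.Agent.ZN Cfsg.Agent.ZN.ChoiceBase Cfsg.Agent.Omega.MinPar
open Cfsg.Agent.Omega.NOThreeL.Merge (MZ le_MZ)
open Cfsg.Agent.Omega.NO3b.CTwoFF (le_centralizer_of_par)

universe u v

variable {G : Type u} [Group G] [Finite G] {ι : Type v}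

/-- the elements which permute the `l b` -/
def permG (l : ι → Subgroup G) : Subgroup G where
  carrier := {g | ∀ b, ∃ c, cj g (l b) = l c}
  one_mem' := fun b => ⟨b, cj_one _⟩
  mul_mem' := fun {x y} hx hy b => by
    obtain ⟨c, h1⟩ := hy b
    obtain ⟨d, h2⟩ := hx c
    exact ⟨d, by rw [← cj_cj, h1, h2]⟩
  inv_mem' := fun {x} hx b => by
    let f : Set.range l → Set.range l := fun X => ⟨cj x X.1, by
      obtain ⟨a, ha⟩ := X.2
      obtain ⟨c, hc⟩ := hx a
      exact ⟨c, by rw [← hc, ha]⟩⟩
    have hf : Function.Injective f := by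
      intro X Y hXY
      have h1 : cj x X.1 = cj x Y.1 := congrArg Subtype.val hXY
      have h2 : cj x⁻¹ (cj x X.1) = cj x⁻¹ (cj x Y.1) := by rw [h1]
      rw [cj_cj, cj_cj, inv_mul_cancel, cj_one, cj_one] at h2
      exact Subtype.ext h2
    have hs : Function.Surjective f := Finite.surjective_of_injective hf
    obtain ⟨⟨X, c, hc⟩, hX⟩ := hs ⟨l b, b, rfl⟩
    have h1 : cj x X = l b := congrArg Subtype.val hX
    refine ⟨c, ?_⟩
    rw [← h1, cj_cj, inv_mul_cancel, cj_one, hc]

theorem mem_permG {l : ι → Subgroup G} {g : G} : g ∈ permG l ↔ ∀ b, ∃ c, cj g (l b) = l c := Iff.rfl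

/-- `g ∈ N_G(B)` which permutes the blocks permutes the lines -/
theorem perm_inf {B : Subgroup G} {N l : ι → Subgroup G} (lB : ∀ b, l b = N b ⊓ centralizer (B : Set G)) {g : G}
    (hg : g ∈ normalizer (B : Set G)) (hN : ∀ b, ∃ c, cj g (N b) = N c) : ∀ b, ∃ c, cj g (l b) = l c := by
  intro b
  obtain ⟨c, hc⟩ := hN b
  refine ⟨c, ?_⟩
  rw [lB, lB]
  change Subgroup.map _ _ = _
  rw [Subgroup.map_inf_eq _ _ _ (MulAut.conj g).injective]
  change cj g (N b) ⊓ cj g (centralizer (B : Set G)) = _
  rw [hc, cj_centralizer, cj_eq_of_mem_normalizer hg]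

variable (S : Sylow 2 G) {B : Subgroup G} {N l : ι → Subgroup G}

/-- **`N_G(B)` permutes the lines.** -/
theorem permNB (hB : IsPGroup 2 B) (hB1 : B ≠ ⊥) (SB : (S : Subgroup G) ≤ normalizer (B : Set G))
    (permC : ∀ c ∈ centralizer (zc (S : Subgroup G) : Set G), ∀ b, ∃ b', cj c (l b) = l b')
    (permM : ∀ g ∈ MZ (S : Subgroup G), ∀ b, ∃ c, cj g (N b) = N c)
    (permN : ∀ n ∈ normalizer ((S : Subgroup G) : Set G), n ∈ normalizer (B : Set G) → ∀ b, ∃ c, cj n (N b) = N c)
    (lB : ∀ b, l b = N b ⊓ centralizer (B : Set G)) :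
    ∀ g ∈ normalizer (B : Set G), ∀ b, ∃ c, cj g (l b) = l c := by
  have h : normalizer (B : Set G) ≤ permG l := by
    refine (isLoc_normalizer S hB hB1 SB).le_of_forall S ?_ fun P hP hPB => ?_
    · rintro n ⟨h1, h2⟩
      exact mem_permG.2 (perm_inf lB h1 (permN n h2 h1))
    · by_cases hz : P ≤ normalizer (zc (S : Subgroup G) : Set G)
      · exact fun g hg => mem_permG.2 (permC g (le_centralizer_of_par hP hz hg))
      · exact fun g hg => mem_permG.2 (perm_inf lB (hPB hg) (permM g (le_MZ ⟨hP, hz⟩ hg)))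
  exact fun g hg => mem_permG.1 (h hg)

/-- `C_W(B) = ⟨z⟩` for a block `W` of order 4 moved by `B`, `z ∈ C_W(B)`. -/
theorem inf_eq_zpowers {B W : Subgroup G} {z : G} (cardW : Nat.card W = 4) (zW : z ∈ W) (z2 : z ^ 2 = 1) (z1 : z ≠ 1)
    (zB : z ∈ centralizer (B : Set G)) (mv : ¬ B ≤ centralizer (W : Set G)) :
    zpowers z = W ⊓ centralizer (B : Set G) := by
  have hle : zpowers z ≤ W ⊓ centralizer (B : Set G) := (zpowers_le).2 ⟨zW, zB⟩
  have h2 : Nat.card (zpowers z) = 2 := by
    rw [Nat.card_zpowers]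
    exact orderOf_eq_prime z2 z1
  have h3 : Nat.card (W ⊓ centralizer (B : Set G) : Subgroup G) ∣ 4 := cardW ▸ Subgroup.card_dvd_of_le inf_le_left
  have h4 : Nat.card (W ⊓ centralizer (B : Set G) : Subgroup G) ≠ 4 := by
    intro h5
    apply mv
    have h6 : W ⊓ centralizer (B : Set G) = W :=
      Subgroup.eq_of_le_of_card_ge inf_le_left (by rw [h5, cardW])
    have h7 : W ≤ centralizer (B : Set G) := h6 ▸ inf_le_right
    exact Subgroup.le_centralizer_iff.1 h7
  have h5 : 2 ∣ Nat.card (W ⊓ centralizer (B : Set G) : Subgroup G) := h2 ▸ Subgroup.card_dvd_of_le hle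
  have h6 : Nat.card (W ⊓ centralizer (B : Set G) : Subgroup G) = 2 := by
    have h7 : Nat.card (W ⊓ centralizer (B : Set G) : Subgroup G) ≤ 4 := Nat.le_of_dvd (by norm_num) h3
    interval_cases h8 : Nat.card (W ⊓ centralizer (B : Set G) : Subgroup G) <;> omega
  exact Subgroup.eq_of_le_of_card_ge hle (by rw [h6, h2])

/-- **`N_G(B)` permutes the `z b`** (`q = 2`; field `perm` of `EDel.AOF.AO`). -/
theorem permNB_z {z : ι → G} (hB : IsPGroup 2 B) (hB1 : B ≠ ⊥) (SB : (S : Subgroup G) ≤ normalizer (B : Set G))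
    (permC : ∀ c ∈ centralizer (zc (S : Subgroup G) : Set G), ∀ b, ∃ b', c * z b * c⁻¹ = z b')
    (permM : ∀ g ∈ MZ (S : Subgroup G), ∀ b, ∃ c, cj g (N b) = N c)
    (permN : ∀ n ∈ normalizer ((S : Subgroup G) : Set G), n ∈ normalizer (B : Set G) → ∀ b, ∃ c, cj n (N b) = N c)
    (cardN : ∀ b, Nat.card (N b) = 4) (zN : ∀ b, z b ∈ N b) (z2 : ∀ b, z b ^ 2 = 1) (z1 : ∀ b, z b ≠ 1)
    (zB : ∀ b, z b ∈ centralizer (B : Set G)) (mv : ∀ b, ¬ B ≤ centralizer (N b : Set G)) :
    ∀ g ∈ normalizer (B : Set G), ∀ b, ∃ c, g * z b * g⁻¹ = z c := by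
  have hcj : ∀ (g x : G), cj g (zpowers x) = zpowers (g * x * g⁻¹) := by
    intro g x
    change Subgroup.map _ _ = _
    rw [MonoidHom.map_zpowers]
    rfl
  have key := permNB S (N := N) (l := fun b => zpowers (z b)) hB hB1 SB
    (fun c hc b => by
      obtain ⟨b', h1⟩ := permC c hc b
      exact ⟨b', by rw [hcj, h1]⟩)
    permM permN fun b => inf_eq_zpowers (cardN b) (zN b) (z2 b) (z1 b) (zB b) (mv b)
  intro g hg b
  obtain ⟨c, hc⟩ := key g hg b
  refine ⟨c, ?_⟩
  rw [hcj] at hc
  have h1 : g * z b * g⁻¹ ∈ zpowers (z c) := hc ▸ mem_zpowers _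
  have h2 : g * z b * g⁻¹ ≠ 1 := by
    intro h3
    apply z1 b
    have h4 : z b = g⁻¹ * (g * z b * g⁻¹) * g := by group
    rw [h4, h3]
    group
  obtain ⟨k, hk⟩ := mem_zpowers_iff.1 h1
  rw [← hk]
  rcases Int.even_or_odd' k with ⟨m, rfl | rfl⟩
  · exfalso
    apply h2
    rw [← hk, zpow_mul, show (z c) ^ (2 : ℤ) = 1 from by exact_mod_cast z2 c, one_zpow]
  · rw [zpow_add, zpow_mul, show (z c) ^ (2 : ℤ) = 1 from by exact_mod_cast z2 c, one_zpow, one_mul, zpow_one]

end Cfsg.Agent.Omega.NOThreeL.RWide.PermNB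

end

section


/-!
# Elementary abelian `2`-groups of upper triangular semilinear maps of `F²` (pure; for `wc` of #26055)

* `card_fix_sq` : `|Fix σ|² ≤ |F|` for `σ ≠ 1`; `card_sol` : `|{x : α σ x = β x}| ≤ |Fix σ|`;
* **`semi_cnt`** : `A` acts on `F²` by maps `v ↦ (a σ v₀ + b σ v₁, d σ v₁)` of square `1` ⟹
  `|A : C_A(F²)| |C_{F²}(A)| ≤ |F|²`, with equality only if `A` centralises the line `v₁ = 0`.
-/

set_option autoImplicit false
set_option linter.unusedSectionVars false

namespace Cfsg.Agent.Omega.NOThreeL.RWide.SemiCnt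

variable {F : Type*} [Field F] [Finite F]

theorem card_fix_sq (σ : F ≃+* F) (hσ : ∃ t, σ t ≠ t) :
    Nat.card {x : F // σ x = x} * Nat.card {x : F // σ x = x} ≤ Nat.card F := by
  obtain ⟨t, ht⟩ := hσ
  rw [← Nat.card_prod]
  refine Nat.card_le_card_of_injective (fun p : {x : F // σ x = x} × {x : F // σ x = x} => p.1.1 + p.2.1 * t) ?_
  rintro ⟨⟨x, hx⟩, ⟨y, hy⟩⟩ ⟨⟨x', hx'⟩, ⟨y', hy'⟩⟩ h
  simp only at h
  by_cases hyy : y = y'
  · subst hyy
    have : x = x' := add_right_cancel h
    subst this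
    rfl
  · exfalso
    apply ht
    have h1 : (y - y') * t = x' - x := by linear_combination h
    have h2 : y - y' ≠ 0 := sub_ne_zero.mpr hyy
    have h3 : t = (x' - x) / (y - y') := by
      rw [eq_div_iff h2, mul_comm]; exact h1
    rw [h3, map_div₀, map_sub, map_sub, hx, hx', hy, hy']

theorem two_le_fix (σ : F ≃+* F) : 2 ≤ Nat.card {x : F // σ x = x} := by
  have h : Nat.card (Fin 2) ≤ Nat.card {x : F // σ x = x} := by
    refine Nat.card_le_card_of_injective (fun i : Fin 2 =>
      (if i = 0 then ⟨0, map_zero σ⟩ else ⟨1, map_one σ⟩ : {x : F // σ x = x})) ?_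
    intro i j h
    fin_cases i <;> fin_cases j <;> simp_all
  simpa using h

theorem card_sol (σ : F ≃+* F) (α β : F) (hα : α ≠ 0) :
    Nat.card {x : F // α * σ x = β * x} ≤ Nat.card {x : F // σ x = x} := by
  by_cases h0 : ∃ x₁ : F, x₁ ≠ 0 ∧ α * σ x₁ = β * x₁
  · obtain ⟨x₁, h1, h2⟩ := h0
    have h3 : σ x₁ ≠ 0 := fun h => h1 ((map_eq_zero σ).mp h)
    have hβ : β ≠ 0 := by
      rintro rfl
      rw [zero_mul] at h2
      exact mul_ne_zero hα h3 h2
    refine Nat.card_le_card_of_injective (fun x => ⟨x.1 / x₁, ?_⟩) ?_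
    · obtain ⟨x, hx⟩ := x
      simp only
      rw [map_div₀, div_eq_div_iff h3 h1]
      have h4 : α * (σ x * x₁) = α * (x * σ x₁) := by
        calc α * (σ x * x₁) = α * σ x * x₁ := by ring
          _ = β * x * x₁ := by rw [hx]
          _ = x * (β * x₁) := by ring
          _ = x * (α * σ x₁) := by rw [h2]
          _ = α * (x * σ x₁) := by ring
      exact mul_left_cancel₀ hα h4
    · rintro ⟨x, hx⟩ ⟨y, hy⟩ h
      simp only [Subtype.mk.injEq] at h
      exact Subtype.ext ((div_left_inj' h1).mp h)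
  · push Not at h0
    have h1 : ∀ x : {x : F // α * σ x = β * x}, x = ⟨0, by simp⟩ := by
      rintro ⟨x, hx⟩
      apply Subtype.ext
      by_contra hne
      exact h0 x hne hx
    have h2 : Nat.card {x : F // α * σ x = β * x} ≤ 1 := by
      have : Subsingleton {x : F // α * σ x = β * x} := ⟨fun x y => (h1 x).trans (h1 y).symm⟩
      exact Finite.card_le_one_iff_subsingleton.mpr this
    exact h2.trans ((by norm_num : 1 ≤ 2).trans (two_le_fix σ))

/-- upper triangular semilinear -/
def Sm (f : (Fin 2 → F) → (Fin 2 → F)) (σ : F ≃+* F) (a b d : F) : Prop :=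
  ∀ v, f v = ![a * σ (v 0) + b * σ (v 1), d * σ (v 1)]

variable [CharP F 2]

theorem sq_one {a : F} (h : a * a = 1) : a = 1 := by
  have h1 : (a - 1) * (a - 1) = 0 := by
    have h2 : (2 : F) = 0 := CharP.cast_eq_zero F 2
    linear_combination h + (1 - a) * h2
  have h3 := mul_self_eq_zero.mp h1
  exact sub_eq_zero.mp h3

theorem Sm.inv {f : (Fin 2 → F) → (Fin 2 → F)} {σ : F ≃+* F} {a b d : F} (h : Sm f σ a b d)
    (h2 : ∀ v, f (f v) = v) : a ≠ 0 ∧ d ≠ 0 ∧ ∀ x, σ (σ x) = x := by
  have h3 : ∀ x, a * σ (a * σ x) = x := fun x => by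
    have := congrFun (h2 ![x, 0]) 0
    rw [h, h] at this
    simpa using this
  have ha : a * σ a = 1 := by simpa using h3 1
  have hd : d * σ d = 1 := by
    have := congrFun (h2 ![0, 1]) 1
    rw [h, h] at this
    simpa using this
  refine ⟨left_ne_zero_of_mul_eq_one ha, left_ne_zero_of_mul_eq_one hd, fun x => ?_⟩
  have := h3 x
  rw [map_mul, ← mul_assoc, ha, one_mul] at this
  exact this

theorem Sm.lin {f : (Fin 2 → F) → (Fin 2 → F)} {σ : F ≃+* F} {a b d : F} (h : Sm f σ a b d)
    (h2 : ∀ v, f (f v) = v) (hσ : ∀ x, σ x = x) : ∀ v, f v = ![v 0 + b * v 1, v 1] := by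
  have h3 : a * a = 1 := by
    have := congrFun (h2 ![1, 0]) 0
    rw [h, h] at this
    simpa [hσ] using this
  have h4 : d * d = 1 := by
    have := congrFun (h2 ![0, 1]) 1
    rw [h, h] at this
    simpa [hσ] using this
  intro v
  rw [h v, sq_one h3, sq_one h4]
  simp [hσ]

/-- in the Galois group of a finite field there is at most one involution -/
theorem inv_unique {σ τ : F ≃+* F} (h1 : ∀ x, σ (σ x) = x) (h2 : ∀ x, τ (τ x) = x) (h3 : ∃ x, σ x ≠ x)
    (h4 : ∃ x, τ x ≠ x) : ∀ x, σ x = τ x := by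
  classical
  have := Fintype.ofFinite F
  let _ : Algebra (ZMod 2) F := ZMod.algebra F 2
  let f : (F ≃+* F) → (F ≃ₐ[ZMod 2] F) := fun s => AlgEquiv.ofRingEquiv (f := s) (fun r => by
    have : Subsingleton (ZMod 2 →+* F) := inferInstance
    have h := congrArg (fun g : ZMod 2 →+* F => g r)
      (Subsingleton.elim ((s : F →+* F).comp (algebraMap (ZMod 2) F)) (algebraMap (ZMod 2) F))
    simpa using h)
  have hf : ∀ s x, f s x = s x := fun s x => rfl
  have hcyc : IsCyclic (F ≃ₐ[ZMod 2] F) := inferInstance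
  have hc := IsCyclic.card_pow_eq_one_le (α := F ≃ₐ[ZMod 2] F) (n := 2) (by norm_num)
  by_contra hne
  push Not at hne
  obtain ⟨x, hx⟩ := hne
  have hs : f σ ≠ 1 := fun h => by
    obtain ⟨y, hy⟩ := h3
    exact hy (by rw [← hf, h]; rfl)
  have ht : f τ ≠ 1 := fun h => by
    obtain ⟨y, hy⟩ := h4
    exact hy (by rw [← hf, h]; rfl)
  have hst : f σ ≠ f τ := fun h => hx (by rw [← hf, h]; rfl)
  have h5 : ({1, f σ, f τ} : Finset (F ≃ₐ[ZMod 2] F)) ⊆ Finset.univ.filter fun a => a ^ 2 = 1 := by
    intro g hg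
    simp only [Finset.mem_insert, Finset.mem_singleton] at hg
    simp only [Finset.mem_filter, Finset.mem_univ, true_and]
    rcases hg with rfl | rfl | rfl
    · simp
    · apply AlgEquiv.ext
      intro y
      rw [pow_two]
      exact h1 y
    · apply AlgEquiv.ext
      intro y
      rw [pow_two]
      exact h2 y
  have h6 := Finset.card_le_card h5
  rw [Finset.card_insert_of_notMem (by simp [Ne.symm hs, Ne.symm ht]), Finset.card_pair hst] at h6
  omega

section cnt

variable {A : Type*} [Group A] (ρ : A →* Equiv.Perm (Fin 2 → F))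

/-- the root parameters in the image of `A` -/
def Bs : Set F := {b | ∃ g, ∀ v, ρ g v = ![v 0 + b * v 1, v 1]}

/-- **The count on one block.** -/
theorem semi_cnt (hsm : ∀ g, ∃ σ a b d, Sm (ρ g) σ a b d) (h2 : ∀ g v, ρ g (ρ g v) = v) :
    Nat.card ρ.range * Nat.card {v : Fin 2 → F // ∀ g, ρ g v = v} ≤ Nat.card F ^ 2 ∧
      (Nat.card ρ.range * Nat.card {v : Fin 2 → F // ∀ g, ρ g v = v} = Nat.card F ^ 2 →
        ∀ g x, ρ g ![x, 0] = ![x, 0]) := by
  classical
  choose σ a b d hS using hsm
  have hroot : ∀ g, (∀ x, σ g x = x) → ∀ v, ρ g v = ![v 0 + b g * v 1, v 1] := fun g hg =>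
    (hS g).lin (h2 g) hg
  by_cases hlin : ∀ g x, σ g x = x
  · -- all elements are root elements
    have hx : ∀ g x, ρ g ![x, 0] = ![x, 0] := fun g x => by rw [hroot g (hlin g)]; simp
    refine ⟨?_, fun _ => hx⟩
    have h1 : Nat.card ρ.range ≤ Nat.card F := by
      refine Nat.card_le_card_of_injective (fun r : ρ.range => (r.1 ![0, 1]) 0) ?_
      rintro ⟨r, g, rfl⟩ ⟨r', g', rfl⟩ h
      simp only [hroot g (hlin g), hroot g' (hlin g')] at h
      apply Subtype.ext
      apply Equiv.ext
      intro v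
      have hb : b g = b g' := by simpa using h
      change ρ g v = ρ g' v
      rw [hroot g (hlin g), hroot g' (hlin g'), hb]
    by_cases hb : ∀ g, b g = 0
    · have h3 : Nat.card ρ.range ≤ 1 := by
        have : Subsingleton ρ.range := ⟨by
          rintro ⟨r, g, rfl⟩ ⟨r', g', rfl⟩
          apply Subtype.ext
          apply Equiv.ext
          intro v
          change ρ g v = ρ g' v
          rw [hroot g (hlin g), hroot g' (hlin g'), hb g, hb g']⟩
        exact Finite.card_le_one_iff_subsingleton.mpr this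
      have h4 : Nat.card {v : Fin 2 → F // ∀ g, ρ g v = v} ≤ Nat.card (Fin 2 → F) :=
        Nat.card_le_card_of_injective Subtype.val Subtype.val_injective
      rw [Nat.card_fun, Nat.card_eq_fintype_card (α := Fin 2), Fintype.card_fin] at h4
      calc _ ≤ 1 * Nat.card F ^ 2 := Nat.mul_le_mul h3 h4
        _ = _ := one_mul _
    · push Not at hb
      obtain ⟨g₀, hg₀⟩ := hb
      have h4 : Nat.card {v : Fin 2 → F // ∀ g, ρ g v = v} ≤ Nat.card F := by
        refine Nat.card_le_card_of_injective (fun v => v.1 0) ?_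
        have h5 : ∀ v : {v : Fin 2 → F // ∀ g, ρ g v = v}, v.1 1 = 0 := by
          rintro ⟨v, hv⟩
          have := congrFun (hv g₀) 0
          rw [hroot g₀ (hlin g₀)] at this
          simp only [Matrix.cons_val_zero, add_eq_left, mul_eq_zero] at this
          exact this.resolve_left hg₀
        intro v w h
        apply Subtype.ext
        funext i
        fin_cases i
        · exact h
        · simp [h5 v, h5 w]
      calc _ ≤ Nat.card F * Nat.card F := Nat.mul_le_mul h1 h4
        _ = _ := (pow_two _).symm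
  · -- some `τ` is not linear
    push Not at hlin
    obtain ⟨τ, t, ht⟩ := hlin
    obtain ⟨ha, hd, hσ2⟩ := (hS τ).inv (h2 τ)
    set σ₀ := σ τ with hσ₀
    set f := Nat.card {x : F // σ₀ x = x} with hf
    have hf2 : f * f ≤ Nat.card F := card_fix_sq σ₀ ⟨t, ht⟩
    have hf3 : 2 ≤ f := two_le_fix σ₀
    have hcomm : ∀ g h v, ρ g (ρ h v) = ρ h (ρ g v) := by
      intro g h v
      have h3 := h2 (g * h) v
      rw [map_mul, Equiv.Perm.mul_apply, Equiv.Perm.mul_apply] at h3
      have h4 : ρ h (ρ g (ρ h v)) = ρ g v := by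
        have := congrArg (ρ g) h3
        rw [h2 g] at this
        exact this
      have h5 := congrArg (ρ h) h4
      rw [h2 h] at h5
      exact h5
    -- for all `g` : `g` or `g τ` is a root element
    have hor : ∀ g, (∀ x, σ g x = x) ∨ ∀ x, σ (g * τ) x = x := by
      intro g
      by_cases hg : ∀ x, σ g x = x
      · exact Or.inl hg
      · right
        push Not at hg
        have h3 := inv_unique ((hS g).inv (h2 g)).2.2 hσ2 hg ⟨t, ht⟩
        have h4 : ∀ x, a (g * τ) * σ (g * τ) x = a g * σ₀ (a τ) * x := by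
          intro x
          have h5 := congrFun (hS (g * τ) ![x, 0]) 0
          rw [map_mul, Equiv.Perm.mul_apply, hS τ, hS g] at h5
          simp only [Matrix.cons_val_zero, Matrix.cons_val_one, map_zero, mul_zero, add_zero] at h5
          rw [← h5, h3, map_mul, ← hσ₀, hσ2, mul_assoc]
        have h5 : a (g * τ) = a g * σ₀ (a τ) := by
          have := h4 1
          simpa using this
        intro x
        have h6 := h4 x
        rw [h5] at h6
        have h7 : a g * σ₀ (a τ) ≠ 0 :=
          mul_ne_zero ((hS g).inv (h2 g)).1 (fun h => ha ((map_eq_zero σ₀).mp h))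
        exact mul_left_cancel₀ h7 h6
    -- the image has order at most `2 |Bs|`
    have hcard : Nat.card ρ.range ≤ 2 * Nat.card (Bs ρ) := by
      have h3 : Nat.card (Bool × Bs ρ) = 2 * Nat.card (Bs ρ) := by
        rw [Nat.card_prod]; simp
      rw [← h3]
      have hch : ∀ r : ρ.range, ∃ g, ρ g = r.1 := fun r => r.2
      choose γ hγ using hch
      have hB : ∀ r : ρ.range, ¬ (∀ x, σ (γ r) x = x) → b (γ r * τ) ∈ Bs ρ := fun r hr =>
        ⟨γ r * τ, hroot _ ((hor (γ r)).resolve_left hr)⟩
      refine Nat.card_le_card_of_injective (fun r : ρ.range =>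
        if h : ∀ x, σ (γ r) x = x then ((false, ⟨b (γ r), γ r, hroot _ h⟩) : Bool × Bs ρ)
        else (true, ⟨b (γ r * τ), hB r h⟩)) ?_
      intro r r' h
      apply Subtype.ext
      apply Equiv.ext
      intro v
      rw [← hγ r, ← hγ r']
      by_cases h1 : ∀ x, σ (γ r) x = x
      · by_cases h1' : ∀ x, σ (γ r') x = x
        · simp only [h1, h1', implies_true, dite_true, Prod.mk.injEq, true_and] at h
          have h' : b (γ r) = b (γ r') := congrArg Subtype.val h
          rw [hroot _ h1, hroot _ h1', h']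
        · simp [h1, h1'] at h
      · by_cases h1' : ∀ x, σ (γ r') x = x
        · simp [h1, h1'] at h
        · simp only [h1, h1', dite_false, Prod.mk.injEq, true_and] at h
          have h' : b (γ r * τ) = b (γ r' * τ) := congrArg Subtype.val h
          have e1 := hroot _ ((hor (γ r)).resolve_left h1)
          have e2 := hroot _ ((hor (γ r')).resolve_left h1')
          have e3 : ∀ w, ρ (γ r) (ρ τ w) = ρ (γ r') (ρ τ w) := fun w => by
            have := (e1 w).trans (e2 w ▸ (by rw [h']) : ![w 0 + b (γ r * τ) * w 1, w 1] = ρ (γ r' * τ) w)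
            simpa only [map_mul, Equiv.Perm.mul_apply] using this
          have := e3 (ρ τ v)
          rwa [h2 τ] at this
    have hfin : Nat.card ρ.range * Nat.card {v : Fin 2 → F // ∀ g, ρ g v = v} ≤ 2 * (f * f) := by
      by_cases hb : ∀ c ∈ Bs ρ, c = 0
      · have h3 : Nat.card (Bs ρ) ≤ 1 := by
          have : Subsingleton (Bs ρ) := ⟨fun x y => Subtype.ext ((hb x x.2).trans (hb y y.2).symm)⟩
          exact Finite.card_le_one_iff_subsingleton.mpr this
        have h4 : Nat.card {v : Fin 2 → F // ∀ g, ρ g v = v} ≤ f * f := by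
          have hs1 := card_sol σ₀ (a τ) 1 ha
          have hs2 := card_sol σ₀ (d τ) 1 hd
          simp only [one_mul] at hs1 hs2
          have hfix : ∀ v : {v : Fin 2 → F // ∀ g, ρ g v = v}, a τ * σ₀ (v.1 0) + b τ * σ₀ (v.1 1) = v.1 0 ∧
              d τ * σ₀ (v.1 1) = v.1 1 := by
            rintro ⟨v, hv⟩
            have h5 := hv τ
            rw [hS τ] at h5
            exact ⟨by simpa using congrFun h5 0, by simpa using congrFun h5 1⟩
          -- a choice of `v 0` for every `v 1`
          let pk : F → F := fun y =>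
            if h : ∃ v : {v : Fin 2 → F // ∀ g, ρ g v = v}, v.1 1 = y then h.choose.1 0 else 0
          have hpk : ∀ v : {v : Fin 2 → F // ∀ g, ρ g v = v},
              a τ * σ₀ (pk (v.1 1)) + b τ * σ₀ (v.1 1) = pk (v.1 1) := by
            intro v
            have hex : ∃ w : {v : Fin 2 → F // ∀ g, ρ g v = v}, w.1 1 = v.1 1 := ⟨v, rfl⟩
            have h6 : pk (v.1 1) = hex.choose.1 0 := dif_pos hex
            rw [h6]
            have h7 := (hfix hex.choose).1
            rwa [hex.choose_spec] at h7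
          have h5 : Nat.card {v : Fin 2 → F // ∀ g, ρ g v = v} ≤
              Nat.card ({x : F // d τ * σ₀ x = x} × {x : F // a τ * σ₀ x = x}) := by
            refine Nat.card_le_card_of_injective (fun v => (⟨v.1 1, (hfix v).2⟩,
              ⟨v.1 0 - pk (v.1 1), ?_⟩)) ?_
            · have h6 := (hfix v).1
              have h7 := hpk v
              rw [map_sub]
              linear_combination h6 - h7
            · intro v w h
              simp only [Prod.mk.injEq, Subtype.mk.injEq] at h
              apply Subtype.ext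
              funext i
              fin_cases i
              · have h6 := h.2
                rw [h.1] at h6
                simpa using h6
              · exact h.1
          rw [Nat.card_prod] at h5
          exact h5.trans (Nat.mul_le_mul hs2 hs1)
        calc _ ≤ (2 * 1) * (f * f) := Nat.mul_le_mul (hcard.trans (Nat.mul_le_mul_left _ h3)) h4
          _ = _ := by ring
      · push Not at hb
        obtain ⟨c, ⟨g₀, hg₀⟩, hc⟩ := hb
        have h3 : Nat.card (Bs ρ) ≤ f := by
          have hs := card_sol σ₀ (a τ) (d τ) ha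
          refine le_trans ?_ hs
          refine Nat.card_le_card_of_injective (fun c : Bs ρ => (⟨c.1, ?_⟩ : {x : F // a τ * σ₀ x = d τ * x})) ?_
          · obtain ⟨c, g, hg⟩ := c
            have h5 := congrFun (hcomm τ g ![0, 1]) 0
            rw [hg, hg, hS τ, hS τ] at h5
            simp only [Matrix.cons_val_zero, Matrix.cons_val_one, zero_add, mul_one, map_one, map_zero, mul_zero]
              at h5
            linear_combination h5
          · intro x y h
            simp only [Subtype.mk.injEq] at h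
            exact Subtype.ext h
        have h4 : Nat.card {v : Fin 2 → F // ∀ g, ρ g v = v} ≤ f := by
          have hs := card_sol σ₀ (a τ) 1 ha
          simp only [one_mul] at hs
          refine le_trans ?_ hs
          have h5 : ∀ v : {v : Fin 2 → F // ∀ g, ρ g v = v}, v.1 1 = 0 := by
            rintro ⟨v, hv⟩
            have := congrFun (hv g₀) 0
            rw [hg₀] at this
            simp only [Matrix.cons_val_zero, add_eq_left, mul_eq_zero] at this
            exact this.resolve_left hc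
          refine Nat.card_le_card_of_injective (fun v => ⟨v.1 0, ?_⟩) ?_
          · have h6 := congrFun (v.2 τ) 0
            rw [hS τ, h5 v] at h6
            simpa using h6
          · intro v w h
            simp only [Subtype.mk.injEq] at h
            apply Subtype.ext
            funext i
            fin_cases i
            · exact h
            · simp [h5 v, h5 w]
        calc _ ≤ (2 * f) * f := Nat.mul_le_mul (hcard.trans (Nat.mul_le_mul_left _ h3)) h4
          _ = _ := by ring
    have hlt : Nat.card ρ.range * Nat.card {v : Fin 2 → F // ∀ g, ρ g v = v} < Nat.card F ^ 2 := by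
      have h4 : 4 ≤ Nat.card F := le_trans (Nat.mul_le_mul hf3 hf3) hf2
      calc _ ≤ 2 * (f * f) := hfin
        _ ≤ 2 * Nat.card F := Nat.mul_le_mul_left _ hf2
        _ < Nat.card F ^ 2 := by rw [pow_two]; exact Nat.mul_lt_mul_of_pos_right (by omega) (by omega)
    exact ⟨hlt.le, fun h => absurd h hlt.ne⟩

end cnt

end Cfsg.Agent.Omega.NOThreeL.RWide.SemiCnt

end
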