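import Cfsg.Agent.Omega.NOThreeL.RWide.Perm
import Cfsg.Agent.Mrg.Omega.NOThreeL.EndFive


/-!
# LEMMA PERM: Frattini; the group `G₀ = ⟨C_G(Z_l : l ≠ i) : i⟩` (helper892 #23931 (6))

* `Fr.perm_all` : `B = S ∩ C(⨆ Z)`: every `x ∈ D` permutes the `Z b` of each colour;
* `GZ Z := ⨆ i, C_G(⨆_{l ≠ i} Z l)`; `le_normalizer_GZ` : whoever permutes the `Z b` normalises it;
* `no_two` : `GZ Z` normalises no 2-group `≠ 1`, if a group `X ≤ N(GZ Z)` lies in no 2-local.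
-/

set_option autoImplicit false
set_option linter.unusedSectionVars false

namespace Cfsg.Agent.Omega.NOThreeL.RWide

open Subgroup Cfsg.Agent.ZN.ChoiceBase
open Cfsg.Agent.Omega.OmThm.SideBase (card_sup_comm)

universe u

variable {G : Type u} [Group G] [Finite G] {ι : Type*} [Finite ι]

/-- **LEMMA PERM for all of `D`** -/
theorem Fr.perm_all {S : Sylow 2 G} {O Q D : Subgroup G} {V Z A : ι → Subgroup G} {col : ι → Bool}
    {N : Bool → Subgroup G}
    (h : Fr O Q ((S : Subgroup G) ⊓ centralizer ((⨆ i, Z i : Subgroup G) : Set G)) V Z A col N)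
    (hSn : (S : Subgroup G) ≤ normalizer ((⨆ i, Z i : Subgroup G) : Set G))
    (hDn : D ≤ normalizer ((⨆ i, Z i : Subgroup G) : Set G))
    (hCD : centralizer ((⨆ i, Z i : Subgroup G) : Set G) ≤ D)
    (hD : ∀ x ∈ D, x ∈ normalizer (((S : Subgroup G) ⊓ centralizer ((⨆ i, Z i : Subgroup G) : Set G) : Subgroup G) : Set G) →
      Mv ((S : Subgroup G) ⊓ centralizer ((⨆ i, Z i : Subgroup G) : Set G)) V Z col N x)
    {x : G} (hx : x ∈ D) (b : ι) : ∃ c, col c = col b ∧ cj x (Z b) = Z c := by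
  have hnc : normalizer ((⨆ i, Z i : Subgroup G) : Set G) ≤
      normalizer ((centralizer ((⨆ i, Z i : Subgroup G) : Set G) : Subgroup G) : Set G) := by
    intro y hy
    apply mem_normalizer_iff_cj.2
    rw [cj_centralizer, cj_eq_of_mem_normalizer hy]
  obtain ⟨c, hc, hcn⟩ := EndFive.frattini (S := S) (hSn.trans hnc) (hnc (hDn hx))
  have hcx : c⁻¹ * x ∈ D := mul_mem (inv_mem (hCD hc)) hx
  obtain ⟨d, hd, e⟩ := h.perm (hD _ hcx hcn) b
  refine ⟨d, hd, ?_⟩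
  have e1 : cj x (Z b) = cj c (cj (c⁻¹ * x) (Z b)) := by
    rw [cj_cj, mul_inv_cancel_left]
  rw [e1, e]
  refine cj_eq_of_mem_normalizer (centralizer_le_normalizer _ (mem_centralizer_iff.2 fun z hz => ?_))
  exact mem_centralizer_iff.1 hc z ((le_iSup Z d) hz)

/-- `⟨C_G(Z_l : l ≠ i) : i⟩` -/
def GZ (Z : ι → Subgroup G) : Subgroup G := ⨆ i, centralizer ((⨆ (l) (_ : l ≠ i), Z l : Subgroup G) : Set G)

/-- Whoever permutes the `Z b` normalises `GZ Z`. -/
theorem mem_normalizer_GZ {Z : ι → Subgroup G} (hinj : Function.Injective Z) {x : G}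
    (hx : ∀ b, ∃ c, cj x (Z b) = Z c) : x ∈ normalizer (GZ Z : Set G) := by
  classical
  choose σ hσ using hx
  have hσi : Function.Injective σ := by
    intro b b' hbb
    apply hinj
    have h1 : cj x (Z b) = cj x (Z b') := by rw [hσ, hσ, hbb]
    have h2 : cj x⁻¹ (cj x (Z b)) = cj x⁻¹ (cj x (Z b')) := by rw [h1]
    rwa [cj_cj, cj_cj, inv_mul_cancel, cj_one, cj_one] at h2
  have hσs : Function.Surjective σ := Finite.surjective_of_injective hσi
  have hcjsup : ∀ f : ι → Subgroup G, cj x (⨆ i, f i) = ⨆ i, cj x (f i) := fun f => map_iSup _ _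
  have hcjsup2 : ∀ i, cj x (⨆ (l) (_ : l ≠ i), Z l) = ⨆ (l) (_ : l ≠ σ i), Z l := by
    intro i
    have h1 : cj x (⨆ (l) (_ : l ≠ i), Z l) = ⨆ (l) (_ : l ≠ i), cj x (Z l) := by
      change Subgroup.map _ _ = _
      rw [Subgroup.map_iSup]
      refine iSup_congr fun l => ?_
      rw [Subgroup.map_iSup]
    rw [h1]
    apply le_antisymm
    · refine iSup₂_le fun l hl => ?_
      rw [hσ]
      exact le_iSup₂ (f := fun l (_ : l ≠ σ i) => Z l) (σ l) fun h0 => hl (hσi h0)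
    · refine iSup₂_le fun l hl => ?_
      obtain ⟨m, rfl⟩ := hσs l
      rw [← hσ]
      exact le_iSup₂ (f := fun l (_ : l ≠ i) => cj x (Z l)) m fun h0 => hl (by rw [h0])
  rw [mem_normalizer_iff_cj, GZ, hcjsup]
  have h2 : ∀ i, cj x (centralizer ((⨆ (l) (_ : l ≠ i), Z l : Subgroup G) : Set G)) =
      centralizer ((⨆ (l) (_ : l ≠ σ i), Z l : Subgroup G) : Set G) := fun i => by
    rw [cj_centralizer, hcjsup2]
  simp_rw [h2]
  apply le_antisymm
  · exact iSup_le fun i => le_iSup (fun j => centralizer ((⨆ (l) (_ : l ≠ j), Z l : Subgroup G) : Set G)) (σ i)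
  · refine iSup_le fun j => ?_
    obtain ⟨i, rfl⟩ := hσs j
    exact le_iSup (fun j => centralizer ((⨆ (l) (_ : l ≠ σ j), Z l : Subgroup G) : Set G)) i

theorem injective_of_ind {V Z : ι → Subgroup G} (hi : iSupIndep V) (hZV : ∀ i, Z i ≤ V i) (hZ : ∀ i, Z i ≠ ⊥) :
    Function.Injective Z := by
  intro i j hij
  by_contra hne
  apply hZ i
  have h1 : Disjoint (V i) (V j) := hi.pairwiseDisjoint hne
  rw [eq_bot_iff]
  exact h1 (hZV i) (hij ▸ hZV j)

/-- **(6)** : `GZ Z` normalises no 2-group `≠ 1`. -/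
theorem no_two {Z : ι → Subgroup G} [Nonempty ι] {B X U : Subgroup G} (hB2 : IsPGroup 2 B)
    (hBC : B ≤ centralizer ((⨆ i, Z i : Subgroup G) : Set G))
    (hmax : ∀ T : Subgroup G, IsPGroup 2 T → B ≤ T → T ≤ centralizer ((⨆ i, Z i : Subgroup G) : Set G) → T ≤ B)
    (hZB : (⨆ i, Z i) ≤ B) (hX : X ≤ normalizer (GZ Z : Set G))
    (hnl : ∀ R : Subgroup G, IsPGroup 2 R → R ≠ ⊥ → ¬ X ≤ normalizer (R : Set G))
    (hU2 : IsPGroup 2 U) (hU1 : U ≠ ⊥) (hU : GZ Z ≤ normalizer (U : Set G)) : False := by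
  have hf : Fact (Nat.Prime 2) := ⟨Nat.prime_two⟩
  obtain ⟨i₀⟩ := ‹Nonempty ι›
  have hBG : B ≤ GZ Z := by
    refine hBC.trans (le_trans ?_
      (le_iSup (fun i => centralizer ((⨆ (l) (_ : l ≠ i), Z l : Subgroup G) : Set G)) i₀))
    exact centralizer_le (iSup₂_le fun l _ => le_iSup Z l)
  -- `C_U(B) ≠ 1`
  have hne := PLocal.OffenderStep.inf_centralizer_ne_bot U B hU2 hB2 (hBG.trans hU) hU1
  obtain ⟨⟨u, hu, huC⟩, hu1'⟩ := (Subgroup.ne_bot_iff_exists_ne_one).1 hne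
  have hu1 : u ≠ 1 := fun h0 => hu1' (Subtype.ext h0)
  have hT2 : IsPGroup 2 ↥(B ⊔ zpowers u) := by
    refine IsPGroup.to_sup_of_normal_left' hB2 (hU2.to_le (zpowers_le.2 hu)) ?_
    exact zpowers_le.2 (centralizer_le_normalizer _ huC)
  have hTB : B ⊔ zpowers u ≤ B := hmax _ hT2 le_sup_left
    (sup_le hBC (zpowers_le.2 (centralizer_le hZB huC)))
  have huG : u ∈ GZ Z := hBG (hTB ((le_sup_right : zpowers u ≤ _) (mem_zpowers u)))
  set R := ZN.o2 (GZ Z) with hR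
  have hle : U ⊓ GZ Z ≤ R := by
    refine MinSimple.VModule.le_o2 inf_le_right (hU2.to_le inf_le_left) ?_
    intro g hg
    rw [mem_normalizer_iff]
    intro y
    have h1 := (mem_normalizer_iff.1 (hU hg) y)
    refine ⟨fun hy => ⟨h1.1 hy.1, (GZ Z).mul_mem ((GZ Z).mul_mem hg hy.2) ((GZ Z).inv_mem hg)⟩,
      fun hy => ⟨h1.2 hy.1, ?_⟩⟩
    have h2 : g⁻¹ * (g * y * g⁻¹) * g ∈ GZ Z :=
      (GZ Z).mul_mem ((GZ Z).mul_mem ((GZ Z).inv_mem hg) hy.2) hg
    have e : g⁻¹ * (g * y * g⁻¹) * g = y := by group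
    rwa [e] at h2
  refine hnl R (MinSimple.VModule.o2_isPGroup _) ?_ (hX.trans (ZN.normalizer_le_normalizer_o2 _))
  intro h0
  rw [h0] at hle
  exact hu1 ((mem_bot).1 (hle ⟨hu, huG⟩))

end Cfsg.Agent.Omega.NOThreeL.RWide
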