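import Cfsg.Agent.Mrg.Omega.NOThreeL.RWide.TFm
import Cfsg.Agent.Omega.NOThreeL.RWide.TWc


/-!
# `N_G(V)` permutes the blocks (helper655 #26581; hypothesis `hR` of helper51's `Bfr.hW`)

* `UU V R` : the kernel of `C(R) ∩ N(V)` on `V / R`;  `UU.act` : a `2`-element of `UU` acts on `V` as an element of a given
  Sylow subgroup of `UU`;
* `Tf.V_perm`, `TFm.V_perm`.
-/

set_option autoImplicit false
set_option linter.unusedSectionVars false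

namespace Cfsg.Agent.Omega.NOThreeL.RWide.VPerm

open Subgroup Cfsg Cfsg.Agent.Omega.MinPar
open Cfsg.Agent.ZN (zc o2)
open Cfsg.Agent.ZN.ChoiceBase (cj cj_mono cj_inf cj_centralizer cj_eq_of_mem_normalizer mem_cj mem_normalizer_iff_cj
  cj_cj_inv cj_inv_cj cj_cj cj_one mem_zc isPGroup_cj card_cj)
open Cfsg.Agent.ZN.ChoiceSit (Syl syl_conj exists_syl)
open Cfsg.Agent.MinSimple.MinParabolic (IsMinPar le_of_forall)
open Cfsg.Agent.Omega.NOThreeL.RWide.TAct (TT BB Tf)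
open Cfsg.Agent.Omega.NOThreeL.RWide.TBlk (Bls)

universe u v

variable {G : Type u} [Group G] {ι : Type v}

/-- the kernel of `C(R) ∩ N(V)` on `V / R` -/
def UU (V R : Subgroup G) : Subgroup G where
  carrier := {g | g ∈ centralizer (R : Set G) ∧ g ∈ normalizer (V : Set G) ∧ ∀ v ∈ V, g * v * g⁻¹ * v⁻¹ ∈ R}
  one_mem' := ⟨one_mem _, one_mem _, fun v _ => by
    rw [one_mul, inv_one, mul_one, mul_inv_cancel]; exact one_mem _⟩
  mul_mem' := by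
    rintro g k ⟨hg1, hg2, hg3⟩ ⟨hk1, hk2, hk3⟩
    refine ⟨mul_mem hg1 hk1, mul_mem hg2 hk2, fun v hv => ?_⟩
    have h1 : g * (k * v * k⁻¹ * v⁻¹) * g⁻¹ = k * v * k⁻¹ * v⁻¹ := by
      rw [← mem_centralizer_iff.1 hg1 _ (hk3 v hv), mul_inv_cancel_right]
    have e : g * k * v * (g * k)⁻¹ * v⁻¹ = g * (k * v * k⁻¹ * v⁻¹) * g⁻¹ * (g * v * g⁻¹ * v⁻¹) := by group
    rw [e, h1]
    exact mul_mem (hk3 v hv) (hg3 v hv)
  inv_mem' := by
    rintro g ⟨hg1, hg2, hg3⟩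
    refine ⟨inv_mem hg1, inv_mem hg2, fun v hv => ?_⟩
    have hw : g⁻¹ * v * g ∈ V := (mem_normalizer_iff'' (g := g)).1 hg2 v |>.1 hv
    have h0 := hg3 _ hw
    have h1 : g⁻¹ * (g * (g⁻¹ * v * g) * g⁻¹ * (g⁻¹ * v * g)⁻¹)⁻¹ * g =
        (g * (g⁻¹ * v * g) * g⁻¹ * (g⁻¹ * v * g)⁻¹)⁻¹ := by
      rw [mul_assoc, mem_centralizer_iff.1 hg1 _ (inv_mem h0), inv_mul_cancel_left]
    have e : g⁻¹ * v * g⁻¹⁻¹ * v⁻¹ = (g * (g⁻¹ * v * g) * g⁻¹ * (g⁻¹ * v * g)⁻¹)⁻¹ := by group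
    rw [e]
    exact inv_mem h0

theorem mem_UU {V R : Subgroup G} {g : G} : g ∈ UU V R ↔
    g ∈ centralizer (R : Set G) ∧ g ∈ normalizer (V : Set G) ∧ ∀ v ∈ V, g * v * g⁻¹ * v⁻¹ ∈ R := Iff.rfl

/-- `UU` is normal in `C(R) ∩ N(V)` -/
theorem UU_conj {V R : Subgroup G} {d g : G} (hd1 : d ∈ centralizer (R : Set G)) (hd2 : d ∈ normalizer (V : Set G))
    (hg : g ∈ UU V R) : d * g * d⁻¹ ∈ UU V R := by
  obtain ⟨hg1, hg2, hg3⟩ := hg
  refine ⟨mul_mem (mul_mem hd1 hg1) (inv_mem hd1), mul_mem (mul_mem hd2 hg2) (inv_mem hd2), fun v hv => ?_⟩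
  have hw : d⁻¹ * v * d ∈ V := (mem_normalizer_iff'' (g := d)).1 hd2 v |>.1 hv
  have h0 := hg3 _ hw
  have h1 : d * (g * (d⁻¹ * v * d) * g⁻¹ * (d⁻¹ * v * d)⁻¹) * d⁻¹ = g * (d⁻¹ * v * d) * g⁻¹ * (d⁻¹ * v * d)⁻¹ := by
    rw [← mem_centralizer_iff.1 hd1 _ h0, mul_inv_cancel_right]
  have e : d * g * d⁻¹ * v * (d * g * d⁻¹)⁻¹ * v⁻¹ = d * (g * (d⁻¹ * v * d) * g⁻¹ * (d⁻¹ * v * d)⁻¹) * d⁻¹ := by
    group
  rw [e, h1]
  exact h0

/-- conjugate elements of `UU` act in the same way on `V` -/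
theorem UU_act {V R : Subgroup G} (hRV : R ≤ V) (hc : ∀ v ∈ V, ∀ w ∈ V, v * w = w * v) {x b : G} (hx : x ∈ UU V R)
    (hb : b ∈ UU V R) {v : G} (hv : v ∈ V) : x * b * x⁻¹ * v * (x * b * x⁻¹)⁻¹ = b * v * b⁻¹ := by
  obtain ⟨hx1, hx2, hx3⟩ := hx
  obtain ⟨hb1, hb2, hb3⟩ := hb
  obtain ⟨z, hz⟩ : ∃ z, z = x⁻¹ * v * x⁻¹⁻¹ * v⁻¹ := ⟨_, rfl⟩
  have hxi : x⁻¹ ∈ UU V R := (UU V R).inv_mem ⟨hx1, hx2, hx3⟩
  have hzR : z ∈ R := hz ▸ (mem_UU.1 hxi).2.2 v hv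
  obtain ⟨y, hy⟩ : ∃ y, y = b * v * b⁻¹ * v⁻¹ := ⟨_, rfl⟩
  have hyR : y ∈ R := hy ▸ hb3 v hv
  have cx : ∀ r ∈ R, x * r * x⁻¹ = r := fun r hr => by
    rw [← mem_centralizer_iff.1 hx1 r hr, mul_inv_cancel_right]
  have cb : ∀ r ∈ R, b * r * b⁻¹ = r := fun r hr => by
    rw [← mem_centralizer_iff.1 hb1 r hr, mul_inv_cancel_right]
  have e1 : x⁻¹ * v * x = z * v := by rw [hz]; group
  have e2 : x * v * x⁻¹ = z⁻¹ * v := by
    have h1 : v = x * (z * v) * x⁻¹ := by rw [← e1]; group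
    have h2 : x * (z * v) * x⁻¹ = z * (x * v * x⁻¹) := by
      calc x * (z * v) * x⁻¹ = (x * z * x⁻¹) * (x * v * x⁻¹) := by group
        _ = z * (x * v * x⁻¹) := by rw [cx z hzR]
    rw [h2] at h1
    rw [h1, inv_mul_cancel_left, ← h1]
  have e3 : b * v * b⁻¹ = y * v := by rw [hy]; group
  calc x * b * x⁻¹ * v * (x * b * x⁻¹)⁻¹ = x * (b * (x⁻¹ * v * x) * b⁻¹) * x⁻¹ := by group
    _ = x * (b * (z * v) * b⁻¹) * x⁻¹ := by rw [e1]
    _ = x * ((b * z * b⁻¹) * (b * v * b⁻¹)) * x⁻¹ := by group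
    _ = x * (z * (y * v)) * x⁻¹ := by rw [cb z hzR, e3]
    _ = (x * z * x⁻¹) * ((x * y * x⁻¹) * (x * v * x⁻¹)) := by group
    _ = z * (y * (z⁻¹ * v)) := by rw [cx z hzR, cx y hyR, e2]
    _ = z * z⁻¹ * (y * v) := by
      have h3 : y * z⁻¹ = z⁻¹ * y := hc y (hRV hyR) z⁻¹ (inv_mem (hRV hzR))
      rw [← mul_assoc y, h3]; group
    _ = b * v * b⁻¹ := by rw [mul_inv_cancel, one_mul, e3]

/-- squares of elements of `UU` centralise `V` -/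
theorem UU_sq {V R : Subgroup G} (h2 : ∀ v ∈ R, v ^ 2 = 1) {u : G} (hu : u ∈ UU V R) {v : G} (hv : v ∈ V) :
    u ^ 2 * v * (u ^ 2)⁻¹ = v := by
  obtain ⟨hu1, hu2, hu3⟩ := hu
  obtain ⟨y, hy⟩ : ∃ y, y = u * v * u⁻¹ * v⁻¹ := ⟨_, rfl⟩
  have hyR : y ∈ R := hy ▸ hu3 v hv
  have e3 : u * v * u⁻¹ = y * v := by rw [hy]; group
  have cu : u * y * u⁻¹ = y := by rw [← mem_centralizer_iff.1 hu1 y hyR, mul_inv_cancel_right]
  calc u ^ 2 * v * (u ^ 2)⁻¹ = u * (u * v * u⁻¹) * u⁻¹ := by rw [pow_two]; group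
    _ = u * (y * v) * u⁻¹ := by rw [e3]
    _ = (u * y * u⁻¹) * (u * v * u⁻¹) := by group
    _ = y ^ 2 * v := by rw [cu, e3, pow_two, mul_assoc]
    _ = v := by rw [h2 y hyR, one_mul]

/-- `UU ≤ N(M)` for every `M ≤ V` normalised by a Sylow `2`-subgroup of `UU` -/
theorem UU_le [Finite G] {V R B M : Subgroup G} (hRV : R ≤ V) (hc : ∀ v ∈ V, ∀ w ∈ V, v * w = w * v)
    (h2 : ∀ v ∈ R, v ^ 2 = 1) (hB : Syl B (UU V R)) (hM : M ≤ V) (hBM : B ≤ normalizer (M : Set G)) :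
    UU V R ≤ normalizer (M : Set G) := by
  have key : ∀ t ∈ UU V R, IsPGroup 2 (zpowers t) → t ∈ normalizer (M : Set G) := by
    intro t ht h3
    obtain ⟨Q, hQ, hle⟩ := exists_syl h3 (zpowers_le.2 ht)
    obtain ⟨x, hx, rfl⟩ := syl_conj hB hQ
    obtain ⟨b, hb, e⟩ := hle (mem_zpowers t)
    have e' : t = x * b * x⁻¹ := e.symm
    refine Cfsg.Agent.ZN.ChoiceBase.mem_normalizer_of_cj_le ?_
    rintro _ ⟨m, hm, rfl⟩
    change t * m * t⁻¹ ∈ M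
    rw [e', UU_act hRV hc hx (hB.1 hb) (hM hm)]
    exact (mem_normalizer_iff.1 (hBM hb) m).1 hm
  intro u hu
  obtain ⟨k, m, hm, hkm⟩ := Nat.exists_eq_two_pow_mul_odd (orderOf_pos u).ne'
  have h4 : u ^ 2 ∈ normalizer (M : Set G) := by
    refine Cfsg.Agent.ZN.ChoiceBase.mem_normalizer_of_cj_le ?_
    rintro _ ⟨w, hw, rfl⟩
    change u ^ 2 * w * (u ^ 2)⁻¹ ∈ M
    rw [UU_sq h2 hu (hM hw)]
    exact hw
  have h5 : u ^ m ∈ normalizer (M : Set G) := by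
    refine key _ (pow_mem hu m) ?_
    have h6 : (u ^ m) ^ 2 ^ k = 1 := by
      rw [← pow_mul, mul_comm, ← hkm, pow_orderOf_eq_one]
    intro y
    obtain ⟨j, hj⟩ := mem_zpowers_iff.1 y.2
    refine ⟨k, Subtype.ext ?_⟩
    rw [SubmonoidClass.coe_pow, ← hj, ← zpow_natCast, ← zpow_mul, mul_comm, zpow_mul, zpow_natCast, h6, one_zpow]
    rfl
  obtain ⟨j, hj⟩ := hm
  have h7 : u = u ^ m * ((u ^ 2) ^ j)⁻¹ := by
    rw [hj, pow_succ', pow_mul, mul_inv_cancel_right]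
  rw [h7]
  exact mul_mem h5 (inv_mem (pow_mem h4 j))

/-- the elements which permute the blocks -/
def PB [Finite ι] (N : ι → Subgroup G) (inj : ∀ b c, N b = N c → b = c) : Subgroup G where
  carrier := {g | ∀ b, ∃ c, cj g (N b) = N c}
  one_mem' := fun b => ⟨b, cj_one _⟩
  mul_mem' := by
    intro g k hg hk b
    obtain ⟨c, hc⟩ := hk b
    obtain ⟨d, hd⟩ := hg c
    exact ⟨d, by rw [← cj_cj, hc, hd]⟩
  inv_mem' := by
    intro g hg b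
    choose f hf using hg
    have hfi : Function.Injective f := by
      intro b c e
      apply inj
      have h1 : cj g (N b) = cj g (N c) := by rw [hf b, hf c, e]
      have h2 := congrArg (cj g⁻¹) h1
      rwa [cj_inv_cj, cj_inv_cj] at h2
    obtain ⟨c, rfl⟩ := (Finite.injective_iff_surjective.1 hfi) b
    exact ⟨c, by rw [← hf c, cj_inv_cj]⟩

variable [Finite G] {S : Sylow 2 G} {V : Subgroup G} {N l E : ι → Subgroup G}

/-- **`N_G(V)` permutes the blocks.** -/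
theorem _root_.Cfsg.Agent.Omega.NOThreeL.RWide.TAct.Tf.V_perm [Finite ι] (h : Tf S V N l)
    (hpar : ∀ R, IsPar (S : Subgroup G) R → R ≤ centralizer (zc (S : Subgroup G) : Set G) ∨
      ∀ r ∈ R, ∀ b, ∃ c, cj r (N b) = N c)
    (hC : ∀ R, IsPar (S : Subgroup G) R → R ≤ centralizer (zc (S : Subgroup G) : Set G) →
      R ≤ normalizer (V : Set G) → R ≤ normalizer ((⨆ b, l b : Subgroup G) : Set G))
    (hU : ∀ s ∈ BB (S : Subgroup G) l, ∀ v ∈ V, s * v * s⁻¹ * v⁻¹ ∈ ⨆ b, l b) :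
    ∀ g ∈ normalizer (V : Set G), ∀ b, ∃ c, cj g (N b) = N c := by
  rcases isEmpty_or_nonempty ι with hι | hι
  · exact fun _ _ b => hι.elim b
  have hV1 : V ≠ ⊥ := fun e => h.R_ne (by rw [eq_bot_iff, ← e]; exact h.RV)
  have hX : ∀ x ∈ normalizer (BB (S : Subgroup G) l : Set G), x ∈ normalizer (V : Set G) →
      x ∈ PB N fun _ _ e => h.N_inj e := fun x h1 h2 b => by
    obtain ⟨c, -, hc⟩ := h.permX x h1 h2 b
    exact ⟨c, hc⟩
  have hcom : ∀ v ∈ V, ∀ w ∈ V, v * w = w * v := fun v hv w hw => mem_centralizer_iff.1 (h.com hw) v hv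
  have hBU : BB (S : Subgroup G) l ≤ UU V (⨆ b, l b) := fun s hs => ⟨hs.2, h.SV hs.1, hU s hs⟩
  -- `B` is a Sylow `2`-subgroup of `UU`
  have hsB : Syl (BB (S : Subgroup G) l) (UU V (⨆ b, l b)) := by
    refine ⟨hBU, h.B2, fun Q hQ hQ2 hBQ => ?_⟩
    have h1 := SQ1.FFOne.syl_inf (T := (S : Subgroup G)) (H := normalizer ((⨆ b, l b : Subgroup G) : Set G))
      (N := centralizer ((⨆ b, l b : Subgroup G) : Set G)) (Tf.sylS h.SR) (centralizer_le_normalizer _)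
      (fun g hg n hn => by
        have h2 : cj g (centralizer ((⨆ b, l b : Subgroup G) : Set G)) = centralizer ((⨆ b, l b : Subgroup G) : Set G) := by
          rw [cj_centralizer, cj_eq_of_mem_normalizer hg]
        rw [← h2]
        exact ⟨n, hn, rfl⟩)
    exact h1.2.2 Q (fun q hq => (mem_UU.1 (hQ hq)).1) hQ2 hBQ
  have hUN : ∀ u ∈ UU V (⨆ b, l b), u ∈ PB N fun _ _ e => h.N_inj e := by
    intro u hu b
    refine ⟨b, cj_eq_of_mem_normalizer (UU_le h.RV hcom (fun v hv => h.sq v (h.RV hv)) hsB (h.NV b) ?_ hu)⟩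
    exact fun s hs => mem_iInf.1 (h.BT hs).2 b
  have hD : ∀ d ∈ centralizer ((⨆ b, l b : Subgroup G) : Set G), d ∈ normalizer (V : Set G) →
      d ∈ PB N fun _ _ e => h.N_inj e := by
    intro d hd hdV
    have h1 : cj d (BB (S : Subgroup G) l) ≤ UU V (⨆ b, l b) := by
      rintro _ ⟨s, hs, rfl⟩
      exact UU_conj hd hdV (hBU hs)
    obtain ⟨Q, hQ, hle⟩ := exists_syl (isPGroup_cj d h.B2) h1
    obtain ⟨u, hu, rfl⟩ := syl_conj hsB hQ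
    have h3 : cj (u⁻¹ * d) (BB (S : Subgroup G) l) ≤ BB (S : Subgroup G) l := by
      have := cj_mono u⁻¹ hle
      rwa [cj_inv_cj, cj_cj] at this
    have h4 : u⁻¹ * d ∈ normalizer (BB (S : Subgroup G) l : Set G) :=
      mem_normalizer_iff_cj.2 (Subgroup.eq_of_le_of_card_ge h3 (by rw [card_cj]))
    have h5 := mul_mem (hUN u hu) (hX _ h4 (mul_mem (inv_mem (mem_UU.1 hu).2.1) hdV))
    rwa [mul_inv_cancel_left] at h5
  have key : normalizer (V : Set G) ≤ PB N fun _ _ e => h.N_inj e := by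
    refine le_of_forall h.SV ?_ fun R hR hRV => ?_
    · rintro g ⟨hgV, hgS⟩
      exact hX g (h.nS_nB hgS) hgV
    · have hR' := h.isPar_of hR h.V2 hV1 hRV
      rcases hpar R hR' with h1 | h1
      · intro r hr
        obtain ⟨d, hd, hdR, n, hn, hnR, rfl⟩ := h.frattini hR.le (hC R hR' h1 hRV) hr
        exact mul_mem (hD d hd (hRV hdR)) (hX n hn (hRV hnR))
      · exact h1
  exact key

/-- `B` acts trivially on `V / ∏ l b` -/
theorem _root_.Cfsg.Agent.Omega.NOThreeL.RWide.TBlk.Bls.comm_mem {S V : Subgroup G} [Finite ι] (h : Bls S V N l E)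
    (hSV : S ≤ normalizer (V : Set G)) (hS : IsPGroup 2 S) {s : G} (hs : s ∈ BB S l) {v : G} (hv : v ∈ V) :
    s * v * s⁻¹ * v⁻¹ ∈ ⨆ b, l b := by
  obtain ⟨F, i1, i2, i3, x, y, hk⟩ := h.exists_kd
  obtain ⟨t, ht⟩ := hk.actB hS hs
  have h1 : s * v * s⁻¹ ∈ V := (mem_normalizer_iff.1 (hSV hs.1) v).1 hv
  refine hk.memZ.2 ⟨mul_mem h1 (inv_mem hv), fun b => ?_⟩
  rw [hk.ym _ h1 _ (inv_mem hv), hk.y_inv hv, (ht v hv b).2, add_neg_cancel]

/-- **`N_G(V)` permutes the blocks.** `hC` : from `C_G(Ω₁Z(S)) ≤ N_G(∏ l b)`. -/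
theorem _root_.Cfsg.Agent.Omega.NOThreeL.RWide.TFm.V_perm [Finite ι] (h : TFm S V N l E)
    (permX : ∀ x ∈ normalizer (BB (S : Subgroup G) l : Set G), x ∈ normalizer (V : Set G) →
      ∀ b, ∃ c, cj x (l b) = l c ∧ cj x (N b) = N c)
    (hC : ∀ R, IsPar (S : Subgroup G) R → R ≤ centralizer (zc (S : Subgroup G) : Set G) →
      R ≤ normalizer (V : Set G) → R ≤ normalizer ((⨆ b, l b : Subgroup G) : Set G)) :
    ∀ g ∈ normalizer (V : Set G), ∀ b, ∃ c, cj g (N b) = N c :=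
  (h.tf (fun _ hg hB => h.toBls.wc hg hB) permX).V_perm (fun R hR => (h.par R hR).imp id And.right) hC
    fun _ hs _ hv => h.toBls.comm_mem ((le_normalizer : (S : Subgroup G) ≤ _).trans h.nS) S.isPGroup' hs hv

end Cfsg.Agent.Omega.NOThreeL.RWide.VPerm
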